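import Groth.Agent.H14.IsoNat.AutEquiv
import Groth.Agent.Lib.Fibred.DenseExt

/-!
A neutral gerbe with abelian automorphism sheaf is determined by its presheaf of isomorphism classes.
-/

set_option autoImplicit false
set_option backward.isDefEq.respectTransparency false
set_option backward.isDefEq.respectTransparency.types false
set_option maxHeartbeats 800000

universe u

open CategoryTheory CategoryTheory.Limits AlgebraicGeometry Groth.Agent.Lib.Fibred.Descent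

namespace Groth.Agent.H14.IsoNat.Twists

open Groth.Agent.Lib.Fibred.StackLemmas (isIso_of_vertical)
open FibCat (IsFibGrpd toSelf inertiaToBase)
open AlgSt (RepByAlgSpWith IsAlgStack)

variable {S : Scheme.{u}} {𝒳 𝒴 : AlgSt.Cat S} {φ : _root_.IsoNat.FIso 𝒳 𝒴}

theorem isAutAbelian_of_hom {X : Over S} {η : 𝒳.p.Fiber X} (hab : _root_.IsoNat.IsAutAbelian η)
    {V : Over S} {x : 𝒳.p.Fiber V} (m : x.1 ⟶ η.1) : _root_.IsoNat.IsAutAbelian x :=
  fun T' z a => hab T' z (a ≫ m)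

/-- The correspondence passes to pullbacks. -/
theorem Loc.pull {X V : Over S} {η : 𝒳.p.Fiber X} {η' : 𝒴.p.Fiber X} {v : V ⟶ X}
    {ηx : 𝒳.p.Fiber V} {ηy : 𝒴.p.Fiber V} (QX : ηx.1 ⟶ η.1) (hQX : 𝒳.p.IsHomLift v QX)
    (QY : ηy.1 ⟶ η'.1) (hQY : 𝒴.p.IsHomLift v QY) {s : η.1 ⟶ η.1} {a : η'.1 ⟶ η'.1}
    {s' : ηx.1 ⟶ ηx.1} {a' : ηy.1 ⟶ ηy.1} (es : s' ≫ QX = QX ≫ s)
    (ha' : 𝒴.p.IsHomLift (𝟙 V) a') (ea : a' ≫ QY = QY ≫ a) (h : Loc φ η η' s (𝟙 X) (𝟙 η'.1) a) :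
    Loc φ ηx ηy s' (𝟙 V) (𝟙 ηy.1) a' := by
  refine ⟨ha', ?_⟩
  intro R _ str k ηy₀ ρ hρ ηx₀ P hP u c hu hc eu ec ζu ξu A B hA hB G
  rw [Category.comp_id] at hP ec
  exact h.2 R str (k ≫ v) ηy₀ (ρ ≫ QY) inferInstance ηx₀ (P ≫ QX)
    (by rw [Category.comp_id]; infer_instance) u c hu hc
    (by rw [reassoc_of% eu, es, Category.assoc])
    (by rw [Category.comp_id, reassoc_of% ec, ea, Category.assoc]) ζu ξu A B hA hB G

theorem Loc.eq_id (h𝒳 : IsAlgStack Scheme.fppfPrecoverage 𝒳) (h𝒴 : IsAlgStack Scheme.fppfPrecoverage 𝒴)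
    (hi : RepByAlgSpWith AlgSp.IsSeparatedMor (inertiaToBase (toSelf 𝒴)))
    {X : Over S} {η : 𝒳.p.Fiber X} {η' : 𝒴.p.Fiber X} (hcy : _root_.IsoNat.IsAutAbelian η')
    {a : η'.1 ⟶ η'.1} (h : Loc φ η η' (𝟙 η.1) (𝟙 X) (𝟙 η'.1) a) : a = 𝟙 η'.1 := by
  have h1 : 𝒳.p.IsHomLift (𝟙 X) (𝟙 η.1) := IsHomLift.id η.2
  have h2 := Loc.mul h𝒳 h𝒴 hcy h1 h1 h h
  rw [Category.comp_id] at h2
  have := isIso_of_vertical h𝒴.isStack.1 a h.1
  rw [← cancel_epi a, Category.comp_id]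
  exact Loc.unique h𝒳 h𝒴 hi hcy h1 (IsHomLift.id η'.2) h2 h

/-- A neutral gerbe with abelian automorphism sheaf is determined by isomorphism classes. -/
theorem exists_isEquivOver_of_neutral (h𝒳 : IsAlgStack Scheme.fppfPrecoverage 𝒳)
    (h𝒴 : IsAlgStack Scheme.fppfPrecoverage 𝒴)
    (hi : RepByAlgSpWith AlgSp.IsSeparatedMor (inertiaToBase (toSelf 𝒳)))
    (hi' : RepByAlgSpWith AlgSp.IsSeparatedMor (inertiaToBase (toSelf 𝒴)))
    (φ : _root_.IsoNat.FIso 𝒳 𝒴) {B : Over S} (hB : IsTerminal B) (η₀ : 𝒳.p.Fiber B)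
    (hab : _root_.IsoNat.IsAutAbelian η₀)
    (hloc : ∀ x : 𝒳.obj, ∃ R ∈ AlgSp.J S (𝒳.p.obj x), ∀ ⦃V : Over S⦄ (f : V ⟶ 𝒳.p.obj x), R f →
      ∃ (z : 𝒳.obj) (t : z ⟶ x) (_ : z ⟶ η₀.1), 𝒳.p.IsHomLift f t) :
    ∃ e : 𝒳 ⥤ᵇ 𝒴, FibCat.IsEquivOver e := by
  have g𝒳 := h𝒳.isStack.1
  have g𝒴 := h𝒴.isStack.1
  obtain ⟨η₀', hη'⟩ := Cls.exists_cls (φ.toEquiv B (_root_.IsoNat.cls η₀))
  have hab' := isAutAbelian_of_cls φ h𝒳 h𝒴 hi' η₀ η₀' hη'.symm hab
  choose z p hp using fun V => Cls.exists_pullback g𝒳 (hB.from V) η₀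
  choose w q hq using fun V => Cls.exists_pullback g𝒴 (hB.from V) η₀'
  have hzw : ∀ V, φ.toEquiv V (_root_.IsoNat.cls (z V)) = _root_.IsoNat.cls (w V) := fun V =>
    clsEq_fiber g𝒴 hη'.symm (p V) (hp V) (q V) (hq V)
  have hcx : ∀ V, _root_.IsoNat.IsAutAbelian (z V) := fun V => isAutAbelian_of_hom hab (p V)
  have hcy : ∀ V, _root_.IsoNat.IsAutAbelian (w V) := fun V => isAutAbelian_of_hom hab' (q V)
  -- the two families have the same vertical morphisms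
  have hα : ∀ (V : Over S) (s : (z V).1 ⟶ (z V).1), 𝒳.p.IsHomLift (𝟙 V) s → ∃ a, 𝒴.p.IsHomLift (𝟙 V) a ∧
      Loc φ (z V) (w V) s (𝟙 V) (𝟙 (w V).1) a := fun V s hs =>
    Loc.exists_global h𝒳 h𝒴 hi' (hzw V) (hcy V) hs
  choose α hα hαl using hα
  have hlift : ∀ {V' V : Over S} (a : (z V').1 ⟶ (z V).1), ∃ u : V' ⟶ V, 𝒳.p.IsHomLift u a :=
    fun {V' V} a => ⟨eqToHom (z V').2.symm ≫ 𝒳.p.map a ≫ eqToHom (z V).2,
      IsHomLift.of_fac' _ _ _ (z V').2 (z V).2 (by simp)⟩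
  have hM : ∀ {V' V : Over S} (a : (z V').1 ⟶ (z V).1), ∃ b : (w V').1 ⟶ (w V).1,
      ∀ u : V' ⟶ V, 𝒳.p.IsHomLift u a → 𝒴.p.IsHomLift u b ∧
        ∀ (s : (z V').1 ⟶ (z V').1) (hs : 𝒳.p.IsHomLift (𝟙 V') s), s ≫ p V' = a ≫ p V →
          b ≫ q V = α V' s hs ≫ q V' := by
    intro V' V a
    obtain ⟨u, hu⟩ := hlift a
    have e : u ≫ hB.from V = hB.from V' := hB.hom_ext _ _
    have := hp V
    have l1 : 𝒳.p.IsHomLift (hB.from V') (a ≫ p V) := by rw [← e]; infer_instance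
    obtain ⟨s, hs, es⟩ := exists_factor g𝒳 (p V') (hp V') (a ≫ p V) l1
    have := hq V'
    have := hα V' s hs
    have l2 : 𝒴.p.IsHomLift (u ≫ hB.from V) (α V' s hs ≫ q V') := by rw [e]; infer_instance
    have := cart g𝒴 (q V) (hq V)
    refine ⟨Functor.IsStronglyCartesian.map 𝒴.p (hB.from V) (q V) (g := u) rfl (α V' s hs ≫ q V'),
      fun u' hu' => ?_⟩
    obtain rfl : u' = u := Lib.Fibred.DenseExt.base_eq hu' hu
    refine ⟨Functor.IsStronglyCartesian.map_isHomLift _ _ _ _ _, fun s' hs' es' => ?_⟩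
    obtain rfl : s' = s := ext_lift g𝒳 (p V') (hp V') hs' hs (es'.trans es.symm)
    exact Functor.IsStronglyCartesian.fac _ _ _ _ _
  choose M hMu using @hM
  have hs₀ : ∀ {V' V : Over S} (a : (z V').1 ⟶ (z V).1) (u : V' ⟶ V), 𝒳.p.IsHomLift u a →
      ∃ (s : (z V').1 ⟶ (z V').1) (hs : 𝒳.p.IsHomLift (𝟙 V') s), s ≫ p V' = a ≫ p V ∧
        M a ≫ q V = α V' s hs ≫ q V' := by
    intro V' V a u hu
    have e : u ≫ hB.from V = hB.from V' := hB.hom_ext _ _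
    have := hp V
    have l1 : 𝒳.p.IsHomLift (hB.from V') (a ≫ p V) := by rw [← e]; infer_instance
    obtain ⟨s, hs, es⟩ := exists_factor g𝒳 (p V') (hp V') (a ≫ p V) l1
    exact ⟨s, hs, es, (hMu a u hu).2 s hs es⟩
  let D : Lib.Fibred.DenseExt.Data 𝒳 𝒴 :=
    { z := fun V => (z V).1
      w := fun V => (w V).1
      hz := fun V => (z V).2
      hw := fun V => (w V).2
      ex := fun {V' V} u => by
        have e : u ≫ hB.from V = hB.from V' := hB.hom_ext _ _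
        have : 𝒳.p.IsHomLift (u ≫ hB.from V) (p V') := by rw [e]; exact hp V'
        have := cart g𝒳 (p V) (hp V)
        exact ⟨Functor.IsStronglyCartesian.map 𝒳.p (hB.from V) (p V) (g := u) rfl (p V'),
          Functor.IsStronglyCartesian.map_isHomLift _ _ _ _ _⟩
      M := fun a => M a
      lifts := fun u a hu => (hMu a u hu).1
      map_id := fun V => by
        have h1 : 𝒳.p.IsHomLift (𝟙 V) (𝟙 (z V).1) := IsHomLift.id (z V).2
        refine ext_lift g𝒴 (q V) (hq V) (hMu _ _ h1).1 (IsHomLift.id (w V).2) ?_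
        rw [(hMu _ _ h1).2 _ h1 rfl, Loc.eq_id h𝒳 h𝒴 hi' (hcy V) (hαl V _ h1)]
      map_comp := fun {V'' V' V} a b => by
        obtain ⟨v, hv⟩ := hlift a
        obtain ⟨u, hu⟩ := hlift b
        have hab0 : 𝒳.p.IsHomLift (v ≫ u) (a ≫ b) := inferInstance
        obtain ⟨sa, hsa, esa, ea⟩ := hs₀ a v hv
        obtain ⟨sb, hsb, esb, eb⟩ := hs₀ b u hu
        have hMa := (hMu a v hv).1
        have hMb := (hMu b u hu).1
        have hMab := (hMu (a ≫ b) _ hab0).1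
        obtain ⟨r, hr, er⟩ := Detect.exists_pull_aut g𝒳 a hv sb hsb
        obtain ⟨r', hr', er'⟩ := Detect.exists_pull_aut g𝒴 (M a) hMa (α V' sb hsb) (hα V' sb hsb)
        have lr := (hαl V' sb hsb).pull a hv (M a) hMa er hr' er'
        have hsab : 𝒳.p.IsHomLift (𝟙 V'') (r ≫ sa) := inferInstance
        have key : α V'' (r ≫ sa) hsab = r' ≫ α V'' sa hsa :=
          Loc.unique h𝒳 h𝒴 hi' (hcy V'') hsab (IsHomLift.id (w V'').2) (hαl V'' _ hsab)
            (Loc.mul h𝒳 h𝒴 (hcy V'') hsa hr (hαl V'' sa hsa) lr)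
        refine ext_lift g𝒴 (q V) (hq V) hMab inferInstance ?_
        rw [(hMu (a ≫ b) _ hab0).2 (r ≫ sa) hsab
          (by rw [Category.assoc, esa, reassoc_of% er, esb, Category.assoc]),
          key, Category.assoc, ← ea, reassoc_of% er', Category.assoc, eb]
      bij := fun {V' V} => by
        refine ⟨fun a b e => ?_, fun c => ?_⟩
        · obtain ⟨u, hu⟩ := hlift a
          obtain ⟨u', hu'⟩ := hlift b
          obtain rfl : u = u' := Lib.Fibred.DenseExt.base_eq (hMu a u hu).1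
            (by rw [show M a = M b from e]; exact (hMu b u' hu').1)
          obtain ⟨sa, hsa, esa, ea⟩ := hs₀ a u hu
          obtain ⟨sb, hsb, esb, eb⟩ := hs₀ b u hu'
          have e1 : α V' sa hsa = α V' sb hsb :=
            ext_lift g𝒴 (q V') (hq V') (hα _ _ hsa) (hα _ _ hsb) (by rw [← ea, ← eb]; exact congrArg (fun x => x ≫ q V) e)
          have l1 := (hαl V' sa hsa).symm g𝒳 g𝒴 hsa
          have l2 := (hαl V' sb hsb).symm g𝒳 g𝒴 hsb
          rw [← e1] at l2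
          obtain rfl := Loc.unique h𝒴 h𝒳 hi (hcx V') (hα _ _ hsa) (IsHomLift.id (z V').2) l1 l2
          exact ext_lift g𝒳 (p V) (hp V) hu hu' (esa.symm.trans esb)
        · let u : V' ⟶ V := eqToHom (w V').2.symm ≫ 𝒴.p.map c ≫ eqToHom (w V).2
          have hc : 𝒴.p.IsHomLift u c := IsHomLift.of_fac' _ _ _ (w V').2 (w V).2 (by simp [u])
          have e : u ≫ hB.from V = hB.from V' := hB.hom_ext _ _
          have := hq V
          have l1 : 𝒴.p.IsHomLift (hB.from V') (c ≫ q V) := by rw [← e]; infer_instance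
          obtain ⟨a', ha', ea'⟩ := exists_factor g𝒴 (q V') (hq V') (c ≫ q V) l1
          obtain ⟨s, hs, hl⟩ := Loc.exists_global (φ := Pts.symm φ g𝒳 g𝒴) h𝒴 h𝒳 hi
            ((φ.toEquiv V').symm_apply_eq.2 (hzw V').symm : (Pts.symm φ g𝒳 g𝒴).toEquiv V' _ = _)
            (hcx V') ha'
          have e1 : α V' s hs = a' := Loc.unique h𝒳 h𝒴 hi' (hcy V') hs (IsHomLift.id (w V').2)
            (hαl V' s hs) (hl.symm g𝒴 g𝒳 ha')
          have := hp V'
          have l2 : 𝒳.p.IsHomLift (u ≫ hB.from V) (s ≫ p V') := by rw [e]; infer_instance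
          have := cart g𝒳 (p V) (hp V)
          let b := Functor.IsStronglyCartesian.map 𝒳.p (hB.from V) (p V) (g := u) rfl (s ≫ p V')
          have hb : 𝒳.p.IsHomLift u b := Functor.IsStronglyCartesian.map_isHomLift _ _ _ _ _
          refine ⟨b, ext_lift g𝒴 (q V) (hq V) (hMu b u hb).1 hc ?_⟩
          rw [(hMu b u hb).2 s hs (Functor.IsStronglyCartesian.fac _ _ _ _ _).symm, e1, ea'] }
  refine Lib.Fibred.DenseExt.exists_isEquivOver D (AlgSp.J S) h𝒳.isStack h𝒴.isStack (fun x => ?_) fun y => ?_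
  · obtain ⟨R, hR, hl⟩ := hloc x
    refine (AlgSp.J S).superset_covering (fun V f hf => ?_) hR
    obtain ⟨z', t, m, ht⟩ := hl f hf
    have hz' : 𝒳.p.obj z' = V := IsHomLift.domain_eq 𝒳.p f t
    have hm : 𝒳.p.IsHomLift (hB.from V) m := IsHomLift.of_fac' _ _ _ hz' η₀.2 (by
      rw [← cancel_epi (eqToHom hz'.symm)]
      simp only [← Category.assoc]
      rw [← cancel_mono (eqToHom η₀.2)]
      exact hB.hom_ext _ _)
    obtain ⟨θ, hθ, -⟩ := exists_factor g𝒳 m hm (p V) (hp V)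
    exact ⟨θ ≫ t, IsHomLift.comp_lift_id_left' 𝒳.p V θ f t⟩
  · obtain ⟨x, hx⟩ := exists_clsEq' φ (rfl : 𝒴.p.obj y = 𝒴.p.obj y)
    obtain ⟨hxX, hyX, ex⟩ := hx
    obtain ⟨R, hR, hl⟩ := hloc x
    refine ⟨R.pullback (eqToHom hxX.symm), (AlgSp.J S).pullback_stable _ hR, fun V f hf => ?_⟩
    obtain ⟨z', t, m, ht⟩ := hl (f ≫ eqToHom hxX.symm) hf
    have hz' : 𝒳.p.obj z' = V := IsHomLift.domain_eq 𝒳.p (f ≫ eqToHom hxX.symm) t
    have ht' : 𝒳.p.IsHomLift f t := by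
      have := IsHomLift.eqToHom_codomain_lift_id (p := 𝒳.p) (rfl : x = x) hxX
      have h3 : 𝒳.p.IsHomLift ((f ≫ eqToHom hxX.symm) ≫ eqToHom hxX) t :=
        IsHomLift.of_fac' _ _ _ hz' hxX (by
          rw [IsHomLift.fac' 𝒳.p (f ≫ eqToHom hxX.symm) t]; simp)
      simpa using h3
    have hm : 𝒳.p.IsHomLift (hB.from V) m := IsHomLift.of_fac' _ _ _ hz' η₀.2 (by
      rw [← cancel_epi (eqToHom hz'.symm), ← cancel_mono (eqToHom η₀.2)]
      exact hB.hom_ext _ _)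
    obtain ⟨θ, hθ, -⟩ := exists_factor g𝒳 m hm (p V) (hp V)
    exact Cls.exists_hom φ (x := ⟨x, hxX⟩) (y := ⟨y, hyX⟩) (g := f) (a := θ ≫ t)
      (IsHomLift.comp_lift_id_left' 𝒳.p V θ f t) (hzw V) ex

end Groth.Agent.H14.IsoNat.Twists
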