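import Groth.Prelude.Def_AlgSt5
import Groth.Agent.H14.IsoNat.Neutral

/-!
The classifying stack of a commutative group is a neutral gerbe with abelian automorphism sheaf.
-/

set_option autoImplicit false
set_option backward.isDefEq.respectTransparency false
set_option backward.isDefEq.respectTransparency.types false

universe u

open CategoryTheory CategoryTheory.Limits MonoidalCategory CartesianMonoidalCategory MonObj AlgebraicGeometry
open Groth.Agent.Lib.Fibred.Descent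

namespace Groth.Agent.H14.IsoNat.BGNeutral

open Groth.Agent.Lib.Fibred.StackLemmas (isIso_of_vertical)

noncomputable section

variable {S : Scheme.{u}} (G : Over S) [GrpObj G]

local notation "𝔅" => AlgSt.BG Scheme.fppfPrecoverage G

/-- The trivial torsor. -/
noncomputable abbrev triv (V : Over S) : (𝔅).obj :=
  (AlgSt.quotMap Scheme.fppfPrecoverage G (AlgSt.trivAction G)).obj ⟨V, ⟨toUnit V⟩⟩

theorem act_whisker {P V : Over S} (a : AlgGrp.Action G P) (σ : V ⟶ P) :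
    (AlgSt.leftMul G V).act ≫ (G ◁ σ) ≫ a.act = (G ◁ ((G ◁ σ) ≫ a.act)) ≫ a.act := by
  have hμ : fst (G ⊗ G) P ≫ μ[G] = (fst _ _ ≫ fst G G) * (fst _ _ ≫ snd G G) := by
    rw [Hom.mul_def, ← comp_lift, lift_fst_snd, Category.comp_id]
  have h : (AlgSt.leftMul G V).act ≫ (G ◁ σ) = (G ◁ (G ◁ σ)) ≫ (α_ G G P).inv ≫ (μ[G] ▷ P) := by
    apply CartesianMonoidalCategory.hom_ext
    · simp only [AlgSt.leftMul, Category.assoc, lift_fst, comp_mul, whiskerLeft_fst,
        whiskerLeft_snd_assoc, whiskerRight_fst, associator_inv_fst_fst, associator_inv_fst_snd, hμ]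
    · simp only [AlgSt.leftMul, Category.assoc, lift_snd_assoc, whiskerLeft_snd, whiskerLeft_snd_assoc,
        whiskerRight_snd, associator_inv_snd]
  have hm : (G ◁ a.act) ≫ a.act = (α_ G G P).inv ≫ (μ[G] ▷ P) ≫ a.act := by
    rw [a.mul_act, Iso.inv_hom_id_assoc]
  rw [MonoidalCategory.whiskerLeft_comp, Category.assoc, hm, reassoc_of% h]

/-- A section gives a trivialisation. -/
theorem exists_hom_triv (x : (𝔅).obj) {V : Over S} (σ : V ⟶ x.P) :
    ∃ t : triv G V ⟶ x, (𝔅).p.IsHomLift (σ ≫ x.π) t := by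
  let t : triv G V ⟶ x :=
    { base := σ ≫ x.π
      top := (G ◁ σ) ≫ x.act.act
      eqv := act_whisker G x.act σ
      cart := (AlgSt.isPullback_whiskerLeft σ).paste_horiz x.cart
      wφ := toUnit_unique _ _ }
  exact ⟨t, IsHomLift.map (𝔅).p t⟩

/-- Every object is locally the trivial torsor. -/
theorem locally_triv (x : (𝔅).obj) :
    ∃ R ∈ AlgSp.J S x.base, ∀ ⦃V : Over S⦄ (f : V ⟶ x.base), R f →
      ∃ t : triv G V ⟶ x, (𝔅).p.IsHomLift f t := by
  obtain ⟨R, hR, hs⟩ := x.loc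
  refine ⟨(Sieve.overEquiv x.base).symm (Sieve.generate R), ?_, ?_⟩
  · rw [AlgSp.J_eq, GrothendieckTopology.mem_over_iff]
    rw [OrderIso.apply_symm_apply]
    exact Precoverage.generate_mem_toGrothendieck hR
  · intro V f hf
    obtain ⟨S', v, r, hr, hv⟩ := (Sieve.overEquiv_symm_iff _ _).1 hf
    obtain ⟨s, hs⟩ := hs r hr
    let σ : V ⟶ x.P := Over.homMk (v ≫ s) (by
      rw [Category.assoc, show x.P.hom = x.π.left ≫ x.base.hom from (Over.w x.π).symm,
        ← Category.assoc s, show s ≫ x.π.left = r from hs, reassoc_of% hv]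
      exact Over.w f)
    have e : σ ≫ x.π = f := by
      ext1
      change (v ≫ s) ≫ x.π.left = f.left
      rw [Category.assoc, show s ≫ x.π.left = r from hs, hv]
    rw [← e]
    exact exists_hom_triv G x σ

/-- The trivial torsor over the base. -/
noncomputable abbrev η₀ : (𝔅).p.Fiber (𝟙_ (Over S)) := Functor.Fiber.mk (a := triv G (𝟙_ (Over S))) rfl

/-- The map of trivial torsors to the one over the base. -/
noncomputable def toη₀ (V : Over S) : triv G V ⟶ (η₀ G).1 :=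
  (AlgSt.quotMap Scheme.fppfPrecoverage G (AlgSt.trivAction G)).toFunctor.map
    (X := ⟨V, ⟨toUnit V⟩⟩) (Y := ⟨𝟙_ (Over S), ⟨toUnit _⟩⟩)
    ⟨toUnit V, congrArg ULift.up (toUnit_unique _ _)⟩

theorem top_fst {V : Over S} (f : G ⊗ V ⟶ G ⊗ V)
    (ea : (AlgSt.leftMul G V).act ≫ f = (G ◁ f) ≫ (AlgSt.leftMul G V).act) :
    ∃ c : V ⟶ G, f ≫ fst G V = fst G V * (snd G V ≫ c) := by
  refine ⟨lift 1 (𝟙 V) ≫ f ≫ fst G V, ?_⟩
  let e : G ⊗ V ⟶ G ⊗ (G ⊗ V) := lift (fst G V) (snd G V ≫ lift 1 (𝟙 V))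
  have h1 : e ≫ (AlgSt.leftMul G V).act = 𝟙 (G ⊗ V) := by
    apply CartesianMonoidalCategory.hom_ext <;>
      simp [e, AlgSt.leftMul, comp_mul]
  have h2 : (e ≫ (AlgSt.leftMul G V).act) ≫ f ≫ fst G V =
      (e ≫ (G ◁ f)) ≫ (AlgSt.leftMul G V).act ≫ fst G V := by
    simp only [Category.assoc, reassoc_of% ea]
  rw [h1, Category.id_comp] at h2
  conv_lhs => rw [h2]
  simp [e, AlgSt.leftMul, comp_mul]
  rw [← Category.assoc (snd G V), comp_lift, Category.comp_id, MonObj.comp_one]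

variable [IsCommMonObj G]

theorem top_comm {V : Over S} (f g : G ⊗ V ⟶ G ⊗ V)
    (hf : (AlgSt.leftMul G V).act ≫ f = (G ◁ f) ≫ (AlgSt.leftMul G V).act)
    (hg : (AlgSt.leftMul G V).act ≫ g = (G ◁ g) ≫ (AlgSt.leftMul G V).act)
    (sf : f ≫ snd G V = snd G V) (sg : g ≫ snd G V = snd G V) : f ≫ g = g ≫ f := by
  obtain ⟨c, hc⟩ := top_fst G f hf
  obtain ⟨d, hd⟩ := top_fst G g hg
  apply CartesianMonoidalCategory.hom_ext
  · rw [Category.assoc, Category.assoc, hd, hc, comp_mul, comp_mul, hc, hd,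
      reassoc_of% sf, reassoc_of% sg, mul_right_comm]
  · rw [Category.assoc, Category.assoc, sg, sf, sg]

theorem triv_comm {V : Over S} (a b : triv G V ⟶ triv G V) (ha : (𝔅).p.IsHomLift (𝟙 V) a)
    (hb : (𝔅).p.IsHomLift (𝟙 V) b) : a ≫ b = b ≫ a := by
  have base : ∀ c : triv G V ⟶ triv G V, (𝔅).p.IsHomLift (𝟙 V) c → c.base = 𝟙 V := fun c hc =>
    (Lib.Fibred.DenseExt.base_eq (IsHomLift.map (𝔅).p c) hc :)
  have hsnd : ∀ c : triv G V ⟶ triv G V, (𝔅).p.IsHomLift (𝟙 V) c → c.top ≫ snd G V = snd G V := fun c hc => by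
    have := c.cart.w
    rw [base c hc] at this
    exact this.trans (Category.comp_id _)
  refine AlgSt.QuotObj.hom_ext (by rw [AlgSt.QuotObj.comp_base, AlgSt.QuotObj.comp_base, base a ha, base b hb]) ?_
  exact top_comm G a.top b.top a.eqv b.eqv (hsnd a ha) (hsnd b hb)

theorem isAutAbelian_η₀ (h : FibCat.IsFibGrpd (𝔅).p) : _root_.IsoNat.IsAutAbelian (η₀ G) := by
  intro V x m s t
  refine Iso.ext (Subtype.ext ?_)
  change t.hom.1 ≫ s.hom.1 = s.hom.1 ≫ t.hom.1
  have hm : (𝔅).p.IsHomLift (toUnit V) m := IsHomLift.of_fac' _ _ _ x.2 rfl (toUnit_unique _ _)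
  have hp : (𝔅).p.IsHomLift (toUnit V) (toη₀ G V) :=
    IsHomLift.of_fac' _ _ _ rfl rfl (toUnit_unique _ _)
  obtain ⟨θ, hθ, -⟩ := exists_factor h m hm (toη₀ G V) hp
  have := isIso_of_vertical h θ hθ
  have := s.hom.2
  have := t.hom.2
  obtain ⟨s', hs', es⟩ := Detect.exists_pull_aut h θ hθ s.hom.1 s.hom.2
  obtain ⟨t', ht', et⟩ := Detect.exists_pull_aut h θ hθ t.hom.1 t.hom.2
  rw [← cancel_epi θ, ← reassoc_of% et, ← es, ← reassoc_of% es, ← et,
    reassoc_of% (triv_comm G t' s' ht' hs')]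

end

end Groth.Agent.H14.IsoNat.BGNeutral
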