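import Groth.Agent.H14.IsoNat.Dict
import Groth.Agent.Lib.Fibred.SelfOver

/-!
Points of the space of automorphisms of a chart are pairs of a point and an automorphism.
-/

set_option autoImplicit false
set_option backward.isDefEq.respectTransparency false
set_option backward.isDefEq.respectTransparency.types false

universe u

open CategoryTheory CategoryTheory.Limits AlgebraicGeometry Opposite

namespace Groth.Agent.H14.IsoNat.InDict

open Groth.Agent.Lib.AlgStack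
open FibCat (IsEquivOver fp fpFst fpSnd overCat IsFibGrpd inertia inertiaToBase toSelf)
open AlgSt (ofSp spMapOfOver)
open AlgSp (Sp yon)

variable {S : Scheme.{u}} {𝒴 : AlgSt.Cat S} {D : Over S} (z : overCat D ⥤ᵇ 𝒴)

/-- A point of the chart with an automorphism. -/
structure AutTri (T : Over S) where
  m : T ⟶ D
  a : z.obj (Over.mk m) ⟶ z.obj (Over.mk m)
  lift : 𝒴.p.IsHomLift (𝟙 T) a

variable {z}

theorem isFibGrpd_inertia (h : IsFibGrpd 𝒴.p) : IsFibGrpd (inertia (toSelf 𝒴)).p :=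
  Lib.Fibred.SelfOver.inertia_grpd (F := toSelf 𝒴) h Lib.Fibred.SelfOver.grpd

/-- The inertia object of an automorphism. -/
noncomputable def AutTri.toInertia (h : IsFibGrpd 𝒴.p) {T : Over S} (t : AutTri z T) :
    (inertia (toSelf 𝒴)).obj where
  pt := z.obj (Over.mk t.m)
  aut := haveI := t.lift; haveI := BasedBasic.isIso_of_isHomLift_id h (R := T) t.a; asIso t.a
  map_aut := by
    have := t.lift
    change 𝒴.p.map t.a = 𝟙 _
    simpa using IsHomLift.fac' 𝒴.p (𝟙 T) t.a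

/-- The object of the 2-fibre product of an automorphism. -/
noncomputable def AutTri.toObj (h : IsFibGrpd 𝒴.p) {T : Over S} (t : AutTri z T) :
    (fp z (inertiaToBase (toSelf 𝒴))).obj :=
  Lib.Fibred.Fp.mkObj (Over.mk t.m) (t.toInertia h) (Iso.refl (z.obj (Over.mk t.m)))
    (IsHomLift.id (z.w_obj (Over.mk t.m)))

/-- The second pair is the pullback of the first. -/
structure IsPull {T' T : Over S} (k : T' ⟶ T) (t : AutTri z T) (t' : AutTri z T') : Prop where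
  m : t'.m = k ≫ t.m
  a : z.map (Over.homMk k m.symm : Over.mk t'.m ⟶ Over.mk t.m) ≫ t.a =
    t'.a ≫ z.map (Over.homMk k m.symm : Over.mk t'.m ⟶ Over.mk t.m)

variable {G : Sp S} {e : ofSp G ⥤ᵇ fp z (inertiaToBase (toSelf 𝒴))}

/-- A map from a scheme to the space corresponds to a pair. -/
def Rel (e : ofSp G ⥤ᵇ fp z (inertiaToBase (toSelf 𝒴))) (h : IsFibGrpd 𝒴.p) {T : Over S}
    (g : (yon S).obj T ⟶ G) (t : AutTri z T) : Prop :=
  Dict.ObjRel e g (t.toObj h)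

theorem exists_aut (h : IsFibGrpd 𝒴.p) {T : Over S} (g : (yon S).obj T ⟶ G) :
    ∃ t : AutTri z T, Rel e h g t := by
  have key : ∀ o : (fp z (inertiaToBase (toSelf 𝒴))).obj,
      (fp z (inertiaToBase (toSelf 𝒴))).p.obj o = T →
      ∃ (t : AutTri z T) (n : o ⟶ t.toObj h),
        (fp z (inertiaToBase (toSelf 𝒴))).p.IsHomLift (𝟙 T) n := by
    rintro ⟨⟨⟨Ta, ⟨⟨⟩⟩, m⟩, ⟨pt, aut, haut⟩, i⟩, hi⟩ hT
    obtain rfl : Ta = T := hT
    have hi' : 𝒴.p.IsHomLift (𝟙 Ta) i.hom := hi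
    have hpt : 𝒴.p.obj pt = Ta := IsHomLift.codomain_eq 𝒴.p (𝟙 Ta) i.hom
    have hinv : 𝒴.p.IsHomLift (𝟙 Ta) i.inv := by
      have : IsIso i.hom := inferInstance
      have e : i.inv = inv i.hom := by simp
      rw [e]; infer_instance
    have haut' : 𝒴.p.IsHomLift (𝟙 Ta) aut.hom :=
      IsHomLift.of_fac' _ _ _ hpt hpt ((show 𝒴.p.map aut.hom = 𝟙 _ from haut).trans (by simp))
    let a : z.obj (Over.mk m) ⟶ z.obj (Over.mk m) := i.hom ≫ aut.hom ≫ i.inv
    let t : AutTri z Ta := ⟨m, a, inferInstance⟩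
    let o : (fp z (inertiaToBase (toSelf 𝒴))).obj := ⟨⟨Over.mk m, ⟨pt, aut, haut⟩, i⟩, hi⟩
    let n₂ : (⟨pt, aut, haut⟩ : FibCat.InertiaObj (toSelf 𝒴)) ⟶ t.toInertia h :=
      ⟨i.inv, by
        change aut.hom ≫ i.inv = i.inv ≫ i.hom ≫ aut.hom ≫ i.inv
        rw [Iso.inv_hom_id_assoc]⟩
    let n : o ⟶ t.toObj h := Lib.Fibred.Fp.mkHom (z := o) (w := t.toObj h) (𝟙 (Over.mk m)) n₂ (by
      change z.map (𝟙 _) ≫ 𝟙 _ = i.hom ≫ i.inv
      rw [Iso.hom_inv_id, z.toFunctor.map_id]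
      exact Category.comp_id _)
    exact ⟨t, n, (Lib.Fibred.Fp.isHomLift_iff n (𝟙 Ta)).2
      (IsHomLift.id (p := (overCat D).p) (a := Over.mk m) rfl)⟩
  obtain ⟨t, n, hn⟩ := key _ (Dict.p_obj_objOf g)
  exact ⟨t, n, hn⟩

theorem exists_map (h : IsFibGrpd 𝒴.p) (he : IsEquivOver e) {T : Over S} (t : AutTri z T) :
    ∃ g : (yon S).obj T ⟶ G, Rel e h g t :=
  Dict.exists_map_obj he (o := t.toObj h) rfl

theorem map_unique (h : IsFibGrpd 𝒴.p) (he : IsEquivOver e) {T : Over S}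
    {g g' : (yon S).obj T ⟶ G} {t : AutTri z T} (hg : Rel e h g t) (hg' : Rel e h g' t) : g = g' :=
  Dict.map_unique_obj h (isFibGrpd_inertia h) he hg hg'

theorem aut_unique (h : IsFibGrpd 𝒴.p) {T : Over S} {g : (yon S).obj T ⟶ G}
    {t t' : AutTri z T} (hg : Rel e h g t) (hg' : Rel e h g t') : t = t' := by
  obtain ⟨k, hk⟩ := hg
  obtain ⟨k', hk'⟩ := hg'
  have := BasedBasic.isIso_of_isHomLift_id
    (Dict.isFibGrpd (v := z) (f := inertiaToBase (toSelf 𝒴)) h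
      (isFibGrpd_inertia h)) (R := T) k
  let n := inv k ≫ k'
  have hn : (fp z (inertiaToBase (toSelf 𝒴))).p.IsHomLift (𝟙 T) n := inferInstance
  have h1 : n.hom.fst.left = 𝟙 T := by
    refine (IsHomLift.fac' (fp z (inertiaToBase (toSelf 𝒴))).p (𝟙 T) n).trans ?_
    simp
    rfl
  obtain ⟨m, a, ha⟩ := t
  obtain ⟨m', a', ha'⟩ := t'
  obtain rfl : m' = m := by
    have := Over.w n.hom.fst
    rw [h1] at this
    exact (Category.id_comp _).symm.trans this
  obtain rfl : a' = a := by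
    have w := Lib.Fibred.Fp.w n
    rw [show n.hom.fst = 𝟙 _ from Over.OverMorphism.ext h1, z.toFunctor.map_id] at w
    have e2 : n.hom.snd.hom = 𝟙 _ := by
      change 𝟙 _ ≫ 𝟙 _ = 𝟙 _ ≫ n.hom.snd.hom at w
      exact ((Category.id_comp _).symm.trans (w.symm.trans (Category.id_comp _)))
    have c := n.hom.snd.comm
    rw [e2] at c
    exact ((Category.id_comp _).symm.trans (c.symm.trans (Category.comp_id _)))
  rfl

theorem rel_comp (h : IsFibGrpd 𝒴.p) {T' T : Over S} {k : T' ⟶ T} {g : (yon S).obj T ⟶ G}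
    {t : AutTri z T} {t' : AutTri z T'} (hg : Rel e h g t) (hk : IsPull k t t') :
    Rel e h ((yon S).map k ≫ g) t' := by
  let mk' : Over.mk t'.m ⟶ Over.mk t.m := Over.homMk k hk.m.symm
  let n₂ : t'.toInertia h ⟶ t.toInertia h := ⟨z.map mk', hk.a.symm⟩
  let n : t'.toObj h ⟶ t.toObj h :=
    Lib.Fibred.Fp.mkHom (z := t'.toObj h) (w := t.toObj h) mk' n₂ (by
      change z.map mk' ≫ 𝟙 _ = 𝟙 _ ≫ z.map mk'
      rw [Category.comp_id, Category.id_comp])
  have hn : (fp z (inertiaToBase (toSelf 𝒴))).p.IsHomLift k n :=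
    (Lib.Fibred.Fp.isHomLift_iff _ _).2 (IsHomLift.map (overCat D).p mk')
  exact Dict.objRel_comp h (isFibGrpd_inertia h) hg n

theorem comp_fst (h : IsFibGrpd 𝒴.p) {T : Over S} {g : (yon S).obj T ⟶ G} {t : AutTri z T}
    (hg : Rel e h g t) :
    g ≫ spMapOfOver (BasedFunctor.comp e (fpFst z (inertiaToBase (toSelf 𝒴)))) = (yon S).map t.m :=
  Dict.comp_fst_obj hg (s := t.m) rfl (Category.id_comp _).symm

theorem exists_pull (h : IsFibGrpd 𝒴.p) {T' T : Over S} (k : T' ⟶ T) (t : AutTri z T) :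
    ∃ t' : AutTri z T', IsPull k t t' := by
  let mk' : Over.mk (k ≫ t.m) ⟶ Over.mk t.m := Over.homMk k rfl
  have h1 : 𝒴.p.IsHomLift k (z.map mk') := Yoneda.map_isHomLift z mk'
  have := t.lift
  have h3 : 𝒴.p.IsHomLift k (z.map mk' ≫ t.a) := IsHomLift.comp_lift_id_right' 𝒴.p k _ T t.a
  have := Yoneda.stronglyCartesian h k (z.map mk')
  exact ⟨⟨k ≫ t.m, Functor.IsStronglyCartesian.map 𝒴.p k (z.map mk') (g := 𝟙 T')
    (Category.id_comp k).symm (z.map mk' ≫ t.a), Functor.IsStronglyCartesian.map_isHomLift _ _ _ _ _⟩,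
    ⟨rfl, (Functor.IsStronglyCartesian.fac 𝒴.p k (z.map mk') (g := 𝟙 T') (Category.id_comp k).symm
      (z.map mk' ≫ t.a)).symm⟩⟩

end Groth.Agent.H14.IsoNat.InDict
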