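import Groth.Agent.H14.IsoNat.Triple

/-!
Commutativity of the automorphism groups is seen by the presheaf of isomorphism classes.
-/

set_option autoImplicit false
set_option backward.isDefEq.respectTransparency false
set_option backward.isDefEq.respectTransparency.types false
set_option maxHeartbeats 800000

universe u

open CategoryTheory CategoryTheory.Limits AlgebraicGeometry Groth.Agent.Lib.Fibred.Descent

namespace Groth.Agent.H14.IsoNat.Twists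

open Groth.Agent.Lib.Fibred.StackLemmas (isIso_of_vertical)
open FibCat (IsFibGrpd toSelf inertiaToBase)
open AlgSt (RepByAlgSpWith IsAlgStack)
open Cross (U T L P π πL zero j l₁ l₂ sub subι O₁ O₂)

variable {S : Scheme.{u}} {𝒳 𝒴 : AlgSt.Cat S}

theorem ClsEq.symm {φ : _root_.IsoNat.FIso 𝒳 𝒴} (h𝒳 : IsFibGrpd 𝒳.p) (h𝒴 : IsFibGrpd 𝒴.p)
    {X : Over S} {ζ : 𝒳.obj} {ξ : 𝒴.obj} (h : ClsEq φ X ζ ξ) : ClsEq (Pts.symm φ h𝒳 h𝒴) X ξ ζ := by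
  obtain ⟨hζ, hξ, e⟩ := h
  exact ⟨hξ, hζ, (φ.toEquiv X).symm_apply_eq.2 e.symm⟩

theorem exists_clsEq (φ : _root_.IsoNat.FIso 𝒳 𝒴) {X : Over S} {ζ : 𝒳.obj} (hζ : 𝒳.p.obj ζ = X) :
    ∃ ξ : 𝒴.obj, ClsEq φ X ζ ξ := by
  obtain ⟨y, hy⟩ := Cls.exists_cls (φ.toEquiv X (_root_.IsoNat.cls ⟨ζ, hζ⟩))
  exact ⟨y.1, hζ, y.2, hy.symm⟩

theorem exists_clsEq' (φ : _root_.IsoNat.FIso 𝒳 𝒴) {X : Over S} {ξ : 𝒴.obj} (hξ : 𝒴.p.obj ξ = X) :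
    ∃ ζ : 𝒳.obj, ClsEq φ X ζ ξ := by
  obtain ⟨x, hx⟩ := Cls.exists_cls ((φ.toEquiv X).symm (_root_.IsoNat.cls ⟨ξ, hξ⟩))
  exact ⟨x.1, x.2, hξ, by rw [show (⟨x.1, x.2⟩ : 𝒳.p.Fiber X) = x from rfl, hx, Equiv.apply_symm_apply]⟩

/-- Pullbacks of corresponding objects correspond. -/
theorem ClsEq.restrict {φ : _root_.IsoNat.FIso 𝒳 𝒴} (h𝒴 : IsFibGrpd 𝒴.p) {X X' : Over S} {f : X' ⟶ X}
    {ζ ζ' : 𝒳.obj} {ξ ξ' : 𝒴.obj} (h : ClsEq φ X ζ ξ) (Q : ζ' ⟶ ζ) (hQ : 𝒳.p.IsHomLift f Q)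
    (P : ξ' ⟶ ξ) (hP : 𝒴.p.IsHomLift f P) : ClsEq φ X' ζ' ξ' := by
  obtain ⟨hζ, hξ, e⟩ := h
  have hζ' : 𝒳.p.obj ζ' = X' := IsHomLift.domain_eq 𝒳.p f Q
  have hξ' : 𝒴.p.obj ξ' = X' := IsHomLift.domain_eq 𝒴.p f P
  obtain ⟨y, hy⟩ := Cls.exists_cls (φ.toEquiv X' (_root_.IsoNat.cls ⟨ζ', hζ'⟩))
  obtain ⟨b, hb⟩ := Cls.exists_hom φ (x' := ⟨ζ', hζ'⟩) (x := ⟨ζ, hζ⟩) hQ hy.symm e
  exact ⟨hζ', hξ', hy.symm.trans (Cls.cls_eq_of_homLift h𝒴 (x₂ := ⟨ξ', hξ'⟩) (a₂ := P) hb hP)⟩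

variable {R : Type u} [CommRing R] {str : Spec (CommRingCat.of R) ⟶ S}
  {φ : _root_.IsoNat.FIso 𝒳 𝒴} {ηx : 𝒳.p.Fiber (T R str)} {ηy : 𝒴.p.Fiber (T R str)}
  {ζu : 𝒳.obj} {ξu : 𝒴.obj} {A : ζu ⟶ ηx.1} [hA : 𝒳.p.IsHomLift (π R str) A]
  {B : ξu ⟶ ηy.1} [hB : 𝒴.p.IsHomLift (π R str) B] {G : Doubled R str}

omit hA hB in
theorem TwistAlong.matches (h𝒴 : IsFibGrpd 𝒴.p) {X : Over S} {e : G.pt ⟶ X} {ζ : 𝒳.obj}
    {ξ : 𝒴.obj} (hc : ClsEq φ X ζ ξ) {s : ηx.1 ⟶ ηx.1} {a : ηy.1 ⟶ ηy.1}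
    (hs : TwistAlong G A s e ζ) (ha : TwistAlong G B a e ξ) : Matches φ A B G s a := by
  obtain ⟨ζ', Q, hQ, hts⟩ := hs
  obtain ⟨ξ', P, hP, hta⟩ := ha
  exact ⟨ζ', ξ', hts, hta, hc.restrict h𝒴 Q hQ P hP⟩

theorem TwistAlong.transfer (h𝒳 : IsAlgStack Scheme.fppfPrecoverage 𝒳) (h𝒴 : IsFibGrpd 𝒴.p)
    {X : Over S} {e : G.pt ⟶ X} {ζ : 𝒳.obj}
    {ξ : 𝒴.obj} (hc : ClsEq φ X ζ ξ) {s : ηx.1 ⟶ ηx.1} {a : ηy.1 ⟶ ηy.1}
    (hm : Matches φ A B G s a) (hs : TwistAlong G A s e ζ) : TwistAlong G B a e ξ := by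
  obtain ⟨ζ', Q, hQ, hts⟩ := hs
  obtain ⟨hζ, hξ, -⟩ := id hc
  obtain ⟨ξ', P, hP⟩ := exists_lift h𝒴 hξ e
  obtain ⟨ζm, ξm, hsm, ham, hcm⟩ := hm
  obtain ⟨t, ht⟩ := exists_iso_of_twist A h𝒳 hsm hts
  obtain ⟨u, hu⟩ := exists_hom_of_clsEq h𝒴 hcm (hc.restrict h𝒴 Q hQ P hP) ht
  exact ⟨ξ', P, hP, ham.of_iso B u⟩

omit hA hB in
/-- Twists along a morphism by the same automorphism are alike. -/
theorem TwistAlong.congr_left {X : Over S} {e e' : G.pt ⟶ X} {ζ : 𝒳.obj} {s : ηx.1 ⟶ ηx.1}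
    (h : TwistAlong G A s e ζ) (he : e = e') : TwistAlong G A s e' ζ := he ▸ h

include hA hB

/-- The automorphisms of corresponding objects over an affine scheme commute together. -/
theorem comm_of_comm (h𝒳 : IsAlgStack Scheme.fppfPrecoverage 𝒳)
    (h𝒴 : IsAlgStack Scheme.fppfPrecoverage 𝒴)
    (hi : RepByAlgSpWith AlgSp.IsSeparatedMor (inertiaToBase (toSelf 𝒴)))
    (hη : φ.toEquiv (T R str) (_root_.IsoNat.cls ηx) = _root_.IsoNat.cls ηy) (G : Doubled R str)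
    (hab : ∀ s t : ηx.1 ⟶ ηx.1, 𝒳.p.IsHomLift (𝟙 (T R str)) s → 𝒳.p.IsHomLift (𝟙 (T R str)) t →
      s ≫ t = t ≫ s)
    (g a : ηy.1 ⟶ ηy.1) (hg : 𝒴.p.IsHomLift (𝟙 (T R str)) g) (ha : 𝒴.p.IsHomLift (𝟙 (T R str)) a) :
    g ≫ a = a ≫ g := by
  have g𝒳 := h𝒳.isStack.1
  have g𝒴 := h𝒴.isStack.1
  have := isIso_of_vertical g𝒴 g hg
  have := isIso_of_vertical g𝒴 a ha
  have : IsOpenImmersion (pD R str).left := inferInstanceAs (IsOpenImmersion (O₁ R str ⊔ O₂ R str).ι)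
  have : IsOpenImmersion (pD R str ≫ G.jb).left := by
    have := G.open_jb
    rw [Over.comp_left]; infer_instance
  obtain ⟨pX, hpa, hpb⟩ := G.exists_desc (π R str) (π R str) rfl
  obtain ⟨X₃⟩ := Glued₂.exists_glued (pD R str ≫ G.jb) (pD R str)
  have w₁ : pD R str ≫ G.jb ≫ X₃.ja = pD R str ≫ X₃.jb := by
    rw [← Category.assoc]; exact X₃.isPB.w
  obtain ⟨ebc, b1, b2⟩ := G.exists_desc (G.jb ≫ X₃.ja) X₃.jb w₁
  obtain ⟨eac, c1, c2⟩ := G.exists_desc (G.ja ≫ X₃.ja) X₃.jb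
    (by rw [← w₁, ← Category.assoc, G.isPB.w, Category.assoc])
  -- the third restriction of the preimage of an object realising `(a', inv a)`
  obtain ⟨s, hs, hsa⟩ := exists_match_symm A B h𝒳 h𝒴 hη G hpa hpb a ha
  obtain ⟨t, ht, hta⟩ := exists_match_symm A B h𝒳 h𝒴 hη G hpa hpb (inv a) inferInstance
  let a' := g ≫ a ≫ inv g
  have hm' : Matches φ A B G s a' := by
    obtain ⟨ζ, ξ, h1, h2, e⟩ := hsa
    exact ⟨ζ, ξ, h1, h2.conj B g𝒴 ha g hg, e⟩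
  have key : ∀ b : ηy.1 ⟶ ηy.1, 𝒴.p.IsHomLift (𝟙 (T R str)) b → Matches φ A B G s b →
      Matches φ A B G (t ≫ s) (inv a ≫ b) := by
    intro b hb hm
    obtain ⟨ξ, hξ, t₁, t₂, t₃⟩ := exists_realise B h𝒴 X₃ b1 b2 c1 c2 b (inv a) hb inferInstance
    obtain ⟨ζ, hc⟩ := exists_clsEq' φ hξ
    obtain ⟨hζ, -, -⟩ := id hc
    have s₁ := TwistAlong.transfer (A := B) (B := A) h𝒴 g𝒳 (hc.symm g𝒳 g𝒴) (hm.symm A B g𝒳 g𝒴) t₁
    have s₂ := TwistAlong.transfer (A := B) (B := A) h𝒴 g𝒳 (hc.symm g𝒳 g𝒴) (hta.symm A B g𝒳 g𝒴) t₂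
    obtain ⟨d, d', hd, edd, s₃⟩ := TwistAlong.comp A h𝒳 b1.symm c1 (c2.trans b2.symm) hζ s₁ s₂
    have e : t ≫ d ≫ s ≫ d' = t ≫ s := by
      rw [← Category.assoc d s, hab d s hd hs, Category.assoc, edd, Category.comp_id]
    rw [e] at s₃
    exact TwistAlong.matches g𝒴 hc s₃ t₃
  have m1 := key a ha hsa
  rw [IsIso.inv_hom_id] at m1
  obtain ⟨c, hc, ec⟩ := Matches.conj A B h𝒳 h𝒴 hi m1 (key a' inferInstance hm')
  have := isIso_of_vertical g𝒴 c hc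
  rw [Category.id_comp] at ec
  have e2 : inv a ≫ a' = 𝟙 _ := by rw [← cancel_epi c, ec, Category.comp_id]
  rw [IsIso.inv_comp_eq, Category.comp_id] at e2
  simp only [a', ← Category.assoc, IsIso.comp_inv_eq] at e2
  exact e2

omit hA hB in
/-- Vertical morphisms which agree on affine schemes over the base are equal. -/
theorem ext_affine (h : IsAlgStack Scheme.fppfPrecoverage 𝒴) {W : Over S} {x y : 𝒴.obj}
    (a b : x ⟶ y) (ha : 𝒴.p.IsHomLift (𝟙 W) a) (hb : 𝒴.p.IsHomLift (𝟙 W) b)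
    (hl : ∀ (R : Type u) [CommRing R] (str : Spec (CommRingCat.of R) ⟶ S) (f : Over.mk str ⟶ W)
      (z : 𝒴.obj) (ψ : z ⟶ x), 𝒴.p.IsHomLift f ψ → ψ ≫ a = ψ ≫ b) : a = b := by
  have hx : 𝒴.p.obj x = W := IsHomLift.domain_eq 𝒴.p (𝟙 W) a
  let 𝒰 := W.left.affineOpenCover
  let Z : 𝒰.I₀ → Over S := fun i => Over.mk (𝒰.f i ≫ W.hom)
  let g : ∀ i, Z i ⟶ W := fun i => Over.homMk (𝒰.f i)
  have hfl : ∀ i, Flat (g i).left := fun i => inferInstanceAs (Flat (𝒰.f i))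
  have hfp : ∀ i, LocallyOfFinitePresentation (g i).left := fun i =>
    inferInstanceAs (LocallyOfFinitePresentation (𝒰.f i))
  have hR := Lib.AlgSpace.ofArrows_mem_J Z g hfl hfp fun y =>
    ⟨_, 𝒰.openCover.exists_eq y |>.choose_spec⟩
  refine (Detect.stackFor h hR).1 a b ha hb fun V f hf z ψ hψ => ?_
  rw [Sieve.mem_ofArrows_iff] at hf
  obtain ⟨i, v, rfl⟩ := hf
  obtain ⟨zi, ψi, hψi⟩ := exists_lift h.isStack.1 hx (g i)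
  have := cart h.isStack.1 ψi hψi
  let θ := Functor.IsStronglyCartesian.map 𝒴.p (g i) ψi (g := v) rfl ψ
  have eθ : θ ≫ ψi = ψ := Functor.IsStronglyCartesian.fac _ _ _ _ _
  rw [← eθ, Category.assoc, Category.assoc, hl (𝒰.X i) (𝒰.f i ≫ W.hom) (g i) zi ψi hψi]

omit hA hB in
theorem comm_of_isAutAbelian (h : IsFibGrpd 𝒳.p) {X : Over S} {η : 𝒳.p.Fiber X}
    (hab : _root_.IsoNat.IsAutAbelian η) {W : Over S} {z : 𝒳.obj} (m : z ⟶ η.1) (s t : z ⟶ z)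
    (hs : 𝒳.p.IsHomLift (𝟙 W) s) (ht : 𝒳.p.IsHomLift (𝟙 W) t) : s ≫ t = t ≫ s := by
  have hz : 𝒳.p.obj z = W := IsHomLift.domain_eq 𝒳.p (𝟙 W) s
  have := isIso_of_vertical h s hs
  have := isIso_of_vertical h t ht
  let z' : 𝒳.p.Fiber W := Functor.Fiber.mk hz
  let s' : Aut z' :=
    { hom := ⟨s, hs⟩, inv := ⟨inv s, inferInstance⟩
      hom_inv_id := Subtype.ext (IsIso.hom_inv_id s), inv_hom_id := Subtype.ext (IsIso.inv_hom_id s) }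
  let t' : Aut z' :=
    { hom := ⟨t, ht⟩, inv := ⟨inv t, inferInstance⟩
      hom_inv_id := Subtype.ext (IsIso.hom_inv_id t), inv_hom_id := Subtype.ext (IsIso.inv_hom_id t) }
  exact congrArg (fun i : Aut z' => i.hom.1) (hab W z' m t' s')

omit hA hB in
/-- An abelian automorphism sheaf passes to corresponding objects. -/
theorem isAutAbelian_of_cls (φ : _root_.IsoNat.FIso 𝒳 𝒴) (h𝒳 : IsAlgStack Scheme.fppfPrecoverage 𝒳)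
    (h𝒴 : IsAlgStack Scheme.fppfPrecoverage 𝒴)
    (hi : RepByAlgSpWith AlgSp.IsSeparatedMor (inertiaToBase (toSelf 𝒴)))
    {X : Over S} (η : 𝒳.p.Fiber X) (η' : 𝒴.p.Fiber X)
    (hη : φ.toEquiv X (_root_.IsoNat.cls η) = _root_.IsoNat.cls η')
    (hab : _root_.IsoNat.IsAutAbelian η) : _root_.IsoNat.IsAutAbelian η' := by
  intro W x a s t
  refine Iso.ext (Subtype.ext ?_)
  change t.hom.1 ≫ s.hom.1 = s.hom.1 ≫ t.hom.1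
  have := s.hom.2
  have := t.hom.2
  refine ext_affine h𝒴 (W := W) _ _ inferInstance inferInstance fun R _ str f z ψ hψ => ?_
  have g𝒳 := h𝒳.isStack.1
  have g𝒴 := h𝒴.isStack.1
  have hz : 𝒴.p.obj z = T R str := IsHomLift.domain_eq 𝒴.p f ψ
  obtain ⟨s', hs', es⟩ := Detect.exists_pull_aut g𝒴 ψ hψ s.hom.1 s.hom.2
  obtain ⟨t', ht', et⟩ := Detect.exists_pull_aut g𝒴 ψ hψ t.hom.1 t.hom.2
  obtain ⟨ζ, hζ⟩ := Cls.exists_cls ((φ.toEquiv (T R str)).symm (_root_.IsoNat.cls ⟨z, hz⟩))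
  have e : φ.toEquiv (T R str) (_root_.IsoNat.cls ζ) = _root_.IsoNat.cls ⟨z, hz⟩ := by
    rw [hζ, Equiv.apply_symm_apply]
  let g : T R str ⟶ X := f ≫ eqToHom x.2.symm ≫ 𝒴.p.map a ≫ eqToHom η'.2
  have ha : 𝒴.p.IsHomLift (eqToHom x.2.symm ≫ 𝒴.p.map a ≫ eqToHom η'.2) a :=
    IsHomLift.of_fac' _ _ _ x.2 η'.2 (by simp)
  obtain ⟨b, -⟩ := Cls.exists_hom_symm φ g𝒳 g𝒴 (y' := ⟨z, hz⟩) (g := g) (b := ψ ≫ a) inferInstance e hη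
  obtain ⟨ζu, A, hA⟩ := Cls.exists_pullback g𝒳 (π R str) ζ
  obtain ⟨ξu, B, hB⟩ := Cls.exists_pullback g𝒴 (π R str) (⟨z, hz⟩ : 𝒴.p.Fiber (T R str))
  have : IsOpenImmersion (pD R str).left := inferInstanceAs (IsOpenImmersion (O₁ R str ⊔ O₂ R str).ι)
  obtain ⟨G⟩ := Glued₂.exists_glued (pD R str) (pD R str)
  have key := comm_of_comm (A := A) (B := B) h𝒳 h𝒴 hi e G
    (fun s t hs ht => comm_of_isAutAbelian g𝒳 hab b s t hs ht) t' s' ht' hs'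
  rw [← reassoc_of% et, ← es, ← reassoc_of% es, ← et, reassoc_of% key]

omit hA hB in
/-- Having an abelian automorphism sheaf is invariant. -/
theorem isAutAbelian_iff (φ : _root_.IsoNat.FIso 𝒳 𝒴) (h𝒳 : IsAlgStack Scheme.fppfPrecoverage 𝒳)
    (h𝒴 : IsAlgStack Scheme.fppfPrecoverage 𝒴)
    (hi : RepByAlgSpWith AlgSp.IsSeparatedMor (inertiaToBase (toSelf 𝒳)))
    (hi' : RepByAlgSpWith AlgSp.IsSeparatedMor (inertiaToBase (toSelf 𝒴)))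
    {X : Over S} (η : 𝒳.p.Fiber X) (η' : 𝒴.p.Fiber X)
    (hη : φ.toEquiv X (_root_.IsoNat.cls η) = _root_.IsoNat.cls η') :
    _root_.IsoNat.IsAutAbelian η ↔ _root_.IsoNat.IsAutAbelian η' :=
  ⟨isAutAbelian_of_cls φ h𝒳 h𝒴 hi' η η' hη,
    isAutAbelian_of_cls (Pts.symm φ h𝒳.isStack.1 h𝒴.isStack.1) h𝒴 h𝒳 hi η' η
      ((φ.toEquiv X).symm_apply_eq.2 hη.symm)⟩

end Groth.Agent.H14.IsoNat.Twists
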