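import Groth.Agent.H14.IsoNat.CrossBase

/-!
An abelian automorphism group is recovered from the presheaf of isomorphism classes.
-/

set_option autoImplicit false
set_option backward.isDefEq.respectTransparency false
set_option backward.isDefEq.respectTransparency.types false
set_option maxHeartbeats 800000

universe u

open CategoryTheory CategoryTheory.Limits AlgebraicGeometry Groth.Agent.Lib.Fibred.Descent

namespace Groth.Agent.H14.IsoNat.Twists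

open Groth.Agent.Lib.Fibred.StackLemmas (isIso_of_vertical)
open FibCat (IsFibGrpd toSelf inertiaToBase)
open AlgSt (RepByAlgSpWith IsAlgStack)
open Cross (U T L P π πL zero j l₁ l₂ sub subι O₁ O₂)

variable {S : Scheme.{u}} {𝒳 𝒴 : AlgSt.Cat S}

theorem exists_doubled (R : Type u) [CommRing R] (str : Spec (CommRingCat.of R) ⟶ S) :
    ∃ (G : Doubled R str) (pX : G.pt ⟶ T R str), G.ja ≫ pX = π R str ∧ G.jb ≫ pX = π R str := by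
  have : IsOpenImmersion (pD R str).left := inferInstanceAs (IsOpenImmersion (O₁ R str ⊔ O₂ R str).ι)
  obtain ⟨G⟩ := Glued₂.exists_glued (pD R str) (pD R str)
  obtain ⟨pX, h1, h2⟩ := G.exists_desc (π R str) (π R str) rfl
  exact ⟨G, pX, h1, h2⟩

section Affine

variable {φ : _root_.IsoNat.FIso 𝒳 𝒴} {R : Type u} [CommRing R] {str : Spec (CommRingCat.of R) ⟶ S}
  {ηx : 𝒳.p.Fiber (T R str)} {ηy : 𝒴.p.Fiber (T R str)}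
  {ζu : 𝒳.obj} {ξu : 𝒴.obj} {A : ζu ⟶ ηx.1} [hA : 𝒳.p.IsHomLift (π R str) A]
  {B : ξu ⟶ ηy.1} [hB : 𝒴.p.IsHomLift (π R str) B] {G : Doubled R str}

include hA hB

theorem Matches.unique (h𝒳 : IsAlgStack Scheme.fppfPrecoverage 𝒳)
    (h𝒴 : IsAlgStack Scheme.fppfPrecoverage 𝒴)
    (hi : RepByAlgSpWith AlgSp.IsSeparatedMor (inertiaToBase (toSelf 𝒴)))
    (hcy : ∀ s t : ηy.1 ⟶ ηy.1, 𝒴.p.IsHomLift (𝟙 (T R str)) s → 𝒴.p.IsHomLift (𝟙 (T R str)) t →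
      s ≫ t = t ≫ s)
    {s : ηx.1 ⟶ ηx.1} {a a' : ηy.1 ⟶ ηy.1} (ha : 𝒴.p.IsHomLift (𝟙 (T R str)) a)
    (hm : Matches φ A B G s a) (hm' : Matches φ A B G s a') : a = a' := by
  obtain ⟨g, hg, e⟩ := Matches.conj A B h𝒳 h𝒴 hi hm hm'
  have := isIso_of_vertical h𝒴.isStack.1 g hg
  rw [← cancel_epi g, e, hcy g a hg ha]

theorem Matches.mul (h𝒳 : IsAlgStack Scheme.fppfPrecoverage 𝒳)
    (h𝒴 : IsAlgStack Scheme.fppfPrecoverage 𝒴)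
    (hcy : ∀ s t : ηy.1 ⟶ ηy.1, 𝒴.p.IsHomLift (𝟙 (T R str)) s → 𝒴.p.IsHomLift (𝟙 (T R str)) t →
      s ≫ t = t ≫ s)
    {s t : ηx.1 ⟶ ηx.1} {a b : ηy.1 ⟶ ηy.1} (hs : 𝒳.p.IsHomLift (𝟙 (T R str)) s)
    (ht : 𝒳.p.IsHomLift (𝟙 (T R str)) t) (ha : 𝒴.p.IsHomLift (𝟙 (T R str)) a)
    (hm : Matches φ A B G s a) (hm' : Matches φ A B G t b) :
    Matches φ A B G (t ≫ s) (b ≫ a) := by
  have g𝒴 := h𝒴.isStack.1
  have : IsOpenImmersion (pD R str).left := inferInstanceAs (IsOpenImmersion (O₁ R str ⊔ O₂ R str).ι)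
  have : IsOpenImmersion (pD R str ≫ G.jb).left := by
    have := G.open_jb
    rw [Over.comp_left]; infer_instance
  obtain ⟨X₃⟩ := Glued₂.exists_glued (pD R str ≫ G.jb) (pD R str)
  have w₁ : pD R str ≫ G.jb ≫ X₃.ja = pD R str ≫ X₃.jb := by
    rw [← Category.assoc]; exact X₃.isPB.w
  obtain ⟨ebc, b1, b2⟩ := G.exists_desc (G.jb ≫ X₃.ja) X₃.jb w₁
  obtain ⟨eac, c1, c2⟩ := G.exists_desc (G.ja ≫ X₃.ja) X₃.jb
    (by rw [← w₁, ← Category.assoc, G.isPB.w, Category.assoc])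
  obtain ⟨ζ, hζ, s₁, s₂, s₃⟩ := exists_realise A h𝒳 X₃ b1 b2 c1 c2 s t hs ht
  obtain ⟨ξ, hc⟩ := exists_clsEq φ hζ
  obtain ⟨-, hξ, -⟩ := id hc
  have t₁ := TwistAlong.transfer h𝒳 g𝒴 hc hm s₁
  have t₂ := TwistAlong.transfer h𝒳 g𝒴 hc hm' s₂
  obtain ⟨d, d', hd, edd, t₃⟩ := TwistAlong.comp B h𝒴 b1.symm c1 (c2.trans b2.symm) hξ t₁ t₂
  have e : b ≫ d ≫ a ≫ d' = b ≫ a := by
    rw [← Category.assoc d a, hcy d a hd ha, Category.assoc, edd, Category.comp_id]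
  rw [e] at t₃
  exact TwistAlong.matches g𝒴 hc s₃ t₃

end Affine

variable (φ : _root_.IsoNat.FIso 𝒳 𝒴) {X : Over S} (η : 𝒳.p.Fiber X) (η' : 𝒴.p.Fiber X)

/-- A morphism into `η'` which corresponds to the automorphism `s` of `η` on affine schemes. -/
def Loc (s : η.1 ⟶ η.1) {V : Over S} (f : V ⟶ X) {w : 𝒴.obj} (ψ m : w ⟶ η'.1) : Prop :=
  𝒴.p.IsHomLift f m ∧
  ∀ (R : Type u) [CommRing R] (str : Spec (CommRingCat.of R) ⟶ S) (k : T R str ⟶ V)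
    (ηy : 𝒴.p.Fiber (T R str)) (ρ : ηy.1 ⟶ w), 𝒴.p.IsHomLift k ρ →
    ∀ (ηx : 𝒳.p.Fiber (T R str)) (P : ηx.1 ⟶ η.1), 𝒳.p.IsHomLift (k ≫ f) P →
    ∀ (s' : ηx.1 ⟶ ηx.1) (a' : ηy.1 ⟶ ηy.1), 𝒳.p.IsHomLift (𝟙 (T R str)) s' →
      𝒴.p.IsHomLift (𝟙 (T R str)) a' → s' ≫ P = P ≫ s → a' ≫ ρ ≫ ψ = ρ ≫ m →
    ∀ (ζu : 𝒳.obj) (ξu : 𝒴.obj) (A : ζu ⟶ ηx.1) (B : ξu ⟶ ηy.1),
      𝒳.p.IsHomLift (π R str) A → 𝒴.p.IsHomLift (π R str) B →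
    ∀ G : Doubled R str, Matches φ A B G s' a'

variable {φ η η'}

theorem clsEq_fiber (h𝒴 : IsFibGrpd 𝒴.p) (hη : φ.toEquiv X (_root_.IsoNat.cls η) = _root_.IsoNat.cls η')
    {W : Over S} {g : W ⟶ X} {x : 𝒳.p.Fiber W} {y : 𝒴.p.Fiber W} (P : x.1 ⟶ η.1)
    (hP : 𝒳.p.IsHomLift g P) (Q : y.1 ⟶ η'.1) (hQ : 𝒴.p.IsHomLift g Q) :
    φ.toEquiv W (_root_.IsoNat.cls x) = _root_.IsoNat.cls y :=
  (ClsEq.restrict h𝒴 (⟨η.2, η'.2, hη⟩ : ClsEq φ X η.1 η'.1) P hP Q hQ).2.2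

theorem Loc.comp {s : η.1 ⟶ η.1} {V V' : Over S} {f : V ⟶ X} {v : V' ⟶ V}
    {w w' : 𝒴.obj} {ψ m : w ⟶ η'.1} (ρ₀ : w' ⟶ w) (hρ₀ : 𝒴.p.IsHomLift v ρ₀)
    (h : Loc φ η η' s f ψ m) : Loc φ η η' s (v ≫ f) (ρ₀ ≫ ψ) (ρ₀ ≫ m) := by
  have := h.1
  refine ⟨inferInstance, ?_⟩
  intro R _ str k ηy ρ hρ ηx P hP s' a' hs' ha' es ea
  exact h.2 R str (k ≫ v) ηy (ρ ≫ ρ₀) inferInstance ηx P (by rw [Category.assoc]; exact hP) s' a'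
    hs' ha' es (by rw [Category.assoc, Category.assoc]; exact ea)

theorem Loc.symm (h𝒳 : IsFibGrpd 𝒳.p) (h𝒴 : IsFibGrpd 𝒴.p) {s : η.1 ⟶ η.1}
    {a : η'.1 ⟶ η'.1} (hs : 𝒳.p.IsHomLift (𝟙 X) s) (h : Loc φ η η' s (𝟙 X) (𝟙 η'.1) a) :
    Loc (Pts.symm φ h𝒳 h𝒴) η' η a (𝟙 X) (𝟙 η.1) s := by
  refine ⟨hs, ?_⟩
  intro R _ str k ηy ρ hρ ηx P hP a' s' ha' hs' ea es ζu ξu A B hA hB G
  rw [Category.comp_id] at hP es
  exact Matches.symm B A h𝒳 h𝒴 (h.2 R str k ηx P hP ηy ρ (by rw [Category.comp_id]; exact hρ) s' a'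
    hs' ha' es (by rw [Category.comp_id]; exact ea) ξu ζu B A hB hA G)

variable (h𝒳 : IsAlgStack Scheme.fppfPrecoverage 𝒳) (h𝒴 : IsAlgStack Scheme.fppfPrecoverage 𝒴)
  (hi : RepByAlgSpWith AlgSp.IsSeparatedMor (inertiaToBase (toSelf 𝒴)))
  (hη : φ.toEquiv X (_root_.IsoNat.cls η) = _root_.IsoNat.cls η')
  (hcy : _root_.IsoNat.IsAutAbelian η')

include h𝒳 h𝒴 hi hcy in
theorem Loc.unique {s : η.1 ⟶ η.1} (hs : 𝒳.p.IsHomLift (𝟙 X) s) {V : Over S} {f : V ⟶ X}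
    {w : 𝒴.obj} {ψ : w ⟶ η'.1} (hψ : 𝒴.p.IsHomLift f ψ) {m m' : w ⟶ η'.1}
    (h : Loc φ η η' s f ψ m) (h' : Loc φ η η' s f ψ m') : m = m' := by
  have g𝒳 := h𝒳.isStack.1
  have g𝒴 := h𝒴.isStack.1
  obtain ⟨θ, hθ, eθ⟩ := exists_factor g𝒴 ψ hψ m h.1
  obtain ⟨θ', hθ', eθ'⟩ := exists_factor g𝒴 ψ hψ m' h'.1
  rw [← eθ, ← eθ']
  refine congrArg (fun x => x ≫ ψ) (ext_affine h𝒴 θ θ' hθ hθ' fun R _ str k z ρ hρ => ?_)
  obtain ⟨a, ha, ea⟩ := Detect.exists_pull_aut g𝒴 ρ hρ θ hθ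
  obtain ⟨a', ha', ea'⟩ := Detect.exists_pull_aut g𝒴 ρ hρ θ' hθ'
  let ηy : 𝒴.p.Fiber (T R str) := Functor.Fiber.mk (IsHomLift.domain_eq 𝒴.p k ρ)
  obtain ⟨ηx, P, hP⟩ := Cls.exists_pullback g𝒳 (k ≫ f) η
  obtain ⟨s', hs', es⟩ := Detect.exists_pull_aut g𝒳 P hP s hs
  obtain ⟨ζu, A, hA⟩ := Cls.exists_pullback g𝒳 (π R str) ηx
  obtain ⟨ξu, B, hB⟩ := Cls.exists_pullback g𝒴 (π R str) ηy
  obtain ⟨G, -, -, -⟩ := exists_doubled R str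
  have m1 := h.2 R str k ηy ρ hρ ηx P hP s' a hs' ha es
    (by rw [reassoc_of% ea, eθ]) ζu.1 ξu.1 A B hA hB G
  have m2 := h'.2 R str k ηy ρ hρ ηx P hP s' a' hs' ha' es
    (by rw [reassoc_of% ea', eθ']) ζu.1 ξu.1 A B hA hB G
  obtain rfl := Matches.unique h𝒳 h𝒴 hi
    (fun s t hs ht => comm_of_isAutAbelian g𝒴 hcy (ρ ≫ ψ) s t hs ht) ha m1 m2
  rw [← ea, ← ea']

include h𝒳 h𝒴 hη in
/-- The correspondent exists on affine schemes. -/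
theorem Loc.exists_affine {s : η.1 ⟶ η.1} (hs : 𝒳.p.IsHomLift (𝟙 X) s)
    (R : Type u) [CommRing R] (str : Spec (CommRingCat.of R) ⟶ S) (g : T R str ⟶ X)
    {w : 𝒴.obj} (ψ : w ⟶ η'.1) (hψ : 𝒴.p.IsHomLift g ψ) : ∃ m, Loc φ η η' s g ψ m := by
  have g𝒳 := h𝒳.isStack.1
  have g𝒴 := h𝒴.isStack.1
  let ηy : 𝒴.p.Fiber (T R str) := Functor.Fiber.mk (IsHomLift.domain_eq 𝒴.p g ψ)
  obtain ⟨ηx, P, hP⟩ := Cls.exists_pullback g𝒳 g η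
  obtain ⟨s', hs', es⟩ := Detect.exists_pull_aut g𝒳 P hP s hs
  obtain ⟨ζu, A, hA⟩ := Cls.exists_pullback g𝒳 (π R str) ηx
  obtain ⟨ξu, B, hB⟩ := Cls.exists_pullback g𝒴 (π R str) ηy
  obtain ⟨G, pX, hpa, hpb⟩ := exists_doubled R str
  obtain ⟨a, ha, hm⟩ := exists_match A B h𝒳 h𝒴 (clsEq_fiber g𝒴 hη P hP (y := ηy) ψ hψ) G hpa hpb s' hs'
  refine ⟨a ≫ ψ, IsHomLift.comp_lift_id_left' 𝒴.p (T R str) a g ψ, ?_⟩
  intro R' _ str' k ηy' ρ hρ ηx' P' hP' s'' a' hs'' ha' es' ea ζu' ξu' A' B' hA' hB' G'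
  have := cart g𝒳 P hP
  let θ := Functor.IsStronglyCartesian.map 𝒳.p g P (g := k) rfl P'
  have hθ : 𝒳.p.IsHomLift k θ := Functor.IsStronglyCartesian.map_isHomLift _ _ _ _ _
  have eθ : θ ≫ P = P' := Functor.IsStronglyCartesian.fac _ _ _ _ _
  have es₁ : s'' ≫ θ = θ ≫ s' := by
    refine ext_lift g𝒳 P hP (g := k) inferInstance inferInstance ?_
    rw [Category.assoc, eθ, es', Category.assoc, es, reassoc_of% eθ]
  have ea₁ : a' ≫ ρ = ρ ≫ a := by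
    refine ext_lift g𝒴 ψ hψ (g := k) inferInstance inferInstance ?_
    rw [Category.assoc, ea, Category.assoc]
  exact hm.restrict g𝒳 g𝒴 k A hA B hB A' hA' B' hB' G G' θ hθ ρ hρ hs'' es₁ ha' ea₁

include h𝒳 h𝒴 hi hη hcy in
/-- Every automorphism has a correspondent. -/
theorem Loc.exists_global {s : η.1 ⟶ η.1} (hs : 𝒳.p.IsHomLift (𝟙 X) s) :
    ∃ a : η'.1 ⟶ η'.1, 𝒴.p.IsHomLift (𝟙 X) a ∧ Loc φ η η' s (𝟙 X) (𝟙 η'.1) a := by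
  have g𝒳 := h𝒳.isStack.1
  have g𝒴 := h𝒴.isStack.1
  let 𝒰 := X.left.affineOpenCover
  let Z : 𝒰.I₀ → Over S := fun i => Over.mk (𝒰.f i ≫ X.hom)
  let gc : ∀ i, Z i ⟶ X := fun i => Over.homMk (𝒰.f i)
  have hfl : ∀ i, Flat (gc i).left := fun i => inferInstanceAs (Flat (𝒰.f i))
  have hfp : ∀ i, LocallyOfFinitePresentation (gc i).left := fun i =>
    inferInstanceAs (LocallyOfFinitePresentation (𝒰.f i))
  have hR := Lib.AlgSpace.ofArrows_mem_J Z gc hfl hfp fun y =>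
    ⟨_, 𝒰.openCover.exists_eq y |>.choose_spec⟩
  let 𝒮 : Sieve X :=
    { arrows := fun V f => ∃ (R : CommRingCat.{u}) (str : Spec R ⟶ S) (g : Over.mk str ⟶ X)
        (v : V ⟶ Over.mk str), v ≫ g = f
      downward_closed := by
        rintro V W f ⟨R, str, g, v, rfl⟩ u
        exact ⟨R, str, g, u ≫ v, Category.assoc _ _ _⟩ }
  have hS : 𝒮 ∈ AlgSp.J S X := by
    refine (AlgSp.J S).superset_covering (fun V f hf => ?_) hR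
    rw [Sieve.mem_ofArrows_iff] at hf
    obtain ⟨i, v, rfl⟩ := hf
    exact ⟨𝒰.X i, 𝒰.f i ≫ X.hom, gc i, v, rfl⟩
  have hex : ∀ ⦃V : Over S⦄ (f : V ⟶ X), 𝒮 f → ∀ ⦃w : 𝒴.obj⦄ (ψ : w ⟶ η'.1),
      𝒴.p.IsHomLift f ψ → ∃ m, Loc φ η η' s f ψ m := by
    rintro V f ⟨R, str, g, v, rfl⟩ w ψ hψ
    obtain ⟨w₀, ψ₀, hψ₀⟩ := exists_lift g𝒴 η'.2 g
    obtain ⟨m, hm⟩ := Loc.exists_affine h𝒳 h𝒴 hη hs R str g ψ₀ hψ₀
    have := cart g𝒴 ψ₀ hψ₀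
    let θ := Functor.IsStronglyCartesian.map 𝒴.p g ψ₀ (g := v) rfl ψ
    have hθ : 𝒴.p.IsHomLift v θ := Functor.IsStronglyCartesian.map_isHomLift _ _ _ _ _
    have eθ : θ ≫ ψ₀ = ψ := Functor.IsStronglyCartesian.fac _ _ _ _ _
    exact ⟨θ ≫ m, eθ ▸ hm.comp θ hθ⟩
  choose c hc using hex
  obtain ⟨a, ha, hca⟩ := (Detect.stackFor h𝒴 hS).2.1 η'.2 η'.2 c
    ⟨fun V f hf z ψ hψ => (hc f hf ψ hψ).1, fun V f hf z ψ hψ V' g z' ρ hρ hψ' =>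
      Loc.unique h𝒳 h𝒴 hi hcy hs hψ' (hc _ _ _ hψ') ((hc f hf ψ hψ).comp ρ hρ)⟩
  refine ⟨a, ha, ha, ?_⟩
  intro R _ str k ηy ρ hρ ηx P hP s' a' hs' ha' es ea
  rw [Category.comp_id] at hP ea
  have hk : 𝒮 k := ⟨CommRingCat.of R, str, k, 𝟙 _, Category.id_comp _⟩
  rw [hca k hk ρ hρ] at ea
  exact (hc k hk ρ hρ).2 R str (𝟙 _) ηy (𝟙 _) (IsHomLift.id ηy.2) ηx P
    (by rw [Category.id_comp]; exact hP) s' a' hs' ha' es (by simpa only [Category.id_comp] using ea)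

include h𝒳 h𝒴 hcy in
/-- Composites correspond to composites. -/
theorem Loc.mul {s t : η.1 ⟶ η.1} {a b : η'.1 ⟶ η'.1} (hs : 𝒳.p.IsHomLift (𝟙 X) s)
    (ht : 𝒳.p.IsHomLift (𝟙 X) t) (h : Loc φ η η' s (𝟙 X) (𝟙 η'.1) a)
    (h' : Loc φ η η' t (𝟙 X) (𝟙 η'.1) b) : Loc φ η η' (t ≫ s) (𝟙 X) (𝟙 η'.1) (b ≫ a) := by
  have g𝒳 := h𝒳.isStack.1
  have g𝒴 := h𝒴.isStack.1
  have := h.1
  have := h'.1
  refine ⟨inferInstance, ?_⟩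
  intro R _ str k ηy ρ hρ ηx P hP u c hu hc eu ec ζu ξu A B hA hB G
  rw [Category.comp_id] at ec
  obtain ⟨s', hs', es⟩ := Detect.exists_pull_aut g𝒳 P hP s (by simpa using hs)
  obtain ⟨t', ht', et⟩ := Detect.exists_pull_aut g𝒳 P hP t (by simpa using ht)
  obtain ⟨a', ha', ea⟩ := Detect.exists_pull_aut g𝒴 ρ hρ a h.1
  obtain ⟨b', hb', eb⟩ := Detect.exists_pull_aut g𝒴 ρ hρ b h'.1
  obtain rfl : u = t' ≫ s' := ext_lift g𝒳 P hP hu inferInstance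
    (by rw [eu, Category.assoc, es, reassoc_of% et])
  obtain rfl : c = b' ≫ a' := ext_lift g𝒴 ρ hρ hc inferInstance
    (by rw [ec, Category.assoc, ea, reassoc_of% eb])
  exact Matches.mul h𝒳 h𝒴 (fun s t hs ht => comm_of_isAutAbelian g𝒴 hcy ρ s t hs ht) hs' ht' ha'
    (h.2 R str k ηy ρ hρ ηx P hP s' a' hs' ha' es (by rw [Category.comp_id]; exact ea) ζu ξu A B hA hB G)
    (h'.2 R str k ηy ρ hρ ηx P hP t' b' ht' hb' et (by rw [Category.comp_id]; exact eb) ζu ξu A B hA hB G)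

theorem isHomLift_hom {Z : AlgSt.Cat S} {x : Z.p.Fiber X} (s : Aut x) :
    Z.p.IsHomLift (𝟙 X) s.hom.1 := s.hom.2

/-- A vertical endomorphism as an automorphism. -/
theorem exists_aut (h : IsFibGrpd 𝒴.p) {y : 𝒴.p.Fiber X} (a : y.1 ⟶ y.1)
    (ha : 𝒴.p.IsHomLift (𝟙 X) a) : ∃ i : Aut y, i.hom.1 = a := by
  have := isIso_of_vertical h a ha
  exact ⟨{ hom := ⟨a, ha⟩, inv := ⟨inv a, inferInstance⟩
           hom_inv_id := Subtype.ext (IsIso.hom_inv_id a)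
           inv_hom_id := Subtype.ext (IsIso.inv_hom_id a) }, rfl⟩

include h𝒳 h𝒴 hi hη hcy in
/-- Corresponding objects with abelian automorphism sheaves have isomorphic automorphism groups. -/
theorem nonempty_mulEquiv (hi' : RepByAlgSpWith AlgSp.IsSeparatedMor (inertiaToBase (toSelf 𝒳)))
    (hcx : _root_.IsoNat.IsAutAbelian η) : Nonempty (Aut η ≃* Aut η') := by
  have g𝒳 := h𝒳.isStack.1
  have g𝒴 := h𝒴.isStack.1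
  have hη' : (Pts.symm φ g𝒳 g𝒴).toEquiv X (_root_.IsoNat.cls η') = _root_.IsoNat.cls η :=
    (φ.toEquiv X).symm_apply_eq.2 hη.symm
  have hex : ∀ s : Aut η, ∃ a : Aut η', Loc φ η η' s.hom.1 (𝟙 X) (𝟙 η'.1) a.hom.1 := fun s => by
    obtain ⟨a, ha, hl⟩ := Loc.exists_global h𝒳 h𝒴 hi hη hcy (isHomLift_hom s)
    obtain ⟨i, rfl⟩ := exists_aut g𝒴 a ha
    exact ⟨i, hl⟩
  choose F hF using hex
  have huniq : ∀ (s : Aut η) (a : Aut η'), Loc φ η η' s.hom.1 (𝟙 X) (𝟙 η'.1) a.hom.1 → F s = a :=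
    fun s a h => Iso.ext (Subtype.ext (Loc.unique h𝒳 h𝒴 hi hcy (isHomLift_hom s) (IsHomLift.id η'.2)
      (hF s) h))
  have hbij : Function.Bijective F := by
    refine ⟨fun s t e => Iso.ext (Subtype.ext ?_), fun a => ?_⟩
    · exact Loc.unique h𝒴 h𝒳 hi' hcx (isHomLift_hom (F t)) (IsHomLift.id η.2)
        (e ▸ (hF s).symm g𝒳 g𝒴 (isHomLift_hom s)) ((hF t).symm g𝒳 g𝒴 (isHomLift_hom t))
    · obtain ⟨s, hs, hl⟩ := Loc.exists_global h𝒴 h𝒳 hi' hη' hcx (isHomLift_hom a)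
      obtain ⟨i, rfl⟩ := exists_aut g𝒳 s hs
      exact ⟨i, huniq i a (hl.symm g𝒴 g𝒳 (isHomLift_hom a))⟩
  exact ⟨{ Equiv.ofBijective F hbij with
    map_mul' := fun s t => huniq (s * t) (F s * F t)
      (Loc.mul h𝒳 h𝒴 hcy (isHomLift_hom s) (isHomLift_hom t) (hF s) (hF t)) }⟩

end Groth.Agent.H14.IsoNat.Twists
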