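import Groth.Agent.Lib.Fibred.StackLocal

/-!
Gluing two objects, and morphisms, along a cover by two monomorphisms.
-/

set_option autoImplicit false
set_option backward.isDefEq.respectTransparency false
set_option backward.isDefEq.respectTransparency.types false

universe v₂ u₂ v u

open CategoryTheory CategoryTheory.Functor Groth.Agent.Lib.Fibred.Descent

namespace Groth.Agent.H14.IsoNat.Glue2

variable {C : Type u} [Category.{v} C]

/-- A cover of an object by two monomorphisms, with their intersection. -/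
structure Cov (X : C) where
  A : C
  B : C
  D : C
  ia : A ⟶ X
  ib : B ⟶ X
  da : D ⟶ A
  db : D ⟶ B
  mono_ia : Mono ia
  mono_ib : Mono ib
  isPB : IsPullback da db ia ib

namespace Cov

variable {X : C} (c : Cov X)

/-- The sieve generated by the two monomorphisms. -/
def sieve : Sieve X where
  arrows V f := (∃ k : V ⟶ c.A, k ≫ c.ia = f) ∨ ∃ k : V ⟶ c.B, k ≫ c.ib = f
  downward_closed := by
    rintro V W f (⟨k, rfl⟩ | ⟨k, rfl⟩) g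
    · exact Or.inl ⟨g ≫ k, Category.assoc _ _ _⟩
    · exact Or.inr ⟨g ≫ k, Category.assoc _ _ _⟩

theorem ha : c.sieve c.ia := Or.inl ⟨𝟙 _, Category.id_comp _⟩

theorem hb : c.sieve c.ib := Or.inr ⟨𝟙 _, Category.id_comp _⟩

theorem hd : c.sieve (c.da ≫ c.ia) := Or.inl ⟨c.da, rfl⟩

theorem w : c.da ≫ c.ia = c.db ≫ c.ib := c.isPB.w

theorem exists_kd {V : C} {f : V ⟶ X} {ka : V ⟶ c.A} {kb : V ⟶ c.B} (ha : ka ≫ c.ia = f)
    (hb : kb ≫ c.ib = f) : ∃ kd : V ⟶ c.D, kd ≫ c.da = ka ∧ kd ≫ c.db = kb :=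
  ⟨c.isPB.lift ka kb (ha.trans hb.symm), c.isPB.lift_fst _ _ _, c.isPB.lift_snd _ _ _⟩

theorem kd_ext {V : C} {k k' : V ⟶ c.D} (h : k ≫ c.da = k' ≫ c.da) : k = k' :=
  haveI := c.mono_ib
  c.isPB.hom_ext h ((cancel_mono c.ib).1 (by
    rw [Category.assoc, ← c.w, ← Category.assoc, h, Category.assoc, c.w, Category.assoc]))

end Cov

variable {X : C} {𝒳 : BasedCategory.{v₂, u₂} C} {c : Cov X} {ξa ξb ξd : 𝒳.obj} (pa : ξd ⟶ ξa) (pb : ξd ⟶ ξb)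

/-- Restrictions of the two objects to an arrow of the sieve. -/
structure Leg {V : C} (f : V ⟶ X) (z : 𝒳.obj) where
  a : ∀ k : V ⟶ c.A, k ≫ c.ia = f → (z ⟶ ξa)
  b : ∀ k : V ⟶ c.B, k ≫ c.ib = f → (z ⟶ ξb)
  proj : 𝒳.p.obj z = V
  la : ∀ (k : V ⟶ c.A) (hk : k ≫ c.ia = f), 𝒳.p.IsHomLift k (a k hk)
  lb : ∀ (k : V ⟶ c.B) (hk : k ≫ c.ib = f), 𝒳.p.IsHomLift k (b k hk)
  compat : ∀ (kd : V ⟶ c.D) (hk : (kd ≫ c.da) ≫ c.ia = f) (hk' : (kd ≫ c.db) ≫ c.ib = f),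
    ∃ w : z ⟶ ξd, 𝒳.p.IsHomLift kd w ∧ w ≫ pa = a (kd ≫ c.da) hk ∧ w ≫ pb = b (kd ≫ c.db) hk'

variable {pa pb} (h : FibCat.IsFibGrpd 𝒳.p) (ha : 𝒳.p.obj ξa = c.A) (hb : 𝒳.p.obj ξb = c.B)
  (hpa : 𝒳.p.IsHomLift c.da pa) (hpb : 𝒳.p.IsHomLift c.db pb)
include h hpa hpb

omit hpb in
theorem exists_w {V : C} {kd : V ⟶ c.D} {z : 𝒳.obj} (χ : z ⟶ ξa) [𝒳.p.IsHomLift (kd ≫ c.da) χ] :
    ∃ w : z ⟶ ξd, 𝒳.p.IsHomLift kd w ∧ w ≫ pa = χ := by
  have := cart h pa hpa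
  exact ⟨IsStronglyCartesian.map 𝒳.p c.da pa (g := kd) rfl χ, IsStronglyCartesian.map_isHomLift _ _ _ _ _,
    IsStronglyCartesian.fac _ _ _ _ _⟩

include ha hb

theorem exists_leg {V : C} {f : V ⟶ X} (hf : c.sieve f) :
    ∃ z : 𝒳.obj, Nonempty (Leg pa pb (c := c) f z) := by
  have := c.mono_ia
  have := c.mono_ib
  by_cases hA : ∃ k : V ⟶ c.A, k ≫ c.ia = f
  · obtain ⟨ka, hka⟩ := hA
    obtain ⟨z, χ, hχ⟩ := exists_lift h ha ka
    have key : ∀ k : V ⟶ c.B, k ≫ c.ib = f → ∃ (kd : V ⟶ c.D) (w : z ⟶ ξd),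
        kd ≫ c.da = ka ∧ kd ≫ c.db = k ∧ 𝒳.p.IsHomLift kd w ∧ w ≫ pa = χ := by
      intro k hk
      obtain ⟨kd, h1, h2⟩ := c.exists_kd hka hk
      have : 𝒳.p.IsHomLift (kd ≫ c.da) χ := h1.symm ▸ hχ
      obtain ⟨w, hw, e⟩ := exists_w h hpa (kd := kd) χ
      exact ⟨kd, w, h1, h2, hw, e⟩
    choose kd w h1 h2 hw e using key
    refine ⟨z, ⟨{ a := fun k hk => χ, b := fun k hk => w k hk ≫ pb
                  proj := IsHomLift.domain_eq 𝒳.p ka χ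
                  la := fun k hk => ?_, lb := fun k hk => ?_, compat := fun k hk hk' => ?_ }⟩⟩
    · rw [(cancel_mono c.ia).1 (hk.trans hka.symm)]; exact hχ
    · have := hw k hk
      have h3 : 𝒳.p.IsHomLift (kd k hk ≫ c.db) (w k hk ≫ pb) := inferInstance
      exact (congrArg (fun q => 𝒳.p.IsHomLift q (w k hk ≫ pb)) (h2 k hk)).mp h3
    · have hkd : kd (k ≫ c.db) hk' = k := c.kd_ext
        ((h1 _ hk').trans ((cancel_mono c.ia).1 (hk.trans hka.symm)).symm)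
      have h3 := hw _ hk'
      rw [hkd] at h3
      exact ⟨w _ hk', h3, e _ hk', rfl⟩
  · obtain ⟨kb, hkb⟩ := hf.resolve_left hA
    obtain ⟨z, χ, hχ⟩ := exists_lift h hb kb
    exact ⟨z, ⟨{ a := fun k hk => (hA ⟨k, hk⟩).elim, b := fun k hk => χ
                 proj := IsHomLift.domain_eq 𝒳.p kb χ
                 la := fun k hk => (hA ⟨k, hk⟩).elim
                 lb := fun k hk => by rw [(cancel_mono c.ib).1 (hk.trans hkb.symm)]; exact hχ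
                 compat := fun k hk _ => (hA ⟨_, hk⟩).elim }⟩⟩

omit ha hb hpb in
theorem exists_unique_map {V V' : C} {f : V ⟶ X} {f' : V' ⟶ X} (hf : c.sieve f) {z z' : 𝒳.obj}
    (L : Leg pa pb (c := c) f z) (L' : Leg pa pb (c := c) f' z') (g : V' ⟶ V) (hg : g ≫ f = f') :
    ∃! θ : z' ⟶ z, 𝒳.p.IsHomLift g θ ∧
      (∀ k hk, θ ≫ L.a k hk = L'.a (g ≫ k) (by rw [Category.assoc, hk, hg])) ∧
      (∀ k hk, θ ≫ L.b k hk = L'.b (g ≫ k) (by rw [Category.assoc, hk, hg])) := by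
  have := c.mono_ia
  have := c.mono_ib
  by_cases hA : ∃ k : V ⟶ c.A, k ≫ c.ia = f
  · obtain ⟨ka, hka⟩ := hA
    have := L.la ka hka
    have := cart h (L.a ka hka) (L.la ka hka)
    have := L'.la (g ≫ ka) (by rw [Category.assoc, hka, hg])
    let θ := IsStronglyCartesian.map 𝒳.p ka (L.a ka hka) (g := g) rfl
      (L'.a (g ≫ ka) _)
    have hθ : 𝒳.p.IsHomLift g θ := IsStronglyCartesian.map_isHomLift _ _ _ _ _
    have eθ : θ ≫ L.a ka hka = L'.a (g ≫ ka) _ := IsStronglyCartesian.fac 𝒳.p ka _ _ _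
    refine ⟨θ, ⟨hθ, fun k hk => ?_, fun k hk => ?_⟩, fun θ' hθ' => ?_⟩
    · obtain rfl := (cancel_mono c.ia).1 (hk.trans hka.symm)
      exact eθ
    · obtain ⟨kd, h1, h2⟩ := c.exists_kd hka hk
      subst h1 h2
      obtain ⟨w, hw, e1, e2⟩ := L.compat kd hka hk
      obtain ⟨w', hw', e1', e2'⟩ := L'.compat (g ≫ kd)
        (by rw [Category.assoc g, Category.assoc g, hka, hg])
        (by rw [Category.assoc g, Category.assoc g, hk, hg])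
      have e : θ ≫ w = w' := by
        refine ext_lift h pa hpa (g := g ≫ kd) inferInstance hw' ?_
        rw [Category.assoc, e1, eθ, e1']
        congr 1
        rw [Category.assoc]
      rw [← e2, ← Category.assoc, e, e2']
      congr 1
      rw [Category.assoc]
    · exact ext_lift h _ (L.la ka hka) hθ'.1 hθ ((hθ'.2.1 ka hka).trans eθ.symm)
  · obtain ⟨kb, hkb⟩ := hf.resolve_left hA
    have := L.lb kb hkb
    have := cart h (L.b kb hkb) (L.lb kb hkb)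
    have := L'.lb (g ≫ kb) (by rw [Category.assoc, hkb, hg])
    let θ := IsStronglyCartesian.map 𝒳.p kb (L.b kb hkb) (g := g) rfl
      (L'.b (g ≫ kb) _)
    have hθ : 𝒳.p.IsHomLift g θ := IsStronglyCartesian.map_isHomLift _ _ _ _ _
    have eθ : θ ≫ L.b kb hkb = L'.b (g ≫ kb) _ := IsStronglyCartesian.fac 𝒳.p kb _ _ _
    refine ⟨θ, ⟨hθ, fun k hk => (hA ⟨k, hk⟩).elim, fun k hk => ?_⟩, fun θ' hθ' => ?_⟩
    · obtain rfl := (cancel_mono c.ib).1 (hk.trans hkb.symm)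
      exact eθ
    · exact ext_lift h _ (L.lb kb hkb) hθ'.1 hθ ((hθ'.2.2 kb hkb).trans eθ.symm)

/-- Two objects agreeing on the intersection glue. -/
theorem exists_glue (hG : GlueObj c.sieve 𝒳) :
    ∃ (ξ : 𝒳.obj) (φa : ξa ⟶ ξ) (φb : ξb ⟶ ξ), 𝒳.p.obj ξ = X ∧ 𝒳.p.IsHomLift c.ia φa ∧
      𝒳.p.IsHomLift c.ib φb ∧ pa ≫ φa = pb ≫ φb := by
  choose Z hZ using fun a : (Stk.sieveCat c.sieve).obj =>
    exists_leg (c := c) h ha hb hpa hpb (f := a.obj.hom) a.property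
  let L := hZ
  choose M hM hMu using fun {a b : (Stk.sieveCat c.sieve).obj} (m : a ⟶ b) =>
    exists_unique_map h hpa b.property (L b).some (L a).some m.hom.left (Over.w m.hom)
  let H : Stk.sieveCat c.sieve ⥤ᵇ 𝒳 :=
    { obj := Z
      map := fun m => M m
      map_id := fun a => (hMu (𝟙 a) _ ⟨by
          rw [show (𝟙 a : a ⟶ a).hom.left = 𝟙 a.obj.left from rfl]
          exact IsHomLift.id (L a).some.proj,
        fun k hk => (Category.id_comp _).trans (by congr 1; exact (Category.id_comp k).symm),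
        fun k hk => (Category.id_comp _).trans (by congr 1; exact (Category.id_comp k).symm)⟩).symm
      map_comp := fun {a b d} m n => (hMu (m ≫ n) _ ⟨by
          have := (hM m).1
          have := (hM n).1
          change 𝒳.p.IsHomLift (m.hom.left ≫ n.hom.left) _
          infer_instance,
        fun k hk => by
          rw [Category.assoc, (hM n).2.1 k hk, (hM m).2.1]
          congr 1
          exact (Category.assoc _ _ _).symm,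
        fun k hk => by
          rw [Category.assoc, (hM n).2.2 k hk, (hM m).2.2]
          congr 1
          exact (Category.assoc _ _ _).symm⟩).symm
      w := CategoryTheory.Functor.ext (fun a => (L a).some.proj) fun a b m => by
        have := (hM m).1
        exact IsHomLift.fac' 𝒳.p m.hom.left (M m) }
  obtain ⟨g⟩ := hG H
  let Aa : (Stk.sieveCat c.sieve).obj := ⟨Over.mk c.ia, c.ha⟩
  let Ab : (Stk.sieveCat c.sieve).obj := ⟨Over.mk c.ib, c.hb⟩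
  let Ad : (Stk.sieveCat c.sieve).obj := ⟨Over.mk (c.da ≫ c.ia), c.hd⟩
  have k1 : (𝟙 c.A) ≫ c.ia = c.ia := Category.id_comp _
  have k2 : (𝟙 c.B) ≫ c.ib = c.ib := Category.id_comp _
  let χa := (L Aa).some.a (𝟙 c.A) k1
  let χb := (L Ab).some.b (𝟙 c.B) k2
  have hχa : 𝒳.p.IsHomLift (𝟙 c.A) χa := (L Aa).some.la _ _
  have hχb : 𝒳.p.IsHomLift (𝟙 c.B) χb := (L Ab).some.lb _ _
  have := Lib.Fibred.StackLemmas.isIso_of_vertical h χa hχa
  have := Lib.Fibred.StackLemmas.isIso_of_vertical h χb hχb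
  have hιa : 𝒳.p.IsHomLift c.ia (g.ι Aa) := g.lifts Aa
  have hιb : 𝒳.p.IsHomLift c.ib (g.ι Ab) := g.lifts Ab
  refine ⟨g.pt, inv χa ≫ g.ι Aa, inv χb ≫ g.ι Ab, g.proj, inferInstance, inferInstance, ?_⟩
  have j1 : (𝟙 c.D ≫ c.da) ≫ c.ia = c.da ≫ c.ia := by rw [Category.id_comp]
  have j2 : (𝟙 c.D ≫ c.db) ≫ c.ib = c.da ≫ c.ia := by rw [Category.id_comp, c.w]
  obtain ⟨w, hw, e1, e2⟩ := (L Ad).some.compat (𝟙 c.D) j1 j2
  have := Lib.Fibred.StackLemmas.isIso_of_vertical h w hw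
  let ma : Ad ⟶ Aa := ObjectProperty.homMk (Over.homMk c.da rfl)
  let mb : Ad ⟶ Ab := ObjectProperty.homMk (Over.homMk c.db c.w.symm)
  have ea : M ma ≫ χa = w ≫ pa := by
    rw [(hM ma).2.1 _ k1, e1]
    congr 1
    exact (Category.comp_id _).trans (Category.id_comp _).symm
  have eb : M mb ≫ χb = w ≫ pb := by
    rw [(hM mb).2.2 _ k2, e2]
    congr 1
    exact (Category.comp_id _).trans (Category.id_comp _).symm
  rw [← cancel_epi w, ← Category.assoc, ← ea, ← Category.assoc w, ← eb]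
  simp only [Category.assoc, IsIso.hom_inv_id_assoc]
  exact (g.w ma).trans (g.w mb).symm

omit h ha hb hpa hpb in
/-- Morphisms out of a glued object glue. -/
theorem exists_desc (h : FibCat.IsFibGrpd 𝒳.p) (hGH : GlueHom c.sieve 𝒳) {ξ η : 𝒳.obj}
    (hξ : 𝒳.p.obj ξ = X) (hη : 𝒳.p.obj η = X) (hpa : 𝒳.p.IsHomLift c.da pa)
    (φa : ξa ⟶ ξ) (φb : ξb ⟶ ξ) (hφa : 𝒳.p.IsHomLift c.ia φa) (hφb : 𝒳.p.IsHomLift c.ib φb)
    (hφ : pa ≫ φa = pb ≫ φb) (ψa : ξa ⟶ η) (ψb : ξb ⟶ η) (hψa : 𝒳.p.IsHomLift c.ia ψa)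
    (hψb : 𝒳.p.IsHomLift c.ib ψb) (hψ : pa ≫ ψa = pb ≫ ψb) (hpb : 𝒳.p.IsHomLift c.db pb) :
    ∃ t : ξ ⟶ η, 𝒳.p.IsHomLift (𝟙 X) t ∧ φa ≫ t = ψa ∧ φb ≫ t = ψb := by
  have := c.mono_ia
  have := c.mono_ib
  have key : ∀ ⦃V : C⦄ (f : V ⟶ X), c.sieve f → ∀ ⦃z : 𝒳.obj⦄ (ψ : z ⟶ ξ), 𝒳.p.IsHomLift f ψ →
      ∃ r : z ⟶ η, 𝒳.p.IsHomLift f r ∧
        (∀ (k : V ⟶ c.A) (θ : z ⟶ ξa), k ≫ c.ia = f → 𝒳.p.IsHomLift k θ → θ ≫ φa = ψ → θ ≫ ψa = r) ∧
        (∀ (k : V ⟶ c.B) (θ : z ⟶ ξb), k ≫ c.ib = f → 𝒳.p.IsHomLift k θ → θ ≫ φb = ψ → θ ≫ ψb = r) := by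
    intro V f hf z ψ hψ'
    by_cases hA : ∃ k : V ⟶ c.A, k ≫ c.ia = f
    · obtain ⟨k, rfl⟩ := hA
      have := cart h φa hφa
      let θ := IsStronglyCartesian.map 𝒳.p c.ia φa (g := k) rfl ψ
      have hθ : 𝒳.p.IsHomLift k θ := IsStronglyCartesian.map_isHomLift _ _ _ _ _
      have eθ : θ ≫ φa = ψ := IsStronglyCartesian.fac _ _ _ _ _
      refine ⟨θ ≫ ψa, inferInstance, fun k' θ' hk' hθ' e => ?_, fun k' θ' hk' hθ' e => ?_⟩
      · obtain rfl := (cancel_mono c.ia).1 hk'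
        rw [ext_lift h φa hφa hθ' hθ (e.trans eθ.symm)]
      · obtain ⟨kd, rfl, rfl⟩ := c.exists_kd (f := k ≫ c.ia) rfl hk'
        obtain ⟨w, hw, ew⟩ := exists_w h hpa (kd := kd) θ
        have : θ' = w ≫ pb := ext_lift h φb hφb hθ' inferInstance (by
          rw [e, Category.assoc, ← hφ, ← Category.assoc, ew, eθ])
        rw [this, Category.assoc, ← hψ, ← Category.assoc, ew]
    · obtain ⟨k, rfl⟩ := hf.resolve_left hA
      have := cart h φb hφb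
      let θ := IsStronglyCartesian.map 𝒳.p c.ib φb (g := k) rfl ψ
      have hθ : 𝒳.p.IsHomLift k θ := IsStronglyCartesian.map_isHomLift _ _ _ _ _
      have eθ : θ ≫ φb = ψ := IsStronglyCartesian.fac _ _ _ _ _
      refine ⟨θ ≫ ψb, inferInstance, fun k' θ' hk' _ _ => (hA ⟨k', hk'⟩).elim, fun k' θ' hk' hθ' e => ?_⟩
      obtain rfl := (cancel_mono c.ib).1 hk'
      rw [ext_lift h φb hφb hθ' hθ (e.trans eθ.symm)]
  choose r hr ha' hb' using key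
  have hcomp : Fam.Compatible (R := c.sieve) (𝒳 := 𝒳) (fun V f hf z ψ hψ' => r f hf ψ hψ') := by
    refine ⟨fun V f hf z ψ hψ' => hr f hf ψ hψ', fun V f hf z ψ hψ' V' g z' ρ hρ hρψ => ?_⟩
    rcases hf with ⟨k, hk⟩ | ⟨k, hk⟩
    · subst hk
      have := cart h φa hφa
      let θ := IsStronglyCartesian.map 𝒳.p c.ia φa (g := k) rfl ψ
      have hθ : 𝒳.p.IsHomLift k θ := IsStronglyCartesian.map_isHomLift _ _ _ _ _
      have eθ : θ ≫ φa = ψ := IsStronglyCartesian.fac _ _ _ _ _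
      rw [← ha' _ _ ψ hψ' k θ rfl hθ eθ, ← ha' _ _ (ρ ≫ ψ) hρψ (g ≫ k) (ρ ≫ θ) (Category.assoc _ _ _)
        inferInstance (by rw [Category.assoc, eθ]), Category.assoc]
    · subst hk
      have := cart h φb hφb
      let θ := IsStronglyCartesian.map 𝒳.p c.ib φb (g := k) rfl ψ
      have hθ : 𝒳.p.IsHomLift k θ := IsStronglyCartesian.map_isHomLift _ _ _ _ _
      have eθ : θ ≫ φb = ψ := IsStronglyCartesian.fac _ _ _ _ _
      rw [← hb' _ _ ψ hψ' k θ rfl hθ eθ, ← hb' _ _ (ρ ≫ ψ) hρψ (g ≫ k) (ρ ≫ θ) (Category.assoc _ _ _)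
        inferInstance (by rw [Category.assoc, eθ]), Category.assoc]
  obtain ⟨t, ht, e⟩ := hGH hξ hη _ hcomp
  have hξa : 𝒳.p.obj ξa = c.A := IsHomLift.domain_eq 𝒳.p c.ia φa
  have hξb : 𝒳.p.obj ξb = c.B := IsHomLift.domain_eq 𝒳.p c.ib φb
  refine ⟨t, ht, ?_, ?_⟩
  · rw [e c.ia c.ha φa hφa, ← ha' _ _ _ hφa (𝟙 _) (𝟙 ξa) (Category.id_comp _) (IsHomLift.id hξa)
      (Category.id_comp _), Category.id_comp]
  · rw [e c.ib c.hb φb hφb, ← hb' _ _ _ hφb (𝟙 _) (𝟙 ξb) (Category.id_comp _) (IsHomLift.id hξb)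
      (Category.id_comp _), Category.id_comp]

omit h ha hb hpa hpb in
/-- Morphisms out of the pullback of a glued object. -/
theorem exists_desc_pullback (h : FibCat.IsFibGrpd 𝒳.p) {X₀ : C} {f₀ : X₀ ⟶ X}
    (hGH : GlueHom (c.sieve.pullback f₀) 𝒳) {ξ η ξ₀ : 𝒳.obj} (hη : 𝒳.p.obj η = X)
    (P₀ : ξ₀ ⟶ ξ) (hP₀ : 𝒳.p.IsHomLift f₀ P₀) (hpa : 𝒳.p.IsHomLift c.da pa)
    (hpb : 𝒳.p.IsHomLift c.db pb)
    (φa : ξa ⟶ ξ) (φb : ξb ⟶ ξ) (hφa : 𝒳.p.IsHomLift c.ia φa) (hφb : 𝒳.p.IsHomLift c.ib φb)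
    (hφ : pa ≫ φa = pb ≫ φb) (ψa : ξa ⟶ η) (ψb : ξb ⟶ η) (hψa : 𝒳.p.IsHomLift c.ia ψa)
    (hψb : 𝒳.p.IsHomLift c.ib ψb)
    (hψ : ∀ ⦃V : C⦄ (kd : V ⟶ c.D) (m : V ⟶ X₀), m ≫ f₀ = kd ≫ c.da ≫ c.ia →
      ∀ ⦃z : 𝒳.obj⦄ (w : z ⟶ ξd), 𝒳.p.IsHomLift kd w → w ≫ pa ≫ ψa = w ≫ pb ≫ ψb) :
    ∃ t : ξ₀ ⟶ η, 𝒳.p.IsHomLift f₀ t := by
  have := c.mono_ia
  have := c.mono_ib
  have hξ₀ : 𝒳.p.obj ξ₀ = X₀ := IsHomLift.domain_eq 𝒳.p f₀ P₀
  obtain ⟨η₀, Q, hQ⟩ := exists_lift h hη f₀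
  have hη₀ : 𝒳.p.obj η₀ = X₀ := IsHomLift.domain_eq 𝒳.p f₀ Q
  have key : ∀ ⦃V : C⦄ (g : V ⟶ X₀), c.sieve.pullback f₀ g → ∀ ⦃z : 𝒳.obj⦄ (ψ : z ⟶ ξ₀),
      𝒳.p.IsHomLift g ψ → ∃ r : z ⟶ η₀, 𝒳.p.IsHomLift g r ∧
        (∀ (k : V ⟶ c.A) (θ : z ⟶ ξa), k ≫ c.ia = g ≫ f₀ → 𝒳.p.IsHomLift k θ →
          θ ≫ φa = ψ ≫ P₀ → θ ≫ ψa = r ≫ Q) ∧
        (∀ (k : V ⟶ c.B) (θ : z ⟶ ξb), k ≫ c.ib = g ≫ f₀ → 𝒳.p.IsHomLift k θ →
          θ ≫ φb = ψ ≫ P₀ → θ ≫ ψb = r ≫ Q) := by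
    intro V g hf z ψ hψ'
    have := cart h Q hQ
    by_cases hA : ∃ k : V ⟶ c.A, k ≫ c.ia = g ≫ f₀
    · obtain ⟨k, hk⟩ := hA
      have := cart h φa hφa
      let θ := IsStronglyCartesian.map 𝒳.p c.ia φa (g := k) hk.symm (ψ ≫ P₀)
      have hθ : 𝒳.p.IsHomLift k θ := IsStronglyCartesian.map_isHomLift _ _ _ _ _
      have eθ : θ ≫ φa = ψ ≫ P₀ := IsStronglyCartesian.fac _ _ _ _ _
      have hl : 𝒳.p.IsHomLift (g ≫ f₀) (θ ≫ ψa) := by rw [← hk]; infer_instance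
      let r := IsStronglyCartesian.map 𝒳.p f₀ Q (g := g) rfl (θ ≫ ψa)
      have hr : 𝒳.p.IsHomLift g r := IsStronglyCartesian.map_isHomLift _ _ _ _ _
      have er : r ≫ Q = θ ≫ ψa := IsStronglyCartesian.fac _ _ _ _ _
      refine ⟨r, hr, fun k' θ' hk' hθ' e => ?_, fun k' θ' hk' hθ' e => ?_⟩
      · obtain rfl := (cancel_mono c.ia).1 (hk'.trans hk.symm)
        rw [ext_lift h φa hφa hθ' hθ (e.trans eθ.symm), er]
      · obtain ⟨kd, h1, h2⟩ := c.exists_kd hk hk'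
        subst h1 h2
        obtain ⟨w, hw, ew⟩ := exists_w h hpa (kd := kd) θ
        have : θ' = w ≫ pb := ext_lift h φb hφb hθ' inferInstance (by
          rw [e, Category.assoc, ← hφ, ← Category.assoc, ew, eθ])
        rw [this, Category.assoc, ← hψ kd g (by rw [← Category.assoc]; exact hk.symm) w hw, er,
          ← Category.assoc, ew]
    · obtain ⟨k, hk⟩ := (show c.sieve (g ≫ f₀) from hf).resolve_left hA
      have := cart h φb hφb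
      let θ := IsStronglyCartesian.map 𝒳.p c.ib φb (g := k) hk.symm (ψ ≫ P₀)
      have hθ : 𝒳.p.IsHomLift k θ := IsStronglyCartesian.map_isHomLift _ _ _ _ _
      have eθ : θ ≫ φb = ψ ≫ P₀ := IsStronglyCartesian.fac _ _ _ _ _
      have hl : 𝒳.p.IsHomLift (g ≫ f₀) (θ ≫ ψb) := by rw [← hk]; infer_instance
      let r := IsStronglyCartesian.map 𝒳.p f₀ Q (g := g) rfl (θ ≫ ψb)
      have hr : 𝒳.p.IsHomLift g r := IsStronglyCartesian.map_isHomLift _ _ _ _ _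
      have er : r ≫ Q = θ ≫ ψb := IsStronglyCartesian.fac _ _ _ _ _
      refine ⟨r, hr, fun k' θ' hk' _ _ => (hA ⟨k', hk'⟩).elim, fun k' θ' hk' hθ' e => ?_⟩
      obtain rfl := (cancel_mono c.ib).1 (hk'.trans hk.symm)
      rw [ext_lift h φb hφb hθ' hθ (e.trans eθ.symm), er]
  choose r hr ha' hb' using key
  have hcomp : Fam.Compatible (R := c.sieve.pullback f₀) (𝒳 := 𝒳)
      (fun V g hg z ψ hψ' => r g hg ψ hψ') := by
    refine ⟨fun V g hg z ψ hψ' => hr g hg ψ hψ', fun V g hg z ψ hψ' V' l z' ρ hρ hρψ => ?_⟩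
    have := hr g hg ψ hψ'
    refine ext_lift h Q hQ (g := l ≫ g) (hr _ _ _ hρψ) inferInstance ?_
    rcases (show c.sieve (g ≫ f₀) from hg) with ⟨k, hk⟩ | ⟨k, hk⟩
    · have := cart h φa hφa
      let θ := IsStronglyCartesian.map 𝒳.p c.ia φa (g := k) hk.symm (ψ ≫ P₀)
      have hθ : 𝒳.p.IsHomLift k θ := IsStronglyCartesian.map_isHomLift _ _ _ _ _
      have eθ : θ ≫ φa = ψ ≫ P₀ := IsStronglyCartesian.fac _ _ _ _ _
      rw [← ha' _ _ (ρ ≫ ψ) hρψ (l ≫ k) (ρ ≫ θ) (by rw [Category.assoc, hk, Category.assoc])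
        inferInstance (by rw [Category.assoc, eθ, Category.assoc]), Category.assoc, Category.assoc,
        ← ha' _ _ ψ hψ' k θ hk hθ eθ]
    · have := cart h φb hφb
      let θ := IsStronglyCartesian.map 𝒳.p c.ib φb (g := k) hk.symm (ψ ≫ P₀)
      have hθ : 𝒳.p.IsHomLift k θ := IsStronglyCartesian.map_isHomLift _ _ _ _ _
      have eθ : θ ≫ φb = ψ ≫ P₀ := IsStronglyCartesian.fac _ _ _ _ _
      rw [← hb' _ _ (ρ ≫ ψ) hρψ (l ≫ k) (ρ ≫ θ) (by rw [Category.assoc, hk, Category.assoc])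
        inferInstance (by rw [Category.assoc, eθ, Category.assoc]), Category.assoc, Category.assoc,
        ← hb' _ _ ψ hψ' k θ hk hθ eθ]
  obtain ⟨t, ht, -⟩ := hGH hξ₀ hη₀ _ hcomp
  exact ⟨t ≫ Q, inferInstance⟩

end Groth.Agent.H14.IsoNat.Glue2
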