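import Groth.Agent.H14.IsoNat.Cross
import Groth.Agent.H14.IsoNat.InDict
import Groth.Agent.H14.Sep.Inertia
import Groth.Agent.H14.IsoNat.Glue2

/-!
Automorphisms agreeing on the punctured line agree on the line.
-/

set_option autoImplicit false
set_option backward.isDefEq.respectTransparency false
set_option backward.isDefEq.respectTransparency.types false

universe u

open CategoryTheory CategoryTheory.Limits AlgebraicGeometry

namespace Groth.Agent.H14.IsoNat.AutExt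

open Groth.Agent.Lib.AlgStack
open FibCat (IsFibGrpd overCat fpFst toSelf inertiaToBase)
open AlgSt (spMapOfOver RepByAlgSpWith)
open AlgSp (Sp yon RepWith)

variable {S : Scheme.{u}} {𝒳 : AlgSt.Cat S}

theorem sep_inertia
    (hd : RepByAlgSpWith (AlgSp.IsSeparatedMor ⊓ AlgSp.IsQuasiCompactMor) (FibCat.diag (toSelf 𝒳))) :
    RepByAlgSpWith AlgSp.IsSeparatedMor (inertiaToBase (toSelf 𝒳)) := fun U y => by
  obtain ⟨F, e, he, h⟩ := Sep.Inertia.inertiaToBase_of_diag hd U y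
  exact ⟨F, e, he, h.1⟩

theorem vert_ext (h : IsFibGrpd 𝒳.p) (hi : RepByAlgSpWith AlgSp.IsSeparatedMor (inertiaToBase (toSelf 𝒳)))
    (R : Type u) [CommRing R] (str : Spec (CommRingCat.of R) ⟶ S) {ξ : 𝒳.obj}
    (hξ : 𝒳.p.obj ξ = Cross.L R str) (a b : ξ ⟶ ξ) (ha : 𝒳.p.IsHomLift (𝟙 (Cross.L R str)) a)
    (hb : 𝒳.p.IsHomLift (𝟙 (Cross.L R str)) b) {z : 𝒳.obj} (ψ : z ⟶ ξ)
    (hψ : 𝒳.p.IsHomLift (Cross.j R str) ψ) (e : ψ ≫ a = ψ ≫ b) : a = b := by
  let D := Cross.L R str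
  obtain ⟨ε, hε⟩ := Yoneda.exists_fromObj_iso h hξ
  let c : overCat D ⥤ᵇ 𝒳 := Yoneda.fromObj h hξ
  have hεi : 𝒳.p.IsHomLift (𝟙 D) ε.inv := by
    have : IsIso ε.hom := inferInstance
    rw [show ε.inv = inv ε.hom by simp]
    infer_instance
  let q : InDict.AutTri c D := ⟨𝟙 D, ε.hom ≫ a ≫ ε.inv, inferInstance⟩
  let q' : InDict.AutTri c D := ⟨𝟙 D, ε.hom ≫ b ≫ ε.inv, inferInstance⟩
  obtain ⟨G, eG, heG, hG⟩ := hi D c
  obtain ⟨g, hg⟩ := InDict.exists_map h heG q
  obtain ⟨g', hg'⟩ := InDict.exists_map h heG q'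
  obtain ⟨t, ht⟩ := InDict.exists_pull h (Cross.j R str) q
  let mk' : Over.mk t.m ⟶ Over.mk (𝟙 D) := Over.homMk (Cross.j R str) ht.m.symm
  have h1 : 𝒳.p.IsHomLift (Cross.j R str) (c.map mk') := Yoneda.map_isHomLift c mk'
  have h2 : 𝒳.p.IsHomLift (Cross.j R str) (c.map mk' ≫ ε.hom) := inferInstance
  obtain ⟨θ, -, hθ⟩ := Lib.Fibred.Descent.exists_factor h ψ hψ _ h2
  have hab : (c.map mk' ≫ ε.hom) ≫ a = (c.map mk' ≫ ε.hom) ≫ b := by
    rw [← hθ, Category.assoc, e, Category.assoc]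
  have ht' : InDict.IsPull (Cross.j R str) q' t :=
    ⟨ht.m, by
      refine Eq.trans ?_ ht.a
      change c.map mk' ≫ ε.hom ≫ b ≫ ε.inv = c.map mk' ≫ ε.hom ≫ a ≫ ε.inv
      rw [← Category.assoc (ε.hom), ← Category.assoc (ε.hom), ← Category.assoc (c.map mk'),
        ← Category.assoc (c.map mk'), ← Category.assoc (c.map mk'), ← Category.assoc (c.map mk'), hab]⟩
  have hgj : (yon S).map (Cross.j R str) ≫ g = (yon S).map (Cross.j R str) ≫ g' :=
    InDict.map_unique h heG (InDict.rel_comp h hg ht) (InDict.rel_comp h hg' ht')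
  let γ := spMapOfOver (BasedFunctor.comp eG (fpFst c (inertiaToBase (toSelf 𝒳))))
  have hγ : g ≫ γ = g' ≫ γ := (InDict.comp_fst h hg).trans (InDict.comp_fst h hg').symm
  let pr : (yon S).obj D ⟶ pullback γ γ := pullback.lift g g' hγ
  have hd : RepWith @IsClosedImmersion (pullback.diagonal γ) := hG
  have hrep : (yon S).relativelyRepresentable (pullback.diagonal γ) := hd.rep
  let Z := hrep.pullback pr
  have sq := hrep.isPullback pr
  let cZ : Z ⟶ D := hrep.snd pr
  have : IsClosedImmersion cZ.left := Lib.AlgSpace.repWith_property hd sq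
  let k₀ : (yon S).obj (Cross.P R str) ⟶ (yon S).obj Z :=
    sq.lift ((yon S).map (Cross.j R str) ≫ g) ((yon S).map (Cross.j R str)) (by
      apply pullback.hom_ext
      · simp [pr]
      · simp [pr, hgj])
  obtain ⟨k, hk⟩ := (yon S).map_surjective k₀
  have hkc : k ≫ cZ = Cross.j R str := (yon S).map_injective (by
    rw [Functor.map_comp, hk]; exact sq.lift_snd _ _ _)
  have := Cross.isIso_of_factor R str cZ k hkc
  have hw := sq.w
  have e1 := congrArg (fun m => m ≫ pullback.fst γ γ) hw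
  have e2 := congrArg (fun m => m ≫ pullback.snd γ γ) hw
  simp [pr] at e1 e2
  have hgg : g = g' := (cancel_epi ((yon S).map cZ)).1 (e1.symm.trans e2)
  subst hgg
  have hqq : ε.hom ≫ a ≫ ε.inv = ε.hom ≫ b ≫ ε.inv := by
    have := InDict.aut_unique h hg hg'
    simpa [q, q'] using this
  simpa using hqq

end Groth.Agent.H14.IsoNat.AutExt
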