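import Groth.Agent.H14.IsoNat.Cls

/-!
Surjectivity is seen by the presheaves of isomorphism classes.
-/

set_option autoImplicit false
set_option backward.isDefEq.respectTransparency false
set_option backward.isDefEq.respectTransparency.types false

universe u

open CategoryTheory CategoryTheory.Limits AlgebraicGeometry

namespace Groth.Agent.H14.IsoNat.Surj

open Groth.Agent.Lib.AlgStack
open FibCat (IsFibGrpd)

variable {S : Scheme.{u}} {𝒳 𝒴 𝒳' 𝒴' : AlgSt.Cat S}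

theorem isSurjective (h𝒳 : IsFibGrpd 𝒳.p) (h𝒴 : IsFibGrpd 𝒴.p) {f : 𝒳 ⥤ᵇ 𝒴} {f' : 𝒳' ⥤ᵇ 𝒴'}
    (φ : _root_.IsoNat.FIsoSq f f') (hf : AlgSt.IsSurjective f) : AlgSt.IsSurjective f' := fun p' => by
  obtain ⟨p', rfl⟩ := AlgSt.Points.mk_surjective p'
  let T : Over S := Over.mk p'.str
  let Y' : 𝒴'.p.Fiber T := ⟨p'.obj, p'.lies⟩
  obtain ⟨y, hy⟩ := Cls.exists_cls ((φ.tgt.toEquiv T).symm (_root_.IsoNat.cls Y'))
  let p : AlgSt.FPt 𝒴 := { K := p'.K, str := p'.str, obj := y.1, lies := y.2 }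
  obtain ⟨q, hq⟩ := hf (AlgSt.Points.mk p)
  obtain ⟨q, rfl⟩ := AlgSt.Points.mk_surjective q
  obtain ⟨r, α, β, -⟩ := Lib.AlgStack.Points.rel_of_mk_eq h𝒴 (p := q.map f) (q := p) hq
  let T' : Over S := Over.mk r.str
  let R : 𝒴.p.Fiber T' := ⟨r.obj, r.lies⟩
  let g : T' ⟶ Over.mk q.str := eqToHom r.lies.symm ≫ 𝒴.p.map α ≫ eqToHom (q.map f).lies
  have hα : 𝒴.p.IsHomLift g α := IsHomLift.of_fac' _ _ _ r.lies (q.map f).lies (by simp [g])
  let g' : T' ⟶ T := eqToHom r.lies.symm ≫ 𝒴.p.map β ≫ eqToHom p.lies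
  have hβ : 𝒴.p.IsHomLift g' β := IsHomLift.of_fac' _ _ _ r.lies p.lies (by simp [g'])
  let Q : 𝒳.p.Fiber (Over.mk q.str) := ⟨q.obj, q.lies⟩
  obtain ⟨x, a, ha⟩ := Cls.exists_pullback h𝒳 g Q
  have ha' : 𝒴.p.IsHomLift g (f.map a) := BasedFunctor.preserves_isHomLift f g a
  have hR : _root_.IsoNat.cls R = _root_.IsoNat.mapCls f T' (_root_.IsoNat.cls x) :=
    Cls.cls_eq_of_homLift h𝒴 (x := (_root_.IsoNat.fibFun f (Over.mk q.str)).obj Q) (a₁ := α)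
      (x₂ := (_root_.IsoNat.fibFun f T').obj x) hα ha'
  obtain ⟨x', hx'⟩ := Cls.exists_cls (φ.src.toEquiv T' (_root_.IsoNat.cls x))
  have h₁ : φ.tgt.toEquiv T' (_root_.IsoNat.cls R) =
      _root_.IsoNat.cls ((_root_.IsoNat.fibFun f' T').obj x') := by
    rw [hR, φ.comm, ← hx', Cls.mapCls_cls]
  obtain ⟨b, -⟩ := Cls.exists_hom φ.tgt (x := y) (y := Y') (a := β) hβ h₁ (by simp [hy])
  let q' : AlgSt.FPt 𝒳' := { K := r.K, str := r.str, obj := x'.1, lies := x'.2 }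
  exact ⟨AlgSt.Points.mk q', AlgSt.Points.sound ⟨q'.map f', 𝟙 _, b, trivial⟩⟩

end Groth.Agent.H14.IsoNat.Surj
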