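import Groth.Agent.H14.IsoNat.SmoothCorr
import Groth.Agent.H14.IsoNat.Surj
import Groth.Agent.H14.Chart.LocQ2
import Groth.Agent.Lib.AlgStack.SliceEtale

/-!
Charts corresponding under isomorphisms of presheaves of isomorphism classes share smoothness and
finite presentation.
-/

set_option autoImplicit false
set_option backward.isDefEq.respectTransparency false
set_option backward.isDefEq.respectTransparency.types false
set_option maxHeartbeats 800000

universe u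

open CategoryTheory CategoryTheory.Limits AlgebraicGeometry Opposite

namespace Groth.Agent.H14.IsoNat.Main

open Groth.Agent.Lib.AlgStack
open Groth.Agent.H14.Chart
open Groth.Agent.H14.Sep
open FibCat (IsEquivOver fp fpFst overCat IsFibGrpd toSelf inertiaToBase)
open AlgSt (ofSp ofSpMap spMapOfOver RepByAlgSp1 RepByAlgSpWith IsAlgStack overMap)
open AlgSp (Sp yon IsAlgSpace LocP)

variable {S : Scheme.{u}}

theorem descends_lfp : Cover.Descends (LocP @LocallyOfFinitePresentation (S := S)) :=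
  fun _ _ _ _ _ hG hs h =>
    Cover.locP_descend Lib.SourceDescent.Scheme.locallyOfFinitePresentation hG hs
      (fun _ _ _ _ _ _ _ g sq _ _ _ h' => by
        have := Descend.descendsAlong_fpqcCover @LocallyOfFinitePresentation
        exact MorphismProperty.of_isPullback_of_descendsAlong (P := @LocallyOfFinitePresentation)
          (Q := Lib.FFDesc.fpqcCover) sq.flip (Lib.FFDesc.fpqcCover_of_lfp g) h') h

theorem descends_smooth : Cover.Descends (LocP @Smooth (S := S)) :=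
  fun _ _ _ _ _ hG hs h =>
    Cover.locP_descend Lib.SourceDescent.Scheme.smooth hG hs
      (fun _ _ _ _ _ _ _ g sq _ _ _ h' => by
        have := Descend.descendsAlong_fpqcCover @Smooth
        exact MorphismProperty.of_isPullback_of_descendsAlong (P := @Smooth)
          (Q := Lib.FFDesc.fpqcCover) sq.flip (Lib.FFDesc.fpqcCover_of_lfp g) h') h

variable {𝒳 𝒴 : AlgSt.Cat S}

/-- A property of morphisms is checked on the base change to a smooth atlas. -/
theorem rep_of_atlas {P : MorphismProperty Scheme.{u}} (hP : Lib.SourceDescent.Scheme.EtaleLocalST P)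
    (hd : Cover.Descends (LocP P (S := S))) {V : Over S} {v : overCat V ⥤ᵇ 𝒴}
    (hv : RepByAlgSpWith (LocP @Smooth) v) (hvs : RepByAlgSpWith AlgSp.IsSurjectiveMor v)
    {f : 𝒳 ⥤ᵇ 𝒴} (hr : RepByAlgSp1 f) {G : AlgSp.Space S} {e : ofSp G.obj ⥤ᵇ fp v f}
    (he : IsEquivOver e) (h : LocP P (spMapOfOver (BasedFunctor.comp e (fpFst v f)))) :
    RepByAlgSpWith (LocP P) f := by
  have hf : RepByAlgSpWith (LocP P) (fpFst v f) :=
    (Rep.repByAlgSpWith_iff_of_isEquivOver (f := fpFst v f)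
      (f' := ofSpMap (spMapOfOver (BasedFunctor.comp e (fpFst v f)))) he (Rep.isEquivOver_toOverCat V)
      (Rep.isoSpMapOfOver (BasedFunctor.comp e (fpFst v f))).symm).2
      (Lib.AlgStack.Descend.repByAlgSpWith_ofSpMap (SpProps.stableBC_locP hP) G.property
        (IsAlgSpace.yon_obj V) h)
  refine Cover.rep_descend (SpProps.stableBC_locP hP) (SpProps.fromSchemes_locP hP) hd hr fun T z => ?_
  obtain ⟨T', s, hs, u, ⟨α⟩⟩ :=
    Cover.exists_lift (SliceEtale.flat_of_smooth hv) (SliceEtale.lfp_of_smooth hv) hvs z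
  exact ⟨T', s, hs, (Rep.repByAlgSpWith_iff_of_isEquivOver
    (f := fpFst (BasedFunctor.comp (Lft.vOf s) z) f) (f' := fpFst u (fpFst v f))
    (BasedBasic.IsEquivOver.comp (Rep.isEquivOver_pasteBase u v f)
      (FibProd.isEquivOver_congrLeft α.symm f))
    BasedBasic.isEquivOver_id (eqToIso rfl)).2 (Rep.repByAlgSpWith_fpFst u hf)⟩

variable {φ : _root_.IsoNat.FIso 𝒳 𝒴} {U : Over S} {x : overCat U ⥤ᵇ 𝒳} {y : overCat U ⥤ᵇ 𝒴}

theorem lfp_of_corr (h𝒳 : IsFibGrpd 𝒳.p) (h𝒴 : IsAlgStack Scheme.fppfPrecoverage 𝒴)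
    (hi : RepByAlgSpWith (LocP @LocallyOfFinitePresentation) (inertiaToBase (toSelf 𝒴)))
    (hc : Corr φ x y) (hx : RepByAlgSpWith (LocP @LocallyOfFinitePresentation) x) :
    RepByAlgSpWith (LocP @LocallyOfFinitePresentation) y := by
  obtain ⟨V, v, hv, hvs⟩ := h𝒴.atlas
  obtain ⟨w, hw⟩ := Corr.exists_preimage (φ := φ) h𝒳 v
  obtain ⟨G, e, he⟩ := LocQ.repByAlgSp1_chart h𝒴 y V v
  exact rep_of_atlas Lib.SourceDescent.Scheme.locallyOfFinitePresentation descends_lfp hv hvs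
    (LocQ.repByAlgSp1_chart h𝒴 y) he (Lfp.locP_lfp h𝒳 h𝒴.isStack.1 hw hc hi hx e he)

theorem smooth_of_corr (h𝒳 : IsFibGrpd 𝒳.p) (h𝒴 : IsAlgStack Scheme.fppfPrecoverage 𝒴)
    (hi : RepByAlgSpWith (LocP @LocallyOfFinitePresentation) (inertiaToBase (toSelf 𝒴)))
    (hc : Corr φ x y) (hx : RepByAlgSpWith (LocP @Smooth) x) :
    RepByAlgSpWith (LocP @Smooth) y := by
  obtain ⟨V, v, hv, hvs⟩ := h𝒴.atlas
  obtain ⟨w, hw⟩ := Corr.exists_preimage (φ := φ) h𝒳 v
  obtain ⟨G, e, he⟩ := LocQ.repByAlgSp1_chart h𝒴 y V v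
  exact rep_of_atlas Lib.SourceDescent.Scheme.smooth descends_smooth hv hvs
    (LocQ.repByAlgSp1_chart h𝒴 y) he
    (SmoothCorr.locP_smooth h𝒳 h𝒴.isStack.1 hc (Lifts.of_smooth h𝒳 hx) hv he
      (Lfp.locP_lfp h𝒳 h𝒴.isStack.1 hw hc hi (SliceEtale.lfp_of_smooth hx) e he))

theorem surjective_of_corr (h𝒳 : IsAlgStack Scheme.fppfPrecoverage 𝒳)
    (h𝒴 : IsAlgStack Scheme.fppfPrecoverage 𝒴) (hc : Corr φ x y)
    (hx : RepByAlgSpWith AlgSp.IsSurjectiveMor x) : RepByAlgSpWith AlgSp.IsSurjectiveMor y := by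
  refine Points.rep_of_isSurjective h𝒴.isStack.1 (Yoneda.isFibGrpd_overCat U)
    (LocQ.repByAlgSp1_chart h𝒴 y) fun p => ?_
  obtain ⟨t, rfl⟩ := hc.surjective_ofChart h𝒳.isStack.1 h𝒴.isStack.1
    (Points.surjective_ofChart h𝒳.isStack.1 hx) p
  exact ⟨AlgSt.Points.ofChart (BasedFunctor.id _) t, Points.map_ofChart y _ t⟩

/-- A property smooth-locally true of a stack is true of one with the same isomorphism classes. -/
theorem smoothLocally (h𝒳 : IsAlgStack Scheme.fppfPrecoverage 𝒳)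
    (h𝒴 : IsAlgStack Scheme.fppfPrecoverage 𝒴)
    (hi : RepByAlgSpWith (LocP @LocallyOfFinitePresentation) (inertiaToBase (toSelf 𝒳)))
    (φ : _root_.IsoNat.FIso 𝒳 𝒴) {P : Scheme.{u} → Prop} (hP : AlgSt.SmoothLocally P 𝒳) :
    AlgSt.SmoothLocally P 𝒴 := fun U y hy => by
  obtain ⟨x, hx⟩ := Corr.exists_preimage (φ := φ) h𝒳.isStack.1 y
  exact hP U x (smooth_of_corr h𝒴.isStack.1 h𝒳 hi (hx.symm h𝒳.isStack.1 h𝒴.isStack.1) hy)

variable {𝒳' 𝒴' : AlgSt.Cat S} {f : 𝒳 ⥤ᵇ 𝒴} {f' : 𝒳' ⥤ᵇ 𝒴'}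

theorem corr_comp (φ : _root_.IsoNat.FIsoSq f f') {U : Over S} {x : overCat U ⥤ᵇ 𝒳}
    {x' : overCat U ⥤ᵇ 𝒳'} (hc : Corr φ.src x x') :
    Corr φ.tgt (BasedFunctor.comp x f) (BasedFunctor.comp x' f') := by
  change φ.tgt.toEquiv U (_root_.IsoNat.mapCls f U (_root_.IsoNat.objCls x)) =
    _root_.IsoNat.mapCls f' U (_root_.IsoNat.objCls x')
  rw [φ.comm, show φ.src.toEquiv U (_root_.IsoNat.objCls x) = _root_.IsoNat.objCls x' from hc]

theorem locQ (h𝒳 : IsAlgStack Scheme.fppfPrecoverage 𝒳) (h𝒴 : IsAlgStack Scheme.fppfPrecoverage 𝒴)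
    (h𝒳' : IsAlgStack Scheme.fppfPrecoverage 𝒳') (h𝒴' : IsAlgStack Scheme.fppfPrecoverage 𝒴')
    (hi : RepByAlgSpWith (LocP @LocallyOfFinitePresentation) (inertiaToBase (toSelf 𝒳')))
    (hi' : RepByAlgSpWith (LocP @LocallyOfFinitePresentation) (inertiaToBase (toSelf 𝒴')))
    (φ : _root_.IsoNat.FIsoSq f f') {P : MorphismProperty (Sp S)} (hf : AlgSt.LocQ P f) :
    AlgSt.LocQ P f' := by
  obtain ⟨U, V, x, y, h, α, hx, hxs, hy, hP⟩ := hf
  obtain ⟨x', hx'⟩ := Corr.exists_image (φ := φ.src) h𝒳'.isStack.1 x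
  obtain ⟨y', hy'⟩ := Corr.exists_image (φ := φ.tgt) h𝒴'.isStack.1 y
  have h2 : _root_.IsoNat.objCls (BasedFunctor.comp x' f') =
      _root_.IsoNat.objCls (BasedFunctor.comp (overMap h) y') :=
    (Eq.symm (show φ.tgt.toEquiv U (_root_.IsoNat.objCls (BasedFunctor.comp x f)) =
      _root_.IsoNat.objCls (BasedFunctor.comp x' f') from corr_comp φ hx')).trans ((congrArg _ (objCls_eq_of_iso h𝒴.isStack.1 α)).trans
      (hy'.comp_overMap h𝒴'.isStack.1 h))
  obtain ⟨α'⟩ := iso_of_objCls h𝒴'.isStack.1 h2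
  exact ⟨U, V, x', y', h, α', smooth_of_corr h𝒳.isStack.1 h𝒳' hi hx' hx,
    surjective_of_corr h𝒳 h𝒳' hx' hxs, smooth_of_corr h𝒴.isStack.1 h𝒴' hi' hy' hy, hP⟩

end Groth.Agent.H14.IsoNat.Main
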