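import Groth.Agent.H14.IsoNat.Glue2
import Groth.Agent.Lib.AlgSpace.Local

/-!
The scheme with a doubled closed subset, and Zariski covers by two open subschemes.
-/

set_option autoImplicit false
set_option backward.isDefEq.respectTransparency false
set_option backward.isDefEq.respectTransparency.types false

universe u

open CategoryTheory CategoryTheory.Limits AlgebraicGeometry

namespace Groth.Agent.H14.IsoNat.Double

variable {S : Scheme.{u}}

theorem sieve_mem {X : Over S} (c : Glue2.Cov X) (ha : IsOpenImmersion c.ia.left)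
    (hb : IsOpenImmersion c.ib.left)
    (h : ∀ x : ↥X.left, x ∈ Set.range c.ia.left ∨ x ∈ Set.range c.ib.left) :
    c.sieve ∈ AlgSp.J S X := by
  let Z : ULift.{u} Bool → Over S := fun i => match i.down with | true => c.A | false => c.B
  let g : ∀ i, Z i ⟶ X := fun i => match i with | ⟨true⟩ => c.ia | ⟨false⟩ => c.ib
  have hfl : ∀ i, Flat (g i).left := by
    rintro ⟨_ | _⟩ <;> dsimp only [g] <;> infer_instance
  have hfp : ∀ i, LocallyOfFinitePresentation (g i).left := by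
    rintro ⟨_ | _⟩ <;> dsimp only [g] <;> infer_instance
  refine (AlgSp.J S).superset_covering ?_ (Lib.AlgSpace.ofArrows_mem_J Z g hfl hfp fun x => ?_)
  · rw [Sieve.generate_le_iff]
    rintro _ _ ⟨⟨_ | _⟩⟩
    · exact c.hb
    · exact c.ha
  · rcases h x with ⟨y, hy⟩ | ⟨y, hy⟩
    · exact ⟨⟨true⟩, y, hy⟩
    · exact ⟨⟨false⟩, y, hy⟩

/-- The cover of a union of two opens by the two opens. -/
noncomputable def union {Z : Over S} (O₁ O₂ : Z.left.Opens) :
    Glue2.Cov (Over.mk ((O₁ ⊔ O₂).ι ≫ Z.hom)) where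
  A := Over.mk (O₁.ι ≫ Z.hom)
  B := Over.mk (O₂.ι ≫ Z.hom)
  D := Over.mk ((O₁ ⊓ O₂).ι ≫ Z.hom)
  ia := Over.homMk (Z.left.homOfLE le_sup_left)
    (by change _ ≫ (O₁ ⊔ O₂).ι ≫ Z.hom = O₁.ι ≫ Z.hom; simp)
  ib := Over.homMk (Z.left.homOfLE le_sup_right)
    (by change _ ≫ (O₁ ⊔ O₂).ι ≫ Z.hom = O₂.ι ≫ Z.hom; simp)
  da := Over.homMk (Z.left.homOfLE inf_le_left)
    (by change _ ≫ O₁.ι ≫ Z.hom = (O₁ ⊓ O₂).ι ≫ Z.hom; simp)
  db := Over.homMk (Z.left.homOfLE inf_le_right)
    (by change _ ≫ O₂.ι ≫ Z.hom = (O₁ ⊓ O₂).ι ≫ Z.hom; simp)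
  mono_ia := (Over.forget S).mono_of_mono_map
    (show Mono (Z.left.homOfLE (le_sup_left : O₁ ≤ O₁ ⊔ O₂)) from inferInstance)
  mono_ib := (Over.forget S).mono_of_mono_map
    (show Mono (Z.left.homOfLE (le_sup_right : O₂ ≤ O₁ ⊔ O₂)) from inferInstance)
  isPB := IsPullback.of_map (Over.forget S) (by ext1; simp) (by
    refine IsOpenImmersion.isPullback (Z.left.homOfLE inf_le_left) (Z.left.homOfLE inf_le_right)
      (Z.left.homOfLE le_sup_left) (Z.left.homOfLE le_sup_right) (by simp) ?_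
    refine SetLike.ext' ?_
    have h2 : ∀ {A B : Z.left.Opens} (e : A ≤ B), (Z.left.homOfLE e).opensRange = B.ι ⁻¹ᵁ A := by
      intro A B e
      exact Scheme.opensRange_homOfLE e
    simp [h2]
    ext x
    simp)

theorem union_covers {Z : Over S} (O₁ O₂ : Z.left.Opens) :
    (union O₁ O₂).sieve ∈ AlgSp.J S (Over.mk ((O₁ ⊔ O₂).ι ≫ Z.hom)) := by
  refine sieve_mem _ (inferInstanceAs (IsOpenImmersion (Z.left.homOfLE le_sup_left)))
    (inferInstanceAs (IsOpenImmersion (Z.left.homOfLE le_sup_right))) fun x => ?_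
  have h2 : ∀ {A B : Z.left.Opens} (e : A ≤ B), (Z.left.homOfLE e).opensRange = B.ι ⁻¹ᵁ A :=
    fun e => Scheme.opensRange_homOfLE e
  rcases (TopologicalSpace.Opens.mem_sup.1 x.2) with h | h
  · exact Or.inl ((SetLike.ext_iff.1 (h2 (le_sup_left : O₁ ≤ O₁ ⊔ O₂)) x).2 h)
  · exact Or.inr ((SetLike.ext_iff.1 (h2 (le_sup_right : O₂ ≤ O₁ ⊔ O₂)) x).2 h)

/-- Two copies of a scheme glued along an open subscheme, with their maps out. -/
theorem exists_double' (Z : Over S) (O : Z.left.Opens) :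
    ∃ (X : Over S) (ia ib : Z ⟶ X), IsOpenImmersion ia.left ∧ IsOpenImmersion ib.left ∧
      (∀ x : ↥X.left, x ∈ Set.range ia.left ∨ x ∈ Set.range ib.left) ∧
      IsPullback (Over.homMk O.ι : Over.mk (O.ι ≫ Z.hom) ⟶ Z) (Over.homMk O.ι) ia ib ∧
      ∀ (T : Over S) (p : Z ⟶ T), ∃ pX : X ⟶ T, ia ≫ pX = p ∧ ib ≫ pX = p := by
  let F := span O.ι O.ι
  have hF : ∀ {i j : WalkingSpan} (f : i ⟶ j), IsOpenImmersion (F.map f) := by
    intro i j f
    obtain ⟨_⟩ | ⟨_ | _⟩ := f
    · rw [WidePushoutShape.hom_id, F.map_id]; infer_instance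
    · exact inferInstanceAs (IsOpenImmersion O.ι)
    · exact inferInstanceAs (IsOpenImmersion O.ι)
  have w : O.ι ≫ colimit.ι F .left = O.ι ≫ colimit.ι F .right :=
    (colimit.w F WalkingSpan.Hom.fst).trans (colimit.w F WalkingSpan.Hom.snd).symm
  let co : Cocone F := PushoutCocone.mk Z.hom Z.hom rfl
  let s : colimit F ⟶ S := colimit.desc F co
  refine ⟨Over.mk s, Over.homMk (colimit.ι F .left) (colimit.ι_desc co .left),
    Over.homMk (colimit.ι F .right) (colimit.ι_desc co .right),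
    inferInstanceAs (IsOpenImmersion (colimit.ι F .left)),
    inferInstanceAs (IsOpenImmersion (colimit.ι F .right)), fun x => ?_, ?_, fun T p => ?_⟩
  · obtain ⟨i, xi, hi⟩ := Scheme.IsLocallyDirected.ι_jointly_surjective F x
    match i with
    | .left => exact Or.inl ⟨xi, hi⟩
    | .right => exact Or.inr ⟨xi, hi⟩
    | .zero =>
      refine Or.inl ⟨O.ι xi, ?_⟩
      rw [← hi, ← colimit.w F WalkingSpan.Hom.fst]
      rfl
  · refine IsPullback.of_map (Over.forget S) (by ext1; exact w) ?_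
    refine IsOpenImmersion.isPullback O.ι O.ι (colimit.ι F .left) (colimit.ι F .right) w.symm ?_
    ext y
    change colimit.ι F .right y ∈ Set.range (colimit.ι F .left) ↔ y ∈ Set.range O.ι
    constructor
    · rintro ⟨z, hz⟩
      obtain ⟨k, fi, fj, x, h1, h2⟩ := (Scheme.IsLocallyDirected.ι_eq_ι_iff F).1 hz.symm
      match k, fi, fj with
      | .zero, .init _, .init _ => exact ⟨x, h1⟩
    · rintro ⟨x, rfl⟩
      exact ⟨O.ι x, congrArg (fun m : O.toScheme ⟶ colimit F => m x) w⟩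
  · let co' : Cocone F := PushoutCocone.mk p.left p.left rfl
    refine ⟨Over.homMk (colimit.desc F co') ?_, ?_, ?_⟩
    · refine colimit.hom_ext fun i => ?_
      change colimit.ι F i ≫ colimit.desc F co' ≫ T.hom = colimit.ι F i ≫ s
      rw [colimit.ι_desc_assoc, colimit.ι_desc]
      match i with
      | .left => exact Over.w p
      | .right => exact Over.w p
      | .zero => exact (Category.assoc _ _ _).trans (congrArg _ (Over.w p))
    · ext1; exact colimit.ι_desc co' .left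
    · ext1; exact colimit.ι_desc co' .right

/-- Two copies of a scheme glued along an open subscheme. -/
theorem exists_double (Z : Over S) (O : Z.left.Opens) :
    ∃ (X : Over S) (ia ib : Z ⟶ X), IsOpenImmersion ia.left ∧ IsOpenImmersion ib.left ∧
      (∀ x : ↥X.left, x ∈ Set.range ia.left ∨ x ∈ Set.range ib.left) ∧
      IsPullback (Over.homMk O.ι : Over.mk (O.ι ≫ Z.hom) ⟶ Z) (Over.homMk O.ι) ia ib := by
  obtain ⟨X, ia, ib, h1, h2, h3, h4, -⟩ := exists_double' Z O
  exact ⟨X, ia, ib, h1, h2, h3, h4⟩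

end Groth.Agent.H14.IsoNat.Double
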