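import Groth.Agent.H14.IsoNat.AutExt
import Groth.Agent.H14.IsoNat.Double

/-!
Automorphisms are seen by isomorphism classes of objects over the scheme with a doubled closed subset.
-/

set_option autoImplicit false
set_option backward.isDefEq.respectTransparency false
set_option backward.isDefEq.respectTransparency.types false
set_option maxHeartbeats 800000

universe u

open CategoryTheory CategoryTheory.Limits AlgebraicGeometry Groth.Agent.Lib.Fibred.Descent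

namespace Groth.Agent.H14.IsoNat.Detect

open Groth.Agent.Lib.Fibred.StackLemmas (isIso_of_vertical)
open FibCat (IsFibGrpd toSelf inertiaToBase)
open AlgSt (RepByAlgSpWith IsAlgStack)

variable {S : Scheme.{u}} {𝒳 : AlgSt.Cat S}

theorem stackFor (h : IsAlgStack Scheme.fppfPrecoverage 𝒳) {U : Over S} {R : Sieve U}
    (hR : R ∈ AlgSp.J S U) : Sep R 𝒳 ∧ GlueHom R 𝒳 ∧ GlueObj R 𝒳 :=
  (isStackFor_iff h.isStack.1).1 (h.isStack.2 R hR)

/-- Morphisms out of an object over an empty scheme are determined by their images. -/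
theorem eq_of_isEmpty (h : IsAlgStack Scheme.fppfPrecoverage 𝒳) {W X : Over S} [IsEmpty ↥W.left]
    {f : W ⟶ X} {z x : 𝒳.obj} (a b : z ⟶ x) (ha : 𝒳.p.IsHomLift f a) (hb : 𝒳.p.IsHomLift f b) :
    a = b := by
  obtain ⟨θ, hθ, rfl⟩ := exists_factor h.isStack.1 a ha b hb
  have := (stackFor h (Lib.AlgSpace.bot_mem_J W)).1 θ (𝟙 z) hθ
    (IsHomLift.id (IsHomLift.domain_eq 𝒳.p f a)) fun V g hg => hg.elim
  rw [this, Category.id_comp]

/-- A vertical endomorphism moved along a morphism. -/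
theorem exists_pull_aut (h : IsFibGrpd 𝒳.p) {V W : Over S} {f : V ⟶ W} {z x : 𝒳.obj} (ψ : z ⟶ x)
    (hψ : 𝒳.p.IsHomLift f ψ) (a : x ⟶ x) (ha : 𝒳.p.IsHomLift (𝟙 W) a) :
    ∃ b : z ⟶ z, 𝒳.p.IsHomLift (𝟙 V) b ∧ b ≫ ψ = ψ ≫ a :=
  exists_factor h ψ hψ (ψ ≫ a) inferInstance

/-- Two objects on the doubled scheme glued trivially agree when the intersection has no automorphisms. -/
theorem exists_iso_of_trivial (h : IsAlgStack Scheme.fppfPrecoverage 𝒳) {X : Over S} (c : Glue2.Cov X)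
    (hc : c.sieve ∈ AlgSp.J S X) {ξa ξb ξd ξ ξ' : 𝒳.obj} (pa : ξd ⟶ ξa) (pb : ξd ⟶ ξb)
    (hpa : 𝒳.p.IsHomLift c.da pa) (hpb : 𝒳.p.IsHomLift c.db pb)
    (htriv : ∀ θ : ξd ⟶ ξd, 𝒳.p.IsHomLift (𝟙 c.D) θ → θ = 𝟙 ξd)
    (hξ : 𝒳.p.obj ξ = X) (hξ' : 𝒳.p.obj ξ' = X)
    (φa : ξa ⟶ ξ) (φb : ξb ⟶ ξ) (ψa : ξa ⟶ ξ') (ψb : ξb ⟶ ξ')
    (hφa : 𝒳.p.IsHomLift c.ia φa) (hφb : 𝒳.p.IsHomLift c.ib φb)
    (hψa : 𝒳.p.IsHomLift c.ia ψa) (hψb : 𝒳.p.IsHomLift c.ib ψb) :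
    ∃ t : ξ ⟶ ξ', 𝒳.p.IsHomLift (𝟙 X) t := by
  have key : ∀ {η : 𝒳.obj} (u : ξa ⟶ η) (v : ξb ⟶ η), 𝒳.p.IsHomLift c.ia u → 𝒳.p.IsHomLift c.ib v →
      pa ≫ u = pb ≫ v := by
    intro η u v hu hv
    have h2 : 𝒳.p.IsHomLift (c.da ≫ c.ia) (pb ≫ v) := by rw [c.w]; infer_instance
    obtain ⟨θ, hθ, e⟩ := exists_factor (f := c.da ≫ c.ia) h.isStack.1 (pa ≫ u) inferInstance (pb ≫ v) h2
    rw [htriv θ hθ, Category.id_comp] at e
    exact e
  obtain ⟨t, ht, -, -⟩ := Glue2.exists_desc h.isStack.1 (stackFor h hc).2.1 hξ hξ' hpa φa φb hφa hφb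
    (key φa φb hφa hφb) ψa ψb hψa hψb (key ψa ψb hψa hψb) hpb
  exact ⟨t, ht⟩

variable (R : Type u) [CommRing R] (str : Spec (CommRingCat.of R) ⟶ S)

open Cross (U T L P π πL zero j sub subι O₁ O₂)

/-- What an equation on a punctured line says at the origin. -/
theorem line (h : IsFibGrpd 𝒳.p) (hi : RepByAlgSpWith AlgSp.IsSeparatedMor (inertiaToBase (toSelf 𝒳)))
    (l : L R str ⟶ U R str) (hl : l ≫ π R str = πL R str) {O : (U R str).left.Opens}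
    (g : P R str ⟶ sub R str O) (hg : g ≫ subι R str O = j R str ≫ l)
    {η ξu ξO : 𝒳.obj} (Pu : ξu ⟶ η) (hPu : 𝒳.p.IsHomLift (π R str) Pu)
    (r : ξO ⟶ ξu) (hr : 𝒳.p.IsHomLift (subι R str O) r)
    (ga gb : ξu ⟶ ξu) (hga : 𝒳.p.IsHomLift (𝟙 (U R str)) ga) (hgb : 𝒳.p.IsHomLift (𝟙 (U R str)) gb)
    (k : η ⟶ η) (hk : 𝒳.p.IsHomLift (𝟙 (T R str)) k)
    (kO : ξO ⟶ ξO) (hkO : 𝒳.p.IsHomLift (𝟙 (sub R str O)) kO) (eO : kO ≫ r ≫ Pu = r ≫ Pu ≫ k)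
    (e : kO ≫ r ≫ ga = r ≫ gb) (o : η ⟶ ξu) (ho : 𝒳.p.IsHomLift (zero R str ≫ l) o)
    (eo : o ≫ Pu = 𝟙 η) : k ≫ o ≫ ga = o ≫ gb := by
  have hξu : 𝒳.p.obj ξu = U R str := IsHomLift.domain_eq 𝒳.p (π R str) Pu
  obtain ⟨ξL, u, hu⟩ := exists_lift h hξu l
  have hξL : 𝒳.p.obj ξL = L R str := IsHomLift.domain_eq 𝒳.p l u
  obtain ⟨ξP, v, hv⟩ := exists_lift h hξL (j R str)
  obtain ⟨a1, ha1, ea1⟩ := exists_pull_aut h u hu ga hga
  obtain ⟨b1, hb1, eb1⟩ := exists_pull_aut h u hu gb hgb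
  have huP : 𝒳.p.IsHomLift (πL R str) (u ≫ Pu) := hl ▸ inferInstance
  obtain ⟨kL, hkL, ekL⟩ := exists_pull_aut h (u ≫ Pu) huP k hk
  have hgr : 𝒳.p.IsHomLift (g ≫ subι R str O) (v ≫ u) := by rw [hg]; infer_instance
  have := cart h r hr
  let w := Functor.IsStronglyCartesian.map 𝒳.p (subι R str O) r (g := g) rfl (v ≫ u)
  have hw : 𝒳.p.IsHomLift g w := Functor.IsStronglyCartesian.map_isHomLift _ _ _ _ _
  have ew : w ≫ r = v ≫ u := Functor.IsStronglyCartesian.fac _ _ _ _ _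
  have e1 : v ≫ kL ≫ u = w ≫ kO ≫ r := by
    have h1 : 𝒳.p.IsHomLift (j R str ≫ l) (v ≫ kL ≫ u) := inferInstance
    have h2 : 𝒳.p.IsHomLift (j R str ≫ l) (w ≫ kO ≫ r) := by rw [← hg]; infer_instance
    refine ext_lift h Pu hPu h1 h2 ?_
    simp only [Category.assoc]
    rw [ekL, eO, reassoc_of% ew, Category.assoc]
  have hab : kL ≫ a1 = b1 := by
    refine AutExt.vert_ext h hi R str hξL (kL ≫ a1) b1 inferInstance hb1 v hv ?_
    refine ext_lift h u hu (g := j R str) inferInstance inferInstance ?_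
    simp only [Category.assoc]
    rw [ea1, eb1, reassoc_of% e1, e, reassoc_of% ew]
  have hz0 : 𝒳.p.IsHomLift (zero R str ≫ l) o := ho
  have := cart h u hu
  let z := Functor.IsStronglyCartesian.map 𝒳.p l u (g := zero R str) rfl o
  have hz : 𝒳.p.IsHomLift (zero R str) z := Functor.IsStronglyCartesian.map_isHomLift _ _ _ _ _
  have ez : z ≫ u = o := Functor.IsStronglyCartesian.fac _ _ _ _ _
  have e2 : z ≫ kL ≫ u = k ≫ o := by
    have h1 : 𝒳.p.IsHomLift (zero R str ≫ l) (z ≫ kL ≫ u) := inferInstance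
    have h2 : 𝒳.p.IsHomLift (zero R str ≫ l) (k ≫ o) := inferInstance
    refine ext_lift h Pu hPu h1 h2 ?_
    simp only [Category.assoc]
    rw [ekL, eo, Category.assoc, reassoc_of% ez, reassoc_of% eo, Category.comp_id]
  calc k ≫ o ≫ ga = z ≫ (kL ≫ a1) ≫ u := by rw [← reassoc_of% e2, Category.assoc, ea1]
    _ = z ≫ b1 ≫ u := by rw [hab]
    _ = o ≫ gb := by rw [eb1, reassoc_of% ez]

/-- If objects glued from two copies of the pullback of `η` are all alike, `η` has no automorphism. -/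
theorem eq_id_of_unique (h : IsAlgStack Scheme.fppfPrecoverage 𝒳)
    (hi : RepByAlgSpWith AlgSp.IsSeparatedMor (inertiaToBase (toSelf 𝒳)))
    {η ξu : 𝒳.obj} (Pu : ξu ⟶ η) (hPu : 𝒳.p.IsHomLift (π R str) Pu)
    {X : Over S} (ia ib : U R str ⟶ X) (hia : IsOpenImmersion ia.left) (hib : IsOpenImmersion ib.left)
    (hcov : ∀ x : ↥X.left, x ∈ Set.range ia.left ∨ x ∈ Set.range ib.left)
    (hpb : IsPullback (subι R str (O₁ R str ⊔ O₂ R str)) (subι R str (O₁ R str ⊔ O₂ R str)) ia ib)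
    (huniq : ∀ (ξ ξ' : 𝒳.obj) (φa φb : ξu ⟶ ξ) (ψa ψb : ξu ⟶ ξ'), 𝒳.p.obj ξ = X → 𝒳.p.obj ξ' = X →
      𝒳.p.IsHomLift ia φa → 𝒳.p.IsHomLift ib φb → 𝒳.p.IsHomLift ia ψa → 𝒳.p.IsHomLift ib ψb →
      ∃ t : ξ ⟶ ξ', 𝒳.p.IsHomLift (𝟙 X) t)
    (k : η ⟶ η) (hk : 𝒳.p.IsHomLift (𝟙 (T R str)) k) : k = 𝟙 η := by
  have hG := h.isStack.1
  have hξu : 𝒳.p.obj ξu = U R str := IsHomLift.domain_eq 𝒳.p (π R str) Pu
  let O := O₁ R str ⊔ O₂ R str
  obtain ⟨ξd, pd, hpd⟩ := exists_lift hG hξu (subι R str O)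
  have hξd : 𝒳.p.obj ξd = sub R str O := IsHomLift.domain_eq 𝒳.p (subι R str O) pd
  let cD : Glue2.Cov (sub R str O) := Double.union (O₁ R str) (O₂ R str)
  obtain ⟨ξ₁, q₁, hq₁⟩ := exists_lift hG hξd cD.ia
  obtain ⟨ξ₂, q₂, hq₂⟩ := exists_lift hG hξd cD.ib
  have s1 : cD.ia ≫ subι R str O = subι R str (O₁ R str) := by ext1; exact Scheme.homOfLE_ι _ le_sup_left
  have s2 : cD.ib ≫ subι R str O = subι R str (O₂ R str) := by ext1; exact Scheme.homOfLE_ι _ le_sup_right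
  have hr₁ : 𝒳.p.IsHomLift (subι R str (O₁ R str)) (q₁ ≫ pd) := by rw [← s1]; infer_instance
  have hr₂ : 𝒳.p.IsHomLift (subι R str (O₂ R str)) (q₂ ≫ pd) := by rw [← s2]; infer_instance
  -- the automorphism on the first punctured line
  obtain ⟨k₁, hk₁, ek₁⟩ := exists_pull_aut hG ((q₁ ≫ pd) ≫ Pu)
    (inferInstance : 𝒳.p.IsHomLift (subι R str (O₁ R str) ≫ π R str) ((q₁ ≫ pd) ≫ Pu)) k hk
  have hk₁' : 𝒳.p.IsHomLift (𝟙 cD.A) k₁ := hk₁
  have hξ₁ : 𝒳.p.obj ξ₁ = cD.A := IsHomLift.domain_eq 𝒳.p cD.ia q₁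
  obtain ⟨ξe, re₁, hre₁⟩ := exists_lift hG hξ₁ cD.da
  have hre : 𝒳.p.IsHomLift (cD.db ≫ cD.ib) (re₁ ≫ q₁) := by rw [← cD.w]; infer_instance
  have := cart hG q₂ hq₂
  let re₂ := Functor.IsStronglyCartesian.map 𝒳.p cD.ib q₂ (g := cD.db) rfl (re₁ ≫ q₁)
  have hre₂ : 𝒳.p.IsHomLift cD.db re₂ := Functor.IsStronglyCartesian.map_isHomLift _ _ _ _ _
  have ere : re₂ ≫ q₂ = re₁ ≫ q₁ := Functor.IsStronglyCartesian.fac _ _ _ _ _
  have : IsEmpty ↥cD.D.left := ⟨fun x => by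
    have h1 : (x.1 : ↥(U R str).left) ∈ ((O₁ R str ⊓ O₂ R str : (U R str).left.Opens) : Set _) := x.2
    have h2 := congrArg (fun W : (U R str).left.Opens => x.1 ∈ (W : Set _)) (Cross.O₁_inf_O₂ R str)
    exact cast h2 h1⟩
  obtain ⟨σ, hσ, eσ₁, eσ₂⟩ := Glue2.exists_desc hG (stackFor h (Double.union_covers _ _)).2.1 hξd hξd
    hre₁ q₁ q₂ hq₁ hq₂ ere.symm (k₁ ≫ q₁) q₂ inferInstance hq₂
    (eq_of_isEmpty h (f := cD.da ≫ cD.ia) _ _ inferInstance (by rw [cD.w]; infer_instance)) hre₂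
  -- the twisted and the untwisted object
  let cX : Glue2.Cov X := ⟨_, _, _, ia, ib, subι R str O, subι R str O,
    (Over.forget S).mono_of_mono_map (inferInstanceAs (Mono ia.left)),
    (Over.forget S).mono_of_mono_map (inferInstanceAs (Mono ib.left)), hpb⟩
  have hX := stackFor h (Double.sieve_mem cX hia hib hcov)
  have hσd : 𝒳.p.IsHomLift (subι R str O) (σ ≫ pd) := inferInstance
  obtain ⟨ξ, φa, φb, hξ, hφa, hφb, hφ⟩ :=
    Glue2.exists_glue (c := cX) hG hξu hξu hσd hpd hX.2.2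
  obtain ⟨ξ', ψa, ψb, hξ', hψa, hψb, hψ⟩ :=
    Glue2.exists_glue (c := cX) hG hξu hξu hpd hpd hX.2.2
  have hφa' : 𝒳.p.IsHomLift ia φa := hφa
  have hφb' : 𝒳.p.IsHomLift ib φb := hφb
  have hψa' : 𝒳.p.IsHomLift ia ψa := hψa
  have hψb' : 𝒳.p.IsHomLift ib ψb := hψb
  obtain ⟨t, ht⟩ := huniq ξ ξ' φa φb ψa ψb hξ hξ' hφa' hφb' hψa' hψb'
  obtain ⟨ga, hga, ega⟩ := exists_factor hG ψa hψa' (φa ≫ t) inferInstance
  obtain ⟨gb, hgb, egb⟩ := exists_factor hG ψb hψb' (φb ≫ t) inferInstance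
  have hstar : σ ≫ pd ≫ ga = pd ≫ gb := by
    obtain ⟨gad, hgad, egad⟩ := exists_pull_aut hG pd hpd ga hga
    obtain ⟨gbd, hgbd, egbd⟩ := exists_pull_aut hG pd hpd gb hgb
    have h1 : (σ ≫ gad) ≫ pd ≫ ψa = gbd ≫ pd ≫ ψa := by
      rw [Category.assoc, reassoc_of% egad, ega, hψ, reassoc_of% egbd, egb]
      simpa only [Category.assoc] using congrArg (fun m => m ≫ t) hφ
    have h3 := ext_lift hG (pd ≫ ψa) (f := subι R str O ≫ ia) inferInstance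
      (g := 𝟙 (sub R str O)) inferInstance hgbd h1
    rw [← egad, ← egbd, ← Category.assoc, h3]
  -- evaluate at the origin
  obtain ⟨g₁, hg₁⟩ := Cross.exists_factor R str _ (Cross.range_jl₁ R str)
  obtain ⟨g₂, hg₂⟩ := Cross.exists_factor R str _ (Cross.range_jl₂ R str)
  have hz : (zero R str ≫ Cross.l₁ R str) ≫ π R str = 𝟙 _ := by
    rw [Category.assoc, Cross.l₁_π, Cross.zero_πL]
  have hη : 𝒳.p.obj η = T R str := IsHomLift.codomain_eq 𝒳.p (π R str) Pu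
  have h1 : 𝒳.p.IsHomLift ((zero R str ≫ Cross.l₁ R str) ≫ π R str) (𝟙 η) := by
    rw [hz]; exact IsHomLift.id hη
  have := cart hG Pu hPu
  let o := Functor.IsStronglyCartesian.map 𝒳.p (π R str) Pu (g := zero R str ≫ Cross.l₁ R str) rfl (𝟙 η)
  have ho : 𝒳.p.IsHomLift (zero R str ≫ Cross.l₁ R str) o :=
    Functor.IsStronglyCartesian.map_isHomLift _ _ _ _ _
  have eo : o ≫ Pu = 𝟙 η := Functor.IsStronglyCartesian.fac _ _ _ _ _
  have L1 := line R str hG hi _ (Cross.l₁_π R str) g₁ hg₁ Pu hPu (q₁ ≫ pd) hr₁ ga gb hga hgb k hk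
    k₁ hk₁ (by simpa [Category.assoc] using ek₁)
    (by rw [Category.assoc, ← reassoc_of% eσ₁, hstar, Category.assoc]) o ho eo
  have ho₂ : 𝒳.p.IsHomLift (zero R str ≫ Cross.l₂ R str) o := by rw [Cross.zero_l₂]; exact ho
  have L2 := line R str hG hi _ (Cross.l₂_π R str) g₂ hg₂ Pu hPu (q₂ ≫ pd) hr₂ ga gb hga hgb (𝟙 η)
    (IsHomLift.id hη) (𝟙 ξ₂) (IsHomLift.id (IsHomLift.domain_eq 𝒳.p cD.ib q₂))
    (by simp)
    (by rw [Category.id_comp, Category.assoc, ← reassoc_of% eσ₂, hstar, Category.assoc]) o ho₂ eo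
  rw [Category.id_comp, ← L1] at L2
  have h4 : 𝒳.p.IsHomLift (𝟙 (T R str)) (o ≫ ga ≫ Pu) := by
    rw [← hz]; infer_instance
  have := isIso_of_vertical hG (o ≫ ga ≫ Pu) h4
  rw [← cancel_mono (o ≫ ga ≫ Pu), Category.id_comp]
  have h5 := congrArg (fun m => m ≫ Pu) L2
  simp only [Category.assoc] at h5
  exact h5.symm

end Groth.Agent.H14.IsoNat.Detect
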