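import Groth.Prelude.Def_W4c2isonaturalstkIso
import Groth.Agent.H14.Chart.OpenSub

/-!
An open sub-presheaf of the presheaf of isomorphism classes is an open substack.
-/

set_option autoImplicit false
set_option backward.isDefEq.respectTransparency false
set_option backward.isDefEq.respectTransparency.types false

universe u

open CategoryTheory CategoryTheory.Limits AlgebraicGeometry

namespace Groth.Agent.H14.IsoNat.OpenFunctor

open Groth.Agent.Lib.AlgStack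
open Groth.Agent.H14.Chart
open FibCat (overCat IsFibGrpd)

variable {S : Scheme.{u}} {𝒴 : AlgSt.Cat S} {W : ∀ T : Over S, Set (_root_.IsoNat.IsoCl 𝒴 T)}

/-- Membership of an object in a family of sets of isomorphism classes. -/
def Mem (W : ∀ T : Over S, Set (_root_.IsoNat.IsoCl 𝒴 T)) (η : 𝒴.obj) : Prop :=
  _root_.IsoNat.cls (⟨η, rfl⟩ : 𝒴.p.Fiber (𝒴.p.obj η)) ∈ W (𝒴.p.obj η)

theorem mem_iff {T : Over S} (x : 𝒴.p.Fiber T) : Mem W x.1 ↔ _root_.IsoNat.cls x ∈ W T := by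
  obtain ⟨a, rfl⟩ := x
  exact Iff.rfl

theorem exists_factor_iff {X T' : Scheme.{u}} (V : X.Opens) (g : T' ⟶ X) :
    (∃ g' : T' ⟶ ↑V, g' ≫ V.ι = g) ↔ Set.range g ⊆ V := by
  constructor
  · rintro ⟨g', rfl⟩ _ ⟨t, rfl⟩
    exact (g' t).2
  · intro h
    exact ⟨IsOpenImmersion.lift V.ι g (by rwa [Scheme.Opens.range_ι]), IsOpenImmersion.lift_fac _ _ _⟩

variable (hopen : ∀ (T : Over S) (x : 𝒴.p.Fiber T), ∃ V : T.left.Opens,
      ∀ (T' : Over S) (g : T' ⟶ T) (x' : 𝒴.p.Fiber T') (a : x'.1 ⟶ x.1), 𝒴.p.IsHomLift g a →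
        (_root_.IsoNat.cls x' ∈ W T' ↔ ∃ g' : T'.left ⟶ ↑V, g' ≫ V.ι = g.left))

include hopen

theorem exists_open {T : Over S} {y : 𝒴.obj} (hy : 𝒴.p.obj y = T) :
    ∃ V : T.left.Opens, ∀ {T' : Over S} (g : T' ⟶ T) {y' : 𝒴.obj} (a : y' ⟶ y),
      𝒴.p.IsHomLift g a → (Mem W y' ↔ Set.range g.left ⊆ V) := by
  obtain ⟨V, hV⟩ := hopen T ⟨y, hy⟩
  refine ⟨V, fun {T'} g {y'} a ha => ?_⟩
  have hy' : 𝒴.p.obj y' = T' := IsHomLift.domain_eq 𝒴.p g a
  rw [← exists_factor_iff, show Mem W y' ↔ _root_.IsoNat.cls (⟨y', hy'⟩ : 𝒴.p.Fiber T') ∈ W T' from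
    mem_iff ⟨y', hy'⟩]
  exact hV T' g ⟨y', hy'⟩ a ha

theorem mem_iff_of_hom {p r : AlgSt.FPt 𝒴} (a : r.obj ⟶ p.obj) : Mem W r.obj ↔ Mem W p.obj := by
  obtain ⟨V, hV⟩ := exists_open hopen p.lies
  let g : Over.mk r.str ⟶ Over.mk p.str := eqToHom r.lies.symm ≫ 𝒴.p.map a ≫ eqToHom p.lies
  have hg : 𝒴.p.IsHomLift g a := IsHomLift.of_fac' _ _ _ r.lies p.lies (by simp [g])
  rw [hV g a hg, hV (𝟙 _) (𝟙 p.obj) (IsHomLift.id p.lies)]
  have : Subsingleton ↥(Over.mk p.str).left := inferInstanceAs (Subsingleton (PrimeSpectrum p.K))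
  have : Nonempty ↥(Over.mk r.str).left := inferInstanceAs (Nonempty (PrimeSpectrum r.K))
  constructor
  · rintro h _ ⟨t, rfl⟩
    obtain ⟨s⟩ := this
    convert h ⟨s, rfl⟩
  · rintro h _ ⟨s, rfl⟩
    exact h ⟨_, rfl⟩

/-- The points whose objects lie in the family. -/
def pts : Set (AlgSt.Points 𝒴) :=
  {q | Quot.lift (fun p : AlgSt.FPt 𝒴 => Mem W p.obj) (by
    rintro p q ⟨r, a, b, -⟩
    exact propext ((mem_iff_of_hom hopen a).symm.trans (mem_iff_of_hom hopen b))) q}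

theorem exists_preimage {T : Over S} (x : overCat T ⥤ᵇ 𝒴) :
    ∃ V : T.left.Opens, AlgSt.Points.ofChart x ⁻¹' pts hopen = V ∧
      ∀ g : Over T, Mem W (x.obj g) ↔ Set.range g.hom.left ⊆ V := by
  obtain ⟨V, hV⟩ := exists_open (T := T) hopen (x.w_obj (Over.mk (𝟙 T)))
  have key : ∀ g : Over T, Mem W (x.obj g) ↔ Set.range g.hom.left ⊆ V := fun g =>
    hV g.hom (x.map (Yoneda.toId g)) (Yoneda.map_toId_isHomLift x g)
  refine ⟨V, ?_, key⟩
  ext t
  refine (key _).trans ⟨fun h => ?_, fun h => ?_⟩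
  · have := h ⟨IsLocalRing.closedPoint _, rfl⟩
    change T.left.fromSpecResidueField t _ ∈ _ at this
    rwa [Scheme.fromSpecResidueField_apply] at this
  · change Set.range (T.left.fromSpecResidueField t) ⊆ _
    rw [Scheme.range_fromSpecResidueField]
    exact Set.singleton_subset_iff.2 h

theorem eq_sub (h : IsFibGrpd 𝒴.p) : Mem W = OpenSub.sub h (pts hopen) := by
  funext y
  apply propext
  let x := Yoneda.fromObj h (rfl : 𝒴.p.obj y = 𝒴.p.obj y)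
  obtain ⟨V, hV, key⟩ := exists_preimage hopen x
  obtain ⟨e, he⟩ := Yoneda.exists_fromObj_iso h (rfl : 𝒴.p.obj y = 𝒴.p.obj y)
  obtain ⟨V', hV'⟩ := exists_open hopen (rfl : 𝒴.p.obj y = 𝒴.p.obj y)
  have h1 : Mem W y ↔ Mem W (x.obj (Over.mk (𝟙 _))) :=
    (hV' (𝟙 _) (𝟙 y) (IsHomLift.id rfl)).trans (hV' (𝟙 _) e.hom he).symm
  rw [h1, key]
  change _ ↔ Set.range (AlgSt.Points.ofChart x) ⊆ _
  rw [Set.range_subset_iff (f := AlgSt.Points.ofChart x), Set.range_subset_iff]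
  exact forall_congr' fun t => (Set.ext_iff.1 hV t).symm

theorem isOpenSubstack (h𝒴 : AlgSt.IsAlgStack Scheme.fppfPrecoverage 𝒴) :
    AlgSt.IsOpenSubstack 𝒴 (Mem W) Scheme.fppfPrecoverage := by
  rw [eq_sub hopen h𝒴.isStack.1]
  refine OpenSub.isOpenSubstack_sub h𝒴 fun U x _ => ?_
  obtain ⟨V, hV, -⟩ := exists_preimage hopen x
  rw [hV]
  exact V.isOpen

end Groth.Agent.H14.IsoNat.OpenFunctor
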