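import Groth.Agent.H14.IsoNat.AutExt
import Groth.Agent.H14.IsoNat.Detect
import Groth.Agent.H14.IsoNat.OpenFunctor
import Groth.Agent.H14.Chart.Basic
import Groth.Agent.H14.Chart.LocQ
import Groth.Agent.Lib.SchDense.Basic

/-!
Objects of smooth charts of a bald stack have no automorphisms.
-/

set_option autoImplicit false
set_option backward.isDefEq.respectTransparency false
set_option backward.isDefEq.respectTransparency.types false

universe u

open CategoryTheory CategoryTheory.Limits AlgebraicGeometry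

namespace Groth.Agent.H14.IsoNat.Rigid

open Groth.Agent.Lib.AlgStack
open Groth.Agent.H14.Chart
open FibCat (IsFibGrpd overCat fpFst toSelf inertiaToBase)
open AlgSt (spMapOfOver RepByAlgSpWith overMap)
open AlgSp (Sp yon RepWith)
open Groth.Agent.Lib.Fibred.Descent

variable {S : Scheme.{u}} {𝒳 : AlgSt.Cat S}

/-- Vertical endomorphisms agree when they agree after a scheme-theoretically dominant map. -/
theorem vert_ext_dom (h : IsFibGrpd 𝒳.p)
    (hi : RepByAlgSpWith AlgSp.IsSeparatedMor (inertiaToBase (toSelf 𝒳))) {D P' : Over S}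
    (j : P' ⟶ D) [IsSchemeTheoreticallyDominant j.left] {ξ : 𝒳.obj}
    (hξ : 𝒳.p.obj ξ = D) (a b : ξ ⟶ ξ) (ha : 𝒳.p.IsHomLift (𝟙 D) a) (hb : 𝒳.p.IsHomLift (𝟙 D) b)
    {z : 𝒳.obj} (ψ : z ⟶ ξ) (hψ : 𝒳.p.IsHomLift j ψ) (e : ψ ≫ a = ψ ≫ b) : a = b := by
  obtain ⟨ε, hε⟩ := Yoneda.exists_fromObj_iso h hξ
  let c : overCat D ⥤ᵇ 𝒳 := Yoneda.fromObj h hξ
  have hεi : 𝒳.p.IsHomLift (𝟙 D) ε.inv := by
    rw [show ε.inv = inv ε.hom by simp]
    infer_instance
  let q : InDict.AutTri c D := ⟨𝟙 D, ε.hom ≫ a ≫ ε.inv, inferInstance⟩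
  let q' : InDict.AutTri c D := ⟨𝟙 D, ε.hom ≫ b ≫ ε.inv, inferInstance⟩
  obtain ⟨G, eG, heG, hG⟩ := hi D c
  obtain ⟨g, hg⟩ := InDict.exists_map h heG q
  obtain ⟨g', hg'⟩ := InDict.exists_map h heG q'
  obtain ⟨t, ht⟩ := InDict.exists_pull h j q
  let mk' : Over.mk t.m ⟶ Over.mk (𝟙 D) := Over.homMk j ht.m.symm
  have h1 : 𝒳.p.IsHomLift j (c.map mk') := Yoneda.map_isHomLift c mk'
  have h2 : 𝒳.p.IsHomLift j (c.map mk' ≫ ε.hom) := inferInstance
  obtain ⟨θ, -, hθ⟩ := exists_factor h ψ hψ _ h2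
  have hab : (c.map mk' ≫ ε.hom) ≫ a = (c.map mk' ≫ ε.hom) ≫ b := by
    rw [← hθ, Category.assoc, e, Category.assoc]
  have ht' : InDict.IsPull j q' t :=
    ⟨ht.m, by
      refine Eq.trans ?_ ht.a
      change c.map mk' ≫ ε.hom ≫ b ≫ ε.inv = c.map mk' ≫ ε.hom ≫ a ≫ ε.inv
      rw [← Category.assoc (ε.hom), ← Category.assoc (ε.hom), ← Category.assoc (c.map mk'),
        ← Category.assoc (c.map mk'), ← Category.assoc (c.map mk'), ← Category.assoc (c.map mk'), hab]⟩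
  have hgj : (yon S).map j ≫ g = (yon S).map j ≫ g' :=
    InDict.map_unique h heG (InDict.rel_comp h hg ht) (InDict.rel_comp h hg' ht')
  let γ := spMapOfOver (BasedFunctor.comp eG (fpFst c (inertiaToBase (toSelf 𝒳))))
  have hγ : g ≫ γ = g' ≫ γ := (InDict.comp_fst h hg).trans (InDict.comp_fst h hg').symm
  let pr : (yon S).obj D ⟶ pullback γ γ := pullback.lift g g' hγ
  have hd : RepWith @IsClosedImmersion (pullback.diagonal γ) := hG
  have sq := hd.rep.isPullback pr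
  let cZ := hd.rep.snd pr
  have : IsClosedImmersion cZ.left := Lib.AlgSpace.repWith_property hd sq
  let k₀ : (yon S).obj P' ⟶ (yon S).obj _ :=
    sq.lift ((yon S).map j ≫ g) ((yon S).map j) (by
      apply pullback.hom_ext
      · simp [pr]
      · simp [pr, hgj])
  obtain ⟨k, hk⟩ := (yon S).map_surjective k₀
  have hkc : k.left ≫ cZ.left = j.left := congrArg (fun n : P' ⟶ D => n.left)
    ((yon S).map_injective (show (yon S).map (k ≫ cZ) = (yon S).map j by
      rw [Functor.map_comp, hk]; exact sq.lift_snd _ _ _))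
  have : IsIso cZ.left := IsClosedImmersion.isIso_iff_ker_eq_bot.mpr
    (le_bot_iff.mp ((k.left.le_ker_comp cZ.left).trans (by rw [hkc, Scheme.Hom.ker_eq_bot j.left])))
  have : IsIso cZ := (have : IsIso ((Over.forget S).map cZ) := inferInstanceAs (IsIso cZ.left); isIso_of_reflects_iso cZ (Over.forget S))
  have hw := sq.w
  have e1 := congrArg (fun m => m ≫ pullback.fst γ γ) hw
  have e2 := congrArg (fun m => m ≫ pullback.snd γ γ) hw
  simp [pr] at e1 e2
  have hgg : g = g' := (cancel_epi ((yon S).map cZ)).1 (e1.symm.trans e2)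
  subst hgg
  have hqq : ε.hom ≫ a ≫ ε.inv = ε.hom ≫ b ≫ ε.inv := by
    have := InDict.aut_unique h hg hg'
    simpa [q, q'] using this
  simpa using hqq

/-- Every smooth chart becomes clean exactly on a schematically dense open. -/
def Bald (𝒳 : AlgSt.Cat S) : Prop :=
  ∀ (U : Over S) (x : overCat U ⥤ᵇ 𝒳), RepByAlgSpWith (AlgSp.LocP @Smooth) x →
    ∃ V : U.left.Opens,
      (∀ (T : Over S) (g : T ⟶ U), (∃ g' : T.left ⟶ ↑V, g' ≫ V.ι = g.left) ↔
        _root_.IsoNat.IsClean (x.obj (Over.mk g))) ∧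
      CInt.IsSchematicallyDense V

/-- The members of a chart smooth over the chart have no automorphisms. -/
theorem eq_id (h : IsFibGrpd 𝒳.p)
    (hi : RepByAlgSpWith AlgSp.IsSeparatedMor (inertiaToBase (toSelf 𝒳))) (hb : Bald 𝒳)
    {U : Over S} {c : overCat U ⥤ᵇ 𝒳} (hc : RepByAlgSpWith (AlgSp.LocP @Smooth) c)
    {T : Over S} (g : T ⟶ U) [Smooth g.left] (θ : c.obj (Over.mk g) ⟶ c.obj (Over.mk g))
    (hθ : 𝒳.p.IsHomLift (𝟙 T) θ) : θ = 𝟙 _ := by
  obtain ⟨V, hV, hd⟩ := hb T (BasedFunctor.comp (overMap g) c)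
    (IsAlgFp.comp_locP LocQ.smoothST (Yoneda.isFibGrpd_overCat _) (Yoneda.isFibGrpd_overCat _)
      (Basic.rep_overMap_locP g LocQ.smoothST (inferInstanceAs (Smooth g.left))) hc)
  let P : Over S := Over.mk (V.ι ≫ T.hom)
  let j : P ⟶ T := Over.homMk V.ι
  have : IsSchemeTheoreticallyDominant j.left := Lib.SchDense.Basic.std_of_isSchematicallyDense hd
  have hclean : _root_.IsoNat.IsClean (c.obj (Over.mk (j ≫ g))) := (hV P j).1 ⟨𝟙 _, Category.id_comp _⟩
  let ψ : c.obj (Over.mk (j ≫ g)) ⟶ c.obj (Over.mk g) :=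
    c.map (Over.homMk j rfl : Over.mk (j ≫ g) ⟶ Over.mk g)
  have hψ : 𝒳.p.IsHomLift j ψ :=
    Yoneda.map_isHomLift c (Over.homMk j rfl : Over.mk (j ≫ g) ⟶ Over.mk g)
  obtain ⟨b, hb', eb⟩ := Detect.exists_pull_aut h ψ hψ θ hθ
  have hb1 : b = 𝟙 _ := hclean _ (𝟙 _) b (by
    have := IsHomLift.fac' 𝒳.p (𝟙 P) b
    simpa using this)
  refine vert_ext_dom h hi j (c.w_obj (Over.mk g)) θ (𝟙 _) hθ (IsHomLift.id (c.w_obj (Over.mk g))) ψ hψ ?_
  rw [← eb, hb1, Category.id_comp, Category.comp_id]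

end Groth.Agent.H14.IsoNat.Rigid
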