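import Groth.Agent.H14.IsoNat.BaldPoints
import Groth.Agent.H14.IsoNat.Rigid
import Groth.Agent.H14.IsoNat.Main
import Groth.Agent.Lib.Fibred.DenseExt2

/-!
Bald stacks with the same presheaves of isomorphism classes are equivalent.
-/

set_option autoImplicit false
set_option backward.isDefEq.respectTransparency false
set_option backward.isDefEq.respectTransparency.types false
set_option maxHeartbeats 400000

universe u

open CategoryTheory CategoryTheory.Limits AlgebraicGeometry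

namespace Groth.Agent.H14.IsoNat.BaldEquiv

open Groth.Agent.Lib.AlgStack
open Groth.Agent.H14.Sep
open Groth.Agent.Lib.Fibred.Descent
open BaldPoints
open FibCat (IsEquivOver fp fpFst overCat IsFibGrpd toSelf inertiaToBase)
open AlgSt (ofSp spMapOfOver RepByAlgSpWith IsAlgStack)
open AlgSp (Sp yon RepWith LocP)

variable {S : Scheme.{u}} {𝒳 𝒴 : AlgSt.Cat S} {U : Over S}

/-- Every object is, after a smooth surjective base change, a member of a smooth surjective chart. -/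
theorem exists_cover (h : IsFibGrpd 𝒳.p) {c : overCat U ⥤ᵇ 𝒳}
    (hc : RepByAlgSpWith (LocP @Smooth) c) (hcs : RepByAlgSpWith AlgSp.IsSurjectiveMor c)
    (x : 𝒳.obj) :
    ∃ (P : Over S) (s : P ⟶ 𝒳.p.obj x) (r : P ⟶ U) (φ : c.obj (Over.mk r) ⟶ x),
      Smooth s.left ∧ Surjective s.left ∧ 𝒳.p.IsHomLift s φ := by
  obtain ⟨ε, hε⟩ := Yoneda.exists_fromObj_iso h (z := x) rfl
  let z : overCat (𝒳.p.obj x) ⥤ᵇ 𝒳 := Yoneda.fromObj h rfl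
  obtain ⟨G, e, he, hsm⟩ := hc (𝒳.p.obj x) z
  have hsu := Space.prop_of_rep IsAlgFp.respectsIsoSp_surjective hcs G.property he
  obtain ⟨P, π, hπ, hπs⟩ := G.property.atlas
  obtain ⟨t, ht⟩ := Dict.exists_tri (e := e) h π
  have hs := Dict.comp_fst h ht
  have h1 : Smooth t.s.left :=
    hsm π (𝟙 _) t.s hπ (AlgSp.repWith_id _ _) (by rw [Category.comp_id]; exact hs)
  have h2 : Surjective t.s.left := ⟨fun y => by
    obtain ⟨g, hg⟩ := hsu (AlgSp.Points.schemeHomeo (𝒳.p.obj x) y)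
    obtain ⟨q, hq⟩ := Lib.AlgSpace.surjective_map hπs g
    obtain ⟨y', rfl⟩ := (AlgSp.Points.schemeHomeo P).surjective q
    refine ⟨y', (AlgSp.Points.schemeHomeo (𝒳.p.obj x)).injective ?_⟩
    rw [← AlgSp.Points.map_yon_map_apply, ← hg, ← hq, ← hs, AlgSp.Points.map_comp]⟩
  have := t.isIso h
  have := t.lift
  let m : Over.mk t.s ⟶ Over.mk (𝟙 (𝒳.p.obj x)) := Over.homMk t.s (Category.comp_id _)
  have h3 : 𝒳.p.IsHomLift t.s (z.map m) := Yoneda.map_isHomLift z m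
  exact ⟨P, t.s, t.r, inv t.θ ≫ z.map m ≫ ε.hom, h1, h2, inferInstance⟩

theorem ofArrows_mem {T P : Over S} (s : P ⟶ T) [Smooth s.left] [Surjective s.left] :
    Sieve.ofArrows (fun _ : Unit => P) (fun _ => s) ∈ QuotSh.J Scheme.fppfPrecoverage S T :=
  Lib.AlgSpace.ofArrows_mem_J _ _ (fun _ => inferInstance) (fun _ => inferInstance)
    fun x => ⟨(), s.left.surjective x⟩

variable {c : overCat U ⥤ᵇ 𝒳} {d : overCat U ⥤ᵇ 𝒴} {G G' : AlgSp.Space S}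
  {e : ofSp G.obj ⥤ᵇ fp c c} {e' : ofSp G'.obj ⥤ᵇ fp d d}

section Relation

variable (h : IsFibGrpd 𝒳.p) (h' : IsFibGrpd 𝒴.p) (e) (e')

/-- Corresponding morphisms between members of the charts. -/
def IsM (Φ : G.obj ⟶ G'.obj) {V' V : Over S} {a' : V' ⟶ U} {a : V ⟶ U}
    (m : c.obj (Over.mk a') ⟶ c.obj (Over.mk a)) (m' : d.obj (Over.mk a') ⟶ d.obj (Over.mk a)) : Prop :=
  ∃ (u : V' ⟶ V) (b : V' ⟶ U) (hb : b = u ≫ a) (θ : c.obj (Over.mk a') ⟶ c.obj (Over.mk b))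
    (θ' : d.obj (Over.mk a') ⟶ d.obj (Over.mk b)), IsTr e e' h h' Φ θ θ' ∧
      θ ≫ c.map (Over.homMk u hb.symm : Over.mk b ⟶ Over.mk a) = m ∧
      θ' ≫ d.map (Over.homMk u hb.symm : Over.mk b ⟶ Over.mk a) = m'

end Relation

variable {h : IsFibGrpd 𝒳.p} {h' : IsFibGrpd 𝒴.p} {Φ : G.obj ⟶ G'.obj} {V' V : Over S}
  {a' : V' ⟶ U} {a : V ⟶ U}

theorem isM_exists (he : IsEquivOver e) (hΦ : SameEnds h h' e e' Φ)
    (m : c.obj (Over.mk a') ⟶ c.obj (Over.mk a)) : ∃ m', IsM e e' h h' Φ m m' := by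
  let u : V' ⟶ V := eqToHom (c.w_obj (Over.mk a')).symm ≫ 𝒳.p.map m ≫ eqToHom (c.w_obj (Over.mk a))
  have hm : 𝒳.p.IsHomLift u m :=
    IsHomLift.of_fac' _ _ _ (c.w_obj (Over.mk a')) (c.w_obj (Over.mk a)) (by simp [u])
  let n : Over.mk (u ≫ a) ⟶ Over.mk a := Over.homMk u rfl
  obtain ⟨θ, hθ, eθ⟩ := exists_factor h (c.map n) (Yoneda.map_isHomLift c n) m hm
  obtain ⟨θ', hθ'⟩ := isTr_exists (h' := h') he hΦ θ hθ
  exact ⟨_, u, u ≫ a, rfl, θ, θ', hθ', eθ, rfl⟩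

theorem isM_unique (he : IsEquivOver e) {m : c.obj (Over.mk a') ⟶ c.obj (Over.mk a)}
    {m₁ m₂ : d.obj (Over.mk a') ⟶ d.obj (Over.mk a)} (h₁ : IsM e e' h h' Φ m m₁)
    (h₂ : IsM e e' h h' Φ m m₂) : m₁ = m₂ := by
  obtain ⟨u, b, hb, θ, θ', t, r, rfl⟩ := h₁
  obtain ⟨u₂, b₂, hb₂, θ₂, θ₂', t₂, r₂, rfl⟩ := h₂
  let n : Over.mk b ⟶ Over.mk a := Over.homMk u hb.symm
  let n₂ : Over.mk b₂ ⟶ Over.mk a := Over.homMk u₂ hb₂.symm
  have l : 𝒳.p.IsHomLift (𝟙 V') θ := t.choose_spec.1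
  have l₂ : 𝒳.p.IsHomLift (𝟙 V') θ₂ := t₂.choose_spec.1
  have ln : 𝒳.p.IsHomLift u (c.map n) := Yoneda.map_isHomLift c n
  have ln₂ : 𝒳.p.IsHomLift u₂ (c.map n₂) := Yoneda.map_isHomLift c n₂
  have hu : 𝒳.p.IsHomLift u m := r ▸ inferInstance
  have hu₂ : 𝒳.p.IsHomLift u₂ m := r₂ ▸ inferInstance
  obtain rfl : u = u₂ := Lib.Fibred.DenseExt2.base_eq hu hu₂
  obtain rfl : b = b₂ := hb.trans hb₂.symm
  obtain rfl : θ = θ₂ := ext_lift h (c.map n) ln l l₂ (r.trans r₂.symm)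
  rw [isTr_unique he t t₂]

theorem isM_lifts {u : V' ⟶ V} {m : c.obj (Over.mk a') ⟶ c.obj (Over.mk a)}
    {m' : d.obj (Over.mk a') ⟶ d.obj (Over.mk a)} (h₁ : IsM e e' h h' Φ m m')
    (hu : 𝒳.p.IsHomLift u m) : 𝒴.p.IsHomLift u m' := by
  obtain ⟨u₀, b, hb, θ, θ', t, r, r'⟩ := h₁
  let n : Over.mk b ⟶ Over.mk a := Over.homMk u₀ hb.symm
  have l : 𝒳.p.IsHomLift (𝟙 V') θ := t.choose_spec.1
  have l' : 𝒴.p.IsHomLift (𝟙 V') θ' := t.choose_spec.2.1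
  have ln : 𝒳.p.IsHomLift u₀ (c.map n) := Yoneda.map_isHomLift c n
  have ln' : 𝒴.p.IsHomLift u₀ (d.map n) := Yoneda.map_isHomLift d n
  obtain rfl : u₀ = u := Lib.Fibred.DenseExt2.base_eq (r ▸ inferInstance) hu
  exact r' ▸ inferInstance

theorem isM_symm {Ψ : G'.obj ⟶ G.obj} (hΦΨ : Φ ≫ Ψ = 𝟙 _)
    {m : c.obj (Over.mk a') ⟶ c.obj (Over.mk a)}
    {m' : d.obj (Over.mk a') ⟶ d.obj (Over.mk a)} (h₁ : IsM e e' h h' Φ m m') :
    IsM e' e h' h Ψ m' m := by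
  obtain ⟨u, b, hb, θ, θ', t, r, r'⟩ := h₁
  exact ⟨u, b, hb, θ', θ, isTr_symm hΦΨ t, r', r⟩

theorem isM_id (he : IsEquivOver e) (hd : IsRigid d) (hΦ : SameEnds h h' e e' Φ) :
    IsM e e' h h' Φ (𝟙 (c.obj (Over.mk a))) (𝟙 (d.obj (Over.mk a))) := by
  refine ⟨𝟙 V, a, (Category.id_comp a).symm, 𝟙 _, 𝟙 _, isTr_id he hd hΦ a, ?_, ?_⟩
  all_goals
    rw [show (Over.homMk (𝟙 V) (Category.id_comp a) : Over.mk a ⟶ Over.mk a) = 𝟙 _ from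
      Over.OverMorphism.ext rfl, CategoryTheory.Functor.map_id, Category.id_comp]

theorem isM_comp (he : IsEquivOver e) (he' : IsEquivOver e') (hd : IsRigid d)
    (hs : LocP @Smooth (spMapOfOver (BasedFunctor.comp e (fpFst c c))))
    (hΦ : SameEnds h h' e e' Φ) {V'' : Over S} {a'' : V'' ⟶ U}
    {m₁ : c.obj (Over.mk a'') ⟶ c.obj (Over.mk a')} {m₁' : d.obj (Over.mk a'') ⟶ d.obj (Over.mk a')}
    {m₂ : c.obj (Over.mk a') ⟶ c.obj (Over.mk a)} {m₂' : d.obj (Over.mk a') ⟶ d.obj (Over.mk a)}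
    (h₁ : IsM e e' h h' Φ m₁ m₁') (h₂ : IsM e e' h h' Φ m₂ m₂') :
    IsM e e' h h' Φ (m₁ ≫ m₂) (m₁' ≫ m₂') := by
  obtain ⟨u₁, b₁, hb₁, θ₁, θ₁', t₁, rfl, rfl⟩ := h₁
  obtain ⟨u₂, b₂, hb₂, θ₂, θ₂', t₂, rfl, rfl⟩ := h₂
  obtain ⟨θ₀, l₀, r₀⟩ := exists_res h u₁ (b' := u₁ ≫ b₂) hb₁ rfl θ₂ t₂.choose_spec.1
  obtain ⟨θ₀', l₀', r₀'⟩ := exists_res h' u₁ (b' := u₁ ≫ b₂) hb₁ rfl θ₂' t₂.choose_spec.2.1
  have t₀ := isTr_res t₂ r₀ r₀' l₀ l₀'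
  unfold IsRes at r₀ r₀'
  refine ⟨u₁ ≫ u₂, u₁ ≫ b₂, by rw [hb₂, Category.assoc], θ₁ ≫ θ₀, θ₁' ≫ θ₀',
    isTr_comp he he' hd hs hΦ t₁ t₀, ?_, ?_⟩
  · simp only [Category.assoc]
    rw [reassoc_of% r₀, ← c.toFunctor.map_comp]
    rfl
  · simp only [Category.assoc]
    rw [reassoc_of% r₀', ← d.toFunctor.map_comp]
    rfl

/-- Bald stacks with the same presheaves of isomorphism classes are equivalent. -/
theorem exists_isEquivOver (h𝒳 : IsAlgStack Scheme.fppfPrecoverage 𝒳)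
    (h𝒳d : RepByAlgSpWith (AlgSp.IsSeparatedMor ⊓ AlgSp.IsQuasiCompactMor) (FibCat.diag (toSelf 𝒳)))
    (h𝒳b : Rigid.Bald 𝒳) (h𝒴 : IsAlgStack Scheme.fppfPrecoverage 𝒴)
    (h𝒴d : RepByAlgSpWith (AlgSp.IsSeparatedMor ⊓ AlgSp.IsQuasiCompactMor) (FibCat.diag (toSelf 𝒴)))
    (h𝒴i : RepByAlgSpWith (LocP @LocallyOfFinitePresentation) (inertiaToBase (toSelf 𝒴)))
    (h𝒴b : Rigid.Bald 𝒴) (φ : _root_.IsoNat.FIso 𝒳 𝒴) :
    ∃ F : 𝒳 ⥤ᵇ 𝒴, IsEquivOver F := by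
  have h := h𝒳.isStack.1
  have h' := h𝒴.isStack.1
  obtain ⟨U, c, hc, hcs⟩ := h𝒳.atlas
  obtain ⟨d, hcd⟩ := Corr.exists_image (φ := φ) h' c
  have hd := Main.smooth_of_corr h h𝒴 h𝒴i hcd hc
  have hds := Main.surjective_of_corr h𝒳 h𝒴 hcd hcs
  have hcr : IsRigid c := fun g hg θ hθ =>
    haveI := hg; Rigid.eq_id h (AutExt.sep_inertia h𝒳d) h𝒳b hc g θ hθ
  have hdr : IsRigid d := fun g hg θ hθ =>
    haveI := hg; Rigid.eq_id h' (AutExt.sep_inertia h𝒴d) h𝒴b hd g θ hθ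
  obtain ⟨G, e, he, hs⟩ := hc U c
  obtain ⟨G', e', he', hs'⟩ := hd U d
  obtain ⟨Φ, hΦ⟩ := exists_map (e := e) (e' := e') h h' he' hdr hs
    (fun t => Corr.exists_tri hcd hcd h h' t)
  obtain ⟨Ψ, hΨ⟩ := exists_map (e := e') (e' := e) h' h he hcr hs'
    (fun t => Corr.exists_tri_symm hcd hcd h h' t)
  have hΦΨ := comp_eq_id h h' he hcr hs hΦ hΨ
  have hΨΦ := comp_eq_id h' h he' hdr hs' hΨ hΦ
  choose M hM using fun {V' V : Over S} {a' : V' ⟶ U} {a : V ⟶ U}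
    (m : c.obj (Over.mk a') ⟶ c.obj (Over.mk a)) => isM_exists (e' := e') (h' := h') he hΦ m
  let D : Lib.Fibred.DenseExt2.Data.{u} 𝒳 𝒴 :=
    { ι := fun V => V ⟶ U
      z := fun a => c.obj (Over.mk a)
      w := fun a => d.obj (Over.mk a)
      hz := fun a => c.w_obj (Over.mk a)
      hw := fun a => d.w_obj (Over.mk a)
      ex := fun v a => ⟨v ≫ a, c.map (Over.homMk v rfl : Over.mk (v ≫ a) ⟶ Over.mk a),
        Yoneda.map_isHomLift c (Over.homMk v rfl : Over.mk (v ≫ a) ⟶ Over.mk a)⟩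
      M := fun m => M m
      lifts := fun _ _ _ m hu => isM_lifts (hM m) hu
      map_id := fun a => isM_unique he (hM _) (isM_id he hdr hΦ)
      map_comp := fun m₁ m₂ => isM_unique he (hM _) (isM_comp he he' hdr hs hΦ (hM m₁) (hM m₂))
      bij := fun {V' V a' a} => ⟨fun m₁ m₂ eq => isM_unique he'
          (isM_symm hΦΨ (hM m₁)) (by rw [show M m₁ = M m₂ from eq]; exact isM_symm hΦΨ (hM m₂)), fun m' => by
        obtain ⟨m, hm⟩ := isM_exists (e := e') (e' := e) (h := h') (h' := h) he' hΨ m'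
        exact ⟨m, isM_unique he (hM m) (isM_symm hΨΦ hm)⟩⟩ }
  refine Lib.Fibred.DenseExt2.exists_isEquivOver D _ h𝒳.isStack h𝒴.isStack (fun x => ?_) fun y => ?_
  · obtain ⟨P, s, r, ψ, h1, h2, hψ⟩ := exists_cover h hc hcs x
    refine GrothendieckTopology.superset_covering _ ?_ (ofArrows_mem s)
    rw [Sieve.ofArrows, Sieve.generate_le_iff]
    rintro _ _ ⟨⟨⟩⟩
    exact ⟨r, ψ, hψ⟩
  · obtain ⟨P, s, r, ψ, h1, h2, hψ⟩ := exists_cover h' hd hds y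
    refine ⟨_, ofArrows_mem s, fun V f hf => ?_⟩
    obtain ⟨W, g, w, ⟨⟨⟩⟩, rfl⟩ := hf
    have : 𝒴.p.IsHomLift g (d.map (Over.homMk g rfl : Over.mk (g ≫ r) ⟶ Over.mk r)) :=
      Yoneda.map_isHomLift d (Over.homMk g rfl : Over.mk (g ≫ r) ⟶ Over.mk r)
    exact ⟨g ≫ r, d.map (Over.homMk g rfl : Over.mk (g ≫ r) ⟶ Over.mk r) ≫ ψ, inferInstance⟩

end Groth.Agent.H14.IsoNat.BaldEquiv
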