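import Groth.Agent.H14.IsoNat.Corr
import Groth.Agent.H14.Chart.LocQ
import Groth.Agent.Lib.AlgSpace.Local
import Groth.Agent.Lib.AlgSpace.Points
import Groth.Agent.Lib.AlgSpMor.LocP
import Groth.Agent.Lib.AlgStack.IsAlgFp
import Groth.Agent.Lib.Fibred.Descent
import Groth.Agent.Lib.Fibred.StackLemmas

/-!
The groupoids of two corresponding rigid smooth charts are isomorphic.
-/

set_option autoImplicit false
set_option backward.isDefEq.respectTransparency false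
set_option backward.isDefEq.respectTransparency.types false
set_option maxHeartbeats 400000

universe u

open CategoryTheory CategoryTheory.Limits AlgebraicGeometry

namespace Groth.Agent.H14.IsoNat.BaldPoints

open Groth.Agent.Lib.AlgStack
open FibCat (IsEquivOver fp fpFst overCat IsFibGrpd)
open AlgSt (ofSp spMapOfOver RepByAlgSpWith)
open AlgSp (Sp yon RepWith LocP)
open Groth.Agent.Lib.Fibred.Descent

variable {S : Scheme.{u}} {𝒳 𝒴 : AlgSt.Cat S} {U : Over S}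

/-- No automorphisms over schemes smooth over the chart. -/
def IsRigid (c : overCat U ⥤ᵇ 𝒳) : Prop :=
  ∀ {T : Over S} (g : T ⟶ U), Smooth g.left → ∀ θ : c.obj (Over.mk g) ⟶ c.obj (Over.mk g),
    𝒳.p.IsHomLift (𝟙 T) θ → θ = 𝟙 _

/-- Vertical morphisms out of a member smooth over a rigid chart are unique. -/
theorem IsRigid.unique {c : overCat U ⥤ᵇ 𝒳} (hc : IsRigid c) (h : IsFibGrpd 𝒳.p) {T : Over S}
    {g : T ⟶ U} (hg : Smooth g.left) {x : 𝒳.obj} (θ θ' : c.obj (Over.mk g) ⟶ x)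
    (hθ : 𝒳.p.IsHomLift (𝟙 T) θ) (hθ' : 𝒳.p.IsHomLift (𝟙 T) θ') : θ = θ' := by
  obtain ⟨ν, hν, rfl⟩ := exists_factor h θ' hθ' θ hθ
  rw [hc g hg ν hν, Category.id_comp]

/-- Triples with the same ends over a scheme smooth over a rigid chart agree. -/
theorem tri_ext {c c' : overCat U ⥤ᵇ 𝒳} (hc : IsRigid c) (h : IsFibGrpd 𝒳.p) {T : Over S}
    (t t' : Dict.Tri c c' T) (hs : t'.s = t.s) (hr : t'.r = t.r) (hsm : Smooth t.s.left) : t' = t := by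
  obtain ⟨s, r, θ, hθ⟩ := t
  obtain ⟨s', r', θ', hθ'⟩ := t'
  dsimp only at hs hr hsm
  subst hs hr
  obtain rfl := hc.unique h hsm θ' θ hθ' hθ
  rfl

variable {c : overCat U ⥤ᵇ 𝒳} {d : overCat U ⥤ᵇ 𝒴} {G G' : AlgSp.Space S}
  {e : ofSp G.obj ⥤ᵇ fp c c} {e' : ofSp G'.obj ⥤ᵇ fp d d}

/-- A map of the groupoids preserves the ends. -/
def SameEnds (h : IsFibGrpd 𝒳.p) (h' : IsFibGrpd 𝒴.p) (e : ofSp G.obj ⥤ᵇ fp c c)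
    (e' : ofSp G'.obj ⥤ᵇ fp d d) (Φ : G.obj ⟶ G'.obj) : Prop :=
  ∀ {T : Over S} (g : (yon S).obj T ⟶ G.obj) (t : Dict.Tri c c T) (t' : Dict.Tri d d T),
    Dict.Rel e h g t → Dict.Rel e' h' (g ≫ Φ) t' → t'.s = t.s ∧ t'.r = t.r

theorem smooth_source (h : IsFibGrpd 𝒳.p)
    (hs : LocP @Smooth (spMapOfOver (BasedFunctor.comp e (fpFst c c)))) {P : Over S}
    {π : (yon S).obj P ⟶ G.obj} (hπ : RepWith @Etale π) {t : Dict.Tri c c P}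
    (ht : Dict.Rel e h π t) : Smooth t.s.left :=
  hs π (𝟙 _) t.s hπ (AlgSp.repWith_id _ _) (by rw [Category.comp_id]; exact Dict.comp_fst h ht)

/-- The map of groupoids determined by a correspondence of triples. -/
theorem exists_map (h : IsFibGrpd 𝒳.p) (h' : IsFibGrpd 𝒴.p) (he' : IsEquivOver e')
    (hd : IsRigid d) (hs : LocP @Smooth (spMapOfOver (BasedFunctor.comp e (fpFst c c))))
    (tr : ∀ {T : Over S} (t : Dict.Tri c c T), ∃ t' : Dict.Tri d d T, t'.s = t.s ∧ t'.r = t.r) :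
    ∃ Φ : G.obj ⟶ G'.obj, SameEnds h h' e e' Φ := by
  obtain ⟨P, π, hπ, hπs⟩ := G.property.atlas
  obtain ⟨tP, htP⟩ := Dict.exists_tri (e := e) h π
  obtain ⟨tP', hs', hr'⟩ := tr tP
  obtain ⟨π', hπ'⟩ := Dict.exists_map h' he' tP'
  obtain ⟨P₂, p, q, sq⟩ := Lib.AlgSpace.exists_isPullback_yon G.property.diag π π
  obtain ⟨t₁, ht₁⟩ := Dict.exists_pull h p tP
  obtain ⟨t₂, ht₂⟩ := Dict.exists_pull h q tP
  have r₁ := Dict.rel_comp h htP ht₁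
  rw [sq.w] at r₁
  obtain rfl : t₁ = t₂ := Dict.tri_unique h r₁ (Dict.rel_comp h htP ht₂)
  obtain ⟨u₁, hu₁⟩ := Dict.exists_pull h' p tP'
  obtain ⟨u₂, hu₂⟩ := Dict.exists_pull h' q tP'
  have hp : Etale p.left := Lib.AlgSpace.repWith_property hπ sq.flip
  have hps : Smooth u₁.s.left := by
    rw [hu₁.s, hs', Over.comp_left]
    have := smooth_source h hs hπ htP
    infer_instance
  obtain rfl : u₂ = u₁ := tri_ext hd h' u₁ u₂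
    (by rw [hu₁.s, hu₂.s, hs', ← ht₁.s, ← ht₂.s]) (by rw [hu₁.r, hu₂.r, hr', ← ht₁.r, ← ht₂.r]) hps
  have w : (yon S).map p ≫ π' = (yon S).map q ≫ π' :=
    Dict.map_unique h' he' (Dict.rel_comp h' hπ' hu₁) (Dict.rel_comp h' hπ' hu₂)
  have := Lib.AlgSpace.isLocallySurjective_of_etale hπ hπs
  obtain ⟨Φ, hΦ⟩ := Lib.AlgSpace.exists_desc π sq π' w
  refine ⟨Φ, fun {T} g t t' ht ht' => ?_⟩
  obtain ⟨W, a, b, sqW⟩ := Lib.AlgSpace.exists_isPullback_yon G.property.diag π g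
  have : Etale b.left := Lib.AlgSpace.repWith_property hπ sqW
  have : Surjective b.left := Lib.AlgSpace.repWith_property hπs sqW
  have := Lib.AlgSpace.epi_yon_map b (Lib.AlgSpace.fppfCover_mk b.left)
  obtain ⟨w₁, hw₁⟩ := Dict.exists_pull h a tP
  obtain ⟨w₂, hw₂⟩ := Dict.exists_pull h b t
  have q₁ := Dict.rel_comp h htP hw₁
  rw [sqW.w] at q₁
  obtain rfl : w₁ = w₂ := Dict.tri_unique h q₁ (Dict.rel_comp h ht hw₂)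
  obtain ⟨v₁, hv₁⟩ := Dict.exists_pull h' a tP'
  obtain ⟨v₂, hv₂⟩ := Dict.exists_pull h' b t'
  have q₂ := Dict.rel_comp h' hπ' hv₁
  rw [← hΦ, reassoc_of% sqW.w] at q₂
  obtain rfl : v₁ = v₂ := Dict.tri_unique h' q₂ (Dict.rel_comp h' ht' hv₂)
  have : Epi b := (yon S).epi_of_epi_map (inferInstance : Epi ((yon S).map b))
  constructor
  · rw [← cancel_epi b, ← hv₂.s, ← hw₂.s, hv₁.s, hw₁.s, hs']
  · rw [← cancel_epi b, ← hv₂.r, ← hw₂.r, hv₁.r, hw₁.r, hr']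

/-- Maps of groupoids in both directions are inverse to each other. -/
theorem comp_eq_id (h : IsFibGrpd 𝒳.p) (h' : IsFibGrpd 𝒴.p) (he : IsEquivOver e)
    (hc : IsRigid c) (hs : LocP @Smooth (spMapOfOver (BasedFunctor.comp e (fpFst c c))))
    {Φ : G.obj ⟶ G'.obj} {Ψ : G'.obj ⟶ G.obj} (hΦ : SameEnds h h' e e' Φ)
    (hΨ : SameEnds h' h e' e Ψ) : Φ ≫ Ψ = 𝟙 _ := by
  obtain ⟨P, π, hπ, hπs⟩ := G.property.atlas
  have := Lib.AlgSpace.isLocallySurjective_of_etale hπ hπs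
  have : Epi π := inferInstance
  rw [← cancel_epi π, Category.comp_id]
  obtain ⟨t, ht⟩ := Dict.exists_tri (e := e) h π
  obtain ⟨t', ht'⟩ := Dict.exists_tri (e := e') h' (π ≫ Φ)
  obtain ⟨t'', ht''⟩ := Dict.exists_tri (e := e) h ((π ≫ Φ) ≫ Ψ)
  obtain ⟨a₁, a₂⟩ := hΦ π t t' ht ht'
  obtain ⟨b₁, b₂⟩ := hΨ (π ≫ Φ) t' t'' ht' ht''
  obtain rfl : t'' = t := tri_ext hc h t t'' (b₁.trans a₁) (b₂.trans a₂) (smooth_source h hs hπ ht)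
  rw [← Category.assoc]
  exact Dict.map_unique h he ht'' ht

section Transfer

variable (h : IsFibGrpd 𝒳.p) (h' : IsFibGrpd 𝒴.p) (e) (e')

/-- Corresponding vertical morphisms between members of the charts. -/
def IsTr (Φ : G.obj ⟶ G'.obj) {T : Over S} {a b : T ⟶ U}
    (θ : c.obj (Over.mk a) ⟶ c.obj (Over.mk b)) (θ' : d.obj (Over.mk a) ⟶ d.obj (Over.mk b)) : Prop :=
  ∃ (g : (yon S).obj T ⟶ G.obj) (hθ : 𝒳.p.IsHomLift (𝟙 T) θ) (hθ' : 𝒴.p.IsHomLift (𝟙 T) θ'),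
    Dict.Rel e h g ⟨a, b, θ, hθ⟩ ∧ Dict.Rel e' h' (g ≫ Φ) ⟨a, b, θ', hθ'⟩

/-- The pullback of a vertical morphism between members of a chart. -/
def IsRes (c : overCat U ⥤ᵇ 𝒳) {T' T : Over S} (k : T' ⟶ T) {a b : T ⟶ U} {a' b' : T' ⟶ U}
    (ha : a' = k ≫ a) (hb : b' = k ≫ b) (θ : c.obj (Over.mk a) ⟶ c.obj (Over.mk b))
    (θ' : c.obj (Over.mk a') ⟶ c.obj (Over.mk b')) : Prop :=
  c.map (Over.homMk k ha.symm : Over.mk a' ⟶ Over.mk a) ≫ θ =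
    θ' ≫ c.map (Over.homMk k hb.symm : Over.mk b' ⟶ Over.mk b)

end Transfer

theorem exists_res (h : IsFibGrpd 𝒳.p) {T' T : Over S} (k : T' ⟶ T) {a b : T ⟶ U} {a' b' : T' ⟶ U}
    (ha : a' = k ≫ a) (hb : b' = k ≫ b) (θ : c.obj (Over.mk a) ⟶ c.obj (Over.mk b))
    (hθ : 𝒳.p.IsHomLift (𝟙 T) θ) :
    ∃ θ', 𝒳.p.IsHomLift (𝟙 T') θ' ∧ IsRes c k ha hb θ θ' := by
  let ma : Over.mk a' ⟶ Over.mk a := Over.homMk k ha.symm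
  let mb : Over.mk b' ⟶ Over.mk b := Over.homMk k hb.symm
  have h1 : 𝒳.p.IsHomLift k (c.map ma) := Yoneda.map_isHomLift c ma
  obtain ⟨θ', hθ', eθ'⟩ := exists_factor h (c.map mb) (Yoneda.map_isHomLift c mb) (c.map ma ≫ θ)
    (IsHomLift.comp_lift_id_right' 𝒳.p k (c.map ma) T θ)
  exact ⟨θ', hθ', eθ'.symm⟩

theorem res_unique (h : IsFibGrpd 𝒳.p) {T' T : Over S} {k : T' ⟶ T} {a b : T ⟶ U} {a' b' : T' ⟶ U}
    {ha : a' = k ≫ a} {hb : b' = k ≫ b} {θ : c.obj (Over.mk a) ⟶ c.obj (Over.mk b)}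
    {θ₁ θ₂ : c.obj (Over.mk a') ⟶ c.obj (Over.mk b')} (h₁ : IsRes c k ha hb θ θ₁)
    (h₂ : IsRes c k ha hb θ θ₂) (l₁ : 𝒳.p.IsHomLift (𝟙 T') θ₁) (l₂ : 𝒳.p.IsHomLift (𝟙 T') θ₂) :
    θ₁ = θ₂ := by
  let mb : Over.mk b' ⟶ Over.mk b := Over.homMk k hb.symm
  exact ext_lift h (c.map mb) (Yoneda.map_isHomLift c mb) l₁ l₂ (h₁.symm.trans h₂)

theorem res_comp {T' T : Over S} {k : T' ⟶ T} {a₁ a₂ a₃ : T ⟶ U} {b₁ b₂ b₃ : T' ⟶ U}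
    {e₁ : b₁ = k ≫ a₁} {e₂ : b₂ = k ≫ a₂} {e₃ : b₃ = k ≫ a₃}
    {θ : c.obj (Over.mk a₁) ⟶ c.obj (Over.mk a₂)} {ψ : c.obj (Over.mk a₂) ⟶ c.obj (Over.mk a₃)}
    {θ' : c.obj (Over.mk b₁) ⟶ c.obj (Over.mk b₂)} {ψ' : c.obj (Over.mk b₂) ⟶ c.obj (Over.mk b₃)}
    (h₁ : IsRes c k e₁ e₂ θ θ') (h₂ : IsRes c k e₂ e₃ ψ ψ') :
    IsRes c k e₁ e₃ (θ ≫ ψ) (θ' ≫ ψ') := by
  unfold IsRes at h₁ h₂ ⊢
  rw [reassoc_of% h₁, h₂, Category.assoc]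

theorem res_id {T' T : Over S} (k : T' ⟶ T) {a : T ⟶ U} {a' : T' ⟶ U} (ha : a' = k ≫ a) :
    IsRes c k ha ha (𝟙 _) (𝟙 _) := by
  unfold IsRes
  rw [Category.comp_id, Category.id_comp]

variable {h : IsFibGrpd 𝒳.p} {h' : IsFibGrpd 𝒴.p}

theorem isTr_exists (he : IsEquivOver e) {Φ : G.obj ⟶ G'.obj}
    (hΦ : SameEnds h h' e e' Φ) {T : Over S} {a b : T ⟶ U}
    (θ : c.obj (Over.mk a) ⟶ c.obj (Over.mk b)) (hθ : 𝒳.p.IsHomLift (𝟙 T) θ) :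
    ∃ θ', IsTr e e' h h' Φ θ θ' := by
  obtain ⟨g, hg⟩ := Dict.exists_map h he (⟨a, b, θ, hθ⟩ : Dict.Tri c c T)
  obtain ⟨⟨s, r, θ', hθ'⟩, hg'⟩ := Dict.exists_tri (e := e') h' (g ≫ Φ)
  obtain ⟨e₁, e₂⟩ := hΦ g _ _ hg hg'
  dsimp only at e₁ e₂
  subst e₁ e₂
  exact ⟨θ', g, hθ, hθ', hg, hg'⟩

theorem isTr_unique (he : IsEquivOver e) {Φ : G.obj ⟶ G'.obj} {T : Over S} {a b : T ⟶ U}
    {θ : c.obj (Over.mk a) ⟶ c.obj (Over.mk b)} {θ₁ θ₂ : d.obj (Over.mk a) ⟶ d.obj (Over.mk b)}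
    (h₁ : IsTr e e' h h' Φ θ θ₁) (h₂ : IsTr e e' h h' Φ θ θ₂) : θ₁ = θ₂ := by
  obtain ⟨g₁, l, l₁, r₁, r₁'⟩ := h₁
  obtain ⟨g₂, l', l₂, r₂, r₂'⟩ := h₂
  obtain rfl := Dict.map_unique h he r₁ r₂
  exact eq_of_heq (Dict.Tri.mk.inj (Dict.tri_unique h' r₁' r₂')).2.2

theorem isTr_symm {Φ : G.obj ⟶ G'.obj} {Ψ : G'.obj ⟶ G.obj} (hΦΨ : Φ ≫ Ψ = 𝟙 _) {T : Over S}
    {a b : T ⟶ U} {θ : c.obj (Over.mk a) ⟶ c.obj (Over.mk b)}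
    {θ' : d.obj (Over.mk a) ⟶ d.obj (Over.mk b)}
    (h₁ : IsTr e e' h h' Φ θ θ') : IsTr e' e h' h Ψ θ' θ := by
  obtain ⟨g, l, l', r, r'⟩ := h₁
  exact ⟨g ≫ Φ, l', l, r', by rwa [Category.assoc, hΦΨ, Category.comp_id]⟩

theorem isTr_res {Φ : G.obj ⟶ G'.obj} {T' T : Over S} {k : T' ⟶ T} {a b : T ⟶ U}
    {a' b' : T' ⟶ U} {ha : a' = k ≫ a} {hb : b' = k ≫ b}
    {θ : c.obj (Over.mk a) ⟶ c.obj (Over.mk b)} {θ' : d.obj (Over.mk a) ⟶ d.obj (Over.mk b)}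
    (h₁ : IsTr e e' h h' Φ θ θ') {θ₀ : c.obj (Over.mk a') ⟶ c.obj (Over.mk b')}
    {θ₀' : d.obj (Over.mk a') ⟶ d.obj (Over.mk b')} (r₀ : IsRes c k ha hb θ θ₀)
    (r₀' : IsRes d k ha hb θ' θ₀') (l₀ : 𝒳.p.IsHomLift (𝟙 T') θ₀) (l₀' : 𝒴.p.IsHomLift (𝟙 T') θ₀') :
    IsTr e e' h h' Φ θ₀ θ₀' := by
  obtain ⟨g, l, l', r, r'⟩ := h₁
  refine ⟨(yon S).map k ≫ g, l₀, l₀', Dict.rel_comp h r ⟨ha, hb, r₀⟩, ?_⟩
  rw [Category.assoc]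
  exact Dict.rel_comp h' r' ⟨ha, hb, r₀'⟩

theorem isTr_id (he : IsEquivOver e) (hd : IsRigid d) {Φ : G.obj ⟶ G'.obj}
    (hΦ : SameEnds h h' e e' Φ) {T : Over S} (a : T ⟶ U) :
    IsTr e e' h h' Φ (𝟙 (c.obj (Over.mk a))) (𝟙 (d.obj (Over.mk a))) := by
  have l : 𝒳.p.IsHomLift (𝟙 U) (𝟙 (c.obj (Over.mk (𝟙 U)))) := IsHomLift.id (c.w_obj _)
  obtain ⟨θ', hθ'⟩ := isTr_exists (a := 𝟙 U) (b := 𝟙 U) (h' := h') he hΦ (𝟙 _) l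
  have l' : 𝒴.p.IsHomLift (𝟙 U) θ' := hθ'.choose_spec.2.1
  obtain rfl : θ' = 𝟙 _ := hd (𝟙 U) (inferInstanceAs (Smooth (𝟙 U.left))) θ' l'
  exact isTr_res hθ' (res_id a (Category.comp_id a).symm) (res_id a (Category.comp_id a).symm)
    (IsHomLift.id (c.w_obj _)) (IsHomLift.id (d.w_obj _))

theorem isTr_comp (he : IsEquivOver e) (he' : IsEquivOver e') (hd : IsRigid d)
    (hs : LocP @Smooth (spMapOfOver (BasedFunctor.comp e (fpFst c c)))) {Φ : G.obj ⟶ G'.obj}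
    (hΦ : SameEnds h h' e e' Φ) {T : Over S} {a₁ a₂ a₃ : T ⟶ U}
    {θ : c.obj (Over.mk a₁) ⟶ c.obj (Over.mk a₂)} {ψ : c.obj (Over.mk a₂) ⟶ c.obj (Over.mk a₃)}
    {θ' : d.obj (Over.mk a₁) ⟶ d.obj (Over.mk a₂)} {ψ' : d.obj (Over.mk a₂) ⟶ d.obj (Over.mk a₃)}
    (h₁ : IsTr e e' h h' Φ θ θ') (h₂ : IsTr e e' h h' Φ ψ ψ') :
    IsTr e e' h h' Φ (θ ≫ ψ) (θ' ≫ ψ') := by
  have h₁₀ := h₁
  have h₂₀ := h₂
  obtain ⟨g₁, l₁, l₁', r₁, r₁'⟩ := h₁₀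
  obtain ⟨g₂, l₂, l₂', r₂, r₂'⟩ := h₂₀
  obtain ⟨χ, hχ⟩ := isTr_exists (h' := h') he hΦ (θ ≫ ψ) inferInstance
  have hχ₀ := hχ
  obtain ⟨g₃, l₃, l₃', r₃, r₃'⟩ := hχ₀
  suffices χ = θ' ≫ ψ' by rwa [← this]
  -- a cover on which both morphisms come from the atlas
  obtain ⟨P, π, hπ, hπs⟩ := G.property.atlas
  obtain ⟨tP, htP⟩ := Dict.exists_tri (e := e) h π
  obtain ⟨W₁, p₁, q₁, sq₁⟩ := Lib.AlgSpace.exists_isPullback_yon G.property.diag π g₁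
  obtain ⟨W, p₂, q₂, sq₂⟩ := Lib.AlgSpace.exists_isPullback_yon G.property.diag π ((yon S).map q₁ ≫ g₂)
  let k : W ⟶ T := q₂ ≫ q₁
  have hk : Lib.AlgSpace.fppfCover k.left := by
    have : Etale q₁.left := Lib.AlgSpace.repWith_property hπ sq₁
    have : Surjective q₁.left := Lib.AlgSpace.repWith_property hπs sq₁
    have : Etale q₂.left := Lib.AlgSpace.repWith_property hπ sq₂
    have : Surjective q₂.left := Lib.AlgSpace.repWith_property hπs sq₂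
    rw [show k.left = q₂.left ≫ q₁.left from rfl]
    exact Lib.AlgSpace.fppfCover_mk _
  have w₁ : (yon S).map (q₂ ≫ p₁) ≫ π = (yon S).map k ≫ g₁ := by
    simp only [k, Functor.map_comp, Category.assoc, sq₁.w]
  have w₂ : (yon S).map p₂ ≫ π = (yon S).map k ≫ g₂ := by
    simp only [k, Functor.map_comp, Category.assoc, sq₂.w]
  obtain ⟨θW, lθW, rθ⟩ := exists_res h k (a' := k ≫ a₁) (b' := k ≫ a₂) rfl rfl θ l₁
  obtain ⟨ψW, lψW, rψ⟩ := exists_res h k (a' := k ≫ a₂) (b' := k ≫ a₃) rfl rfl ψ l₂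
  obtain ⟨θW', lθW', rθ'⟩ := exists_res h' k (a' := k ≫ a₁) (b' := k ≫ a₂) rfl rfl θ' l₁'
  obtain ⟨ψW', lψW', rψ'⟩ := exists_res h' k (a' := k ≫ a₂) (b' := k ≫ a₃) rfl rfl ψ' l₂'
  obtain ⟨χW', lχW', rχ'⟩ := exists_res h' k (a' := k ≫ a₁) (b' := k ≫ a₃) rfl rfl χ l₃'
  -- the ends on the cover
  obtain ⟨t₁, ht₁⟩ := Dict.exists_pull h (q₂ ≫ p₁) tP
  obtain ⟨t₂, ht₂⟩ := Dict.exists_pull h p₂ tP
  have z₁ := Dict.rel_comp h htP ht₁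
  rw [w₁] at z₁
  have et₁ := Dict.tri_unique h z₁ (Dict.rel_comp h r₁ (t' := ⟨_, _, θW, lθW⟩) ⟨rfl, rfl, rθ⟩)
  have z₂ := Dict.rel_comp h htP ht₂
  rw [w₂] at z₂
  have et₂ := Dict.tri_unique h z₂ (Dict.rel_comp h r₂ (t' := ⟨_, _, ψW, lψW⟩) ⟨rfl, rfl, rψ⟩)
  subst et₁ et₂
  have a₁W : k ≫ a₁ = (q₂ ≫ p₁) ≫ tP.s := ht₁.s
  have a₂W : k ≫ a₂ = (q₂ ≫ p₁) ≫ tP.r := ht₁.r
  have a₂W' : k ≫ a₂ = p₂ ≫ tP.s := ht₂.s
  have a₃W : k ≫ a₃ = p₂ ≫ tP.r := ht₂.r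
  -- the universal pair
  let Q : Over S := pullback tP.r tP.s
  let f₁ : Q ⟶ P := pullback.fst tP.r tP.s
  let f₂ : Q ⟶ P := pullback.snd tP.r tP.s
  let l : W ⟶ Q := pullback.lift (q₂ ≫ p₁) p₂ (a₂W.symm.trans a₂W')
  have hl₁ : l ≫ f₁ = q₂ ≫ p₁ := pullback.lift_fst _ _ _
  have hl₂ : l ≫ f₂ = p₂ := pullback.lift_snd _ _ _
  have hsP := smooth_source h hs hπ htP
  have hQ : Smooth (f₁ ≫ tP.s).left := by
    have : Smooth f₁.left := MorphismProperty.of_isPullback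
      ((IsPullback.of_hasPullback tP.r tP.s).flip.map (Over.forget S)) hsP
    rw [Over.comp_left]
    infer_instance
  obtain ⟨θQ, lθQ, rθQ⟩ := exists_res h f₁ (a' := f₁ ≫ tP.s) (b' := f₁ ≫ tP.r) rfl rfl tP.θ tP.lift
  obtain ⟨ψQ, lψQ, rψQ⟩ := exists_res h f₂ (a' := f₁ ≫ tP.r) (b' := f₂ ≫ tP.r) pullback.condition rfl
    tP.θ tP.lift
  obtain ⟨θQ', hθQ'⟩ := isTr_exists (h' := h') he hΦ θQ lθQ
  obtain ⟨ψQ', hψQ'⟩ := isTr_exists (h' := h') he hΦ ψQ lψQ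
  obtain ⟨χQ', hχQ'⟩ := isTr_exists (h' := h') he hΦ (θQ ≫ ψQ) inferInstance
  have lθQ' : 𝒴.p.IsHomLift (𝟙 Q) θQ' := hθQ'.choose_spec.2.1
  have lψQ' : 𝒴.p.IsHomLift (𝟙 Q) ψQ' := hψQ'.choose_spec.2.1
  obtain rfl : χQ' = θQ' ≫ ψQ' := hd.unique h' hQ _ _ hχQ'.choose_spec.2.1 inferInstance
  -- its pullbacks
  have e₁ : k ≫ a₁ = l ≫ f₁ ≫ tP.s := by rw [← Category.assoc, hl₁]; exact a₁W
  have e₂ : k ≫ a₂ = l ≫ f₁ ≫ tP.r := by rw [← Category.assoc, hl₁]; exact a₂W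
  have e₃ : k ≫ a₃ = l ≫ f₂ ≫ tP.r := by rw [← Category.assoc, hl₂]; exact a₃W
  obtain ⟨θ₂, lθ₂, rθ₂⟩ := exists_res h l e₁ e₂ θQ lθQ
  obtain ⟨ψ₂, lψ₂, rψ₂⟩ := exists_res h l e₂ e₃ ψQ lψQ
  have eθ : θ₂ = θW := by
    let mP : Over.mk (k ≫ a₂) ⟶ Over.mk tP.r := Over.homMk (q₂ ≫ p₁) a₂W.symm
    refine ext_lift h (c.map mP) (Yoneda.map_isHomLift c mP) lθ₂ lθW ?_
    refine Eq.trans ?_ ht₁.θ
    let m₁ : Over.mk (k ≫ a₁) ⟶ Over.mk (f₁ ≫ tP.s) := Over.homMk l e₁.symm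
    let m₂ : Over.mk (k ≫ a₂) ⟶ Over.mk (f₁ ≫ tP.r) := Over.homMk l e₂.symm
    let n₁ : Over.mk (f₁ ≫ tP.s) ⟶ Over.mk tP.s := Over.homMk f₁ rfl
    let n₂ : Over.mk (f₁ ≫ tP.r) ⟶ Over.mk tP.r := Over.homMk f₁ rfl
    rw [show mP = m₂ ≫ n₂ from Over.OverMorphism.ext hl₁.symm]
    rw [c.toFunctor.map_comp, ← Category.assoc θ₂, show θ₂ ≫ c.map m₂ = c.map m₁ ≫ θQ from rθ₂.symm,
      Category.assoc (c.map m₁), show θQ ≫ c.map n₂ = c.map n₁ ≫ tP.θ from rθQ.symm,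
      ← Category.assoc (c.map m₁), ← c.toFunctor.map_comp]
    congr 2
    exact Over.OverMorphism.ext hl₁
  have eψ : ψ₂ = ψW := by
    let mP : Over.mk (k ≫ a₃) ⟶ Over.mk tP.r := Over.homMk p₂ a₃W.symm
    refine ext_lift h (c.map mP) (Yoneda.map_isHomLift c mP) lψ₂ lψW ?_
    refine Eq.trans ?_ ht₂.θ
    let m₁ : Over.mk (k ≫ a₂) ⟶ Over.mk (f₁ ≫ tP.r) := Over.homMk l e₂.symm
    let m₂ : Over.mk (k ≫ a₃) ⟶ Over.mk (f₂ ≫ tP.r) := Over.homMk l e₃.symm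
    let n₁ : Over.mk (f₁ ≫ tP.r) ⟶ Over.mk tP.s := Over.homMk f₂ pullback.condition.symm
    let n₂ : Over.mk (f₂ ≫ tP.r) ⟶ Over.mk tP.r := Over.homMk f₂ rfl
    rw [show mP = m₂ ≫ n₂ from Over.OverMorphism.ext hl₂.symm]
    rw [c.toFunctor.map_comp, ← Category.assoc ψ₂, show ψ₂ ≫ c.map m₂ = c.map m₁ ≫ ψQ from rψ₂.symm,
      Category.assoc (c.map m₁), show ψQ ≫ c.map n₂ = c.map n₁ ≫ tP.θ from rψQ.symm,
      ← Category.assoc (c.map m₁), ← c.toFunctor.map_comp]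
    congr 2
    exact Over.OverMorphism.ext hl₂
  subst eθ eψ
  obtain ⟨θ₂', lθ₂', rθ₂'⟩ := exists_res h' l e₁ e₂ θQ' lθQ'
  obtain ⟨ψ₂', lψ₂', rψ₂'⟩ := exists_res h' l e₂ e₃ ψQ' lψQ'
  obtain rfl : θ₂' = θW' := isTr_unique he (isTr_res hθQ' rθ₂ rθ₂' lθ₂ lθ₂')
    (isTr_res h₁ rθ rθ' lθ₂ lθW')
  obtain rfl : ψ₂' = ψW' := isTr_unique he (isTr_res hψQ' rψ₂ rψ₂' lψ₂ lψ₂')
    (isTr_res h₂ rψ rψ' lψ₂ lψW')
  have key : χW' = θ₂' ≫ ψ₂' := isTr_unique he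
    (isTr_res hχ (res_comp rθ rψ) rχ' inferInstance lχW')
    (isTr_res hχQ' (res_comp rθ₂ rψ₂) (res_comp rθ₂' rψ₂') inferInstance inferInstance)
  subst key
  -- descend
  have := Lib.AlgSpace.epi_yon_map k hk
  obtain ⟨g₄, hg₄⟩ := Dict.exists_map h' he' (⟨a₁, a₃, θ' ≫ ψ', inferInstance⟩ : Dict.Tri d d T)
  have := Dict.map_unique h' he' (Dict.rel_comp h' r₃' (t' := ⟨_, _, _, lχW'⟩) ⟨rfl, rfl, rχ'⟩)
    (Dict.rel_comp h' hg₄ (t' := ⟨_, _, _, lχW'⟩) ⟨rfl, rfl, res_comp rθ' rψ'⟩)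
  rw [cancel_epi] at this
  rw [this] at r₃'
  exact eq_of_heq (Dict.Tri.mk.inj (Dict.tri_unique h' r₃' hg₄)).2.2

end Groth.Agent.H14.IsoNat.BaldPoints
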