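import Groth.Agent.H14.IsoNat.Cls

/-!
The space of points is seen by the presheaf of isomorphism classes.
-/

set_option autoImplicit false
set_option backward.isDefEq.respectTransparency false
set_option backward.isDefEq.respectTransparency.types false

universe u

open CategoryTheory CategoryTheory.Limits AlgebraicGeometry

namespace Groth.Agent.H14.IsoNat.Pts

open Groth.Agent.Lib.AlgStack
open Groth.Agent.H14.IsoNat
open FibCat (IsFibGrpd overCat)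
open AlgSt (IsAlgStack)

variable {S : Scheme.{u}} {𝒳 𝒴 : AlgSt.Cat S}

/-- The inverse of an isomorphism of presheaves. -/
def symm (φ : _root_.IsoNat.FIso 𝒳 𝒴) (h𝒳 : IsFibGrpd 𝒳.p) (h𝒴 : IsFibGrpd 𝒴.p) :
    _root_.IsoNat.FIso 𝒴 𝒳 where
  toEquiv T := (φ.toEquiv T).symm
  natural {T' T} g y' y b hb := by
    obtain ⟨x', hx'⟩ := Cls.exists_cls ((φ.toEquiv T').symm (_root_.IsoNat.cls y'))
    obtain ⟨x, hx⟩ := Cls.exists_cls ((φ.toEquiv T).symm (_root_.IsoNat.cls y))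
    obtain ⟨a, ha⟩ := Cls.exists_hom_symm φ h𝒳 h𝒴 (x' := x') (x := x) hb (by simp [hx']) (by simp [hx])
    exact ⟨x', x, a, ha, hx'.symm, hx.symm⟩

/-- An object representing the image of a field-valued point. -/
noncomputable def objPt (φ : _root_.IsoNat.FIso 𝒳 𝒴) (p : AlgSt.FPt 𝒳) : 𝒴.p.Fiber (Over.mk p.str) :=
  (Cls.exists_cls (φ.toEquiv (Over.mk p.str) (_root_.IsoNat.cls ⟨p.obj, p.lies⟩))).choose

theorem cls_objPt (φ : _root_.IsoNat.FIso 𝒳 𝒴) (p : AlgSt.FPt 𝒳) :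
    _root_.IsoNat.cls (objPt φ p) = φ.toEquiv (Over.mk p.str) (_root_.IsoNat.cls ⟨p.obj, p.lies⟩) :=
  (Cls.exists_cls (φ.toEquiv (Over.mk p.str) (_root_.IsoNat.cls ⟨p.obj, p.lies⟩))).choose_spec

/-- The image of a field-valued point. -/
noncomputable def pt (φ : _root_.IsoNat.FIso 𝒳 𝒴) (p : AlgSt.FPt 𝒳) : AlgSt.FPt 𝒴 :=
  { K := p.K, str := p.str, obj := (objPt φ p).1, lies := (objPt φ p).2 }

theorem exists_hom_pt (φ : _root_.IsoNat.FIso 𝒳 𝒴) {r p : AlgSt.FPt 𝒳} (a : r.obj ⟶ p.obj) :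
    Nonempty ((pt φ r).obj ⟶ (pt φ p).obj) := by
  let g : Over.mk r.str ⟶ Over.mk p.str := eqToHom r.lies.symm ≫ 𝒳.p.map a ≫ eqToHom p.lies
  have hg : 𝒳.p.IsHomLift g a := IsHomLift.of_fac' _ _ _ r.lies p.lies (by simp [g])
  obtain ⟨b, -⟩ := Cls.exists_hom φ (x' := ⟨r.obj, r.lies⟩) (x := ⟨p.obj, p.lies⟩) hg
    (cls_objPt φ r).symm (cls_objPt φ p).symm
  exact ⟨b⟩

/-- The map of points. -/
noncomputable def pts (φ : _root_.IsoNat.FIso 𝒳 𝒴) : AlgSt.Points 𝒳 → AlgSt.Points 𝒴 :=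
  Quot.lift (fun p => AlgSt.Points.mk (pt φ p)) fun _ _ ⟨r, a, b, _⟩ => by
    obtain ⟨a'⟩ := exists_hom_pt φ a
    obtain ⟨b'⟩ := exists_hom_pt φ b
    exact AlgSt.Points.sound ⟨pt φ r, a', b', trivial⟩

theorem pts_mk (φ : _root_.IsoNat.FIso 𝒳 𝒴) (p : AlgSt.FPt 𝒳) :
    pts φ (AlgSt.Points.mk p) = AlgSt.Points.mk (pt φ p) := rfl

theorem mk_eq_of_cls {K : Type u} [Field K] {str : Spec (CommRingCat.of K) ⟶ S}
    {x y : 𝒳.p.Fiber (Over.mk str)} (e : _root_.IsoNat.cls x = _root_.IsoNat.cls y) :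
    AlgSt.Points.mk { K := K, str := str, obj := x.1, lies := x.2 } =
      AlgSt.Points.mk { K := K, str := str, obj := y.1, lies := y.2 } := by
  obtain ⟨i⟩ := Cls.cls_eq_iff.1 e
  exact AlgSt.Points.sound
    ⟨{ K := K, str := str, obj := x.1, lies := x.2 }, 𝟙 _, i.hom.1, trivial⟩

theorem pts_symm (φ : _root_.IsoNat.FIso 𝒳 𝒴) (h𝒳 : IsFibGrpd 𝒳.p) (h𝒴 : IsFibGrpd 𝒴.p)
    (c : AlgSt.Points 𝒳) : pts (symm φ h𝒳 h𝒴) (pts φ c) = c := by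
  obtain ⟨p, rfl⟩ := AlgSt.Points.mk_surjective c
  refine mk_eq_of_cls (x := objPt (symm φ h𝒳 h𝒴) (pt φ p)) (y := ⟨p.obj, p.lies⟩) ?_
  rw [cls_objPt]
  change (φ.toEquiv (Over.mk p.str)).symm (_root_.IsoNat.cls (objPt φ p)) = _
  rw [cls_objPt, Equiv.symm_apply_apply]

theorem pts_symm' (φ : _root_.IsoNat.FIso 𝒳 𝒴) (h𝒳 : IsFibGrpd 𝒳.p) (h𝒴 : IsFibGrpd 𝒴.p)
    (c : AlgSt.Points 𝒴) : pts φ (pts (symm φ h𝒳 h𝒴) c) = c := by
  obtain ⟨p, rfl⟩ := AlgSt.Points.mk_surjective c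
  refine mk_eq_of_cls (x := objPt φ (pt (symm φ h𝒳 h𝒴) p)) (y := ⟨p.obj, p.lies⟩) ?_
  rw [cls_objPt]
  change φ.toEquiv (Over.mk p.str) (_root_.IsoNat.cls (objPt (symm φ h𝒳 h𝒴) p)) = _
  rw [cls_objPt]
  exact (φ.toEquiv _).apply_symm_apply _

theorem surjective_pts (φ : _root_.IsoNat.FIso 𝒳 𝒴) (h𝒳 : IsFibGrpd 𝒳.p) (h𝒴 : IsFibGrpd 𝒴.p) :
    Function.Surjective (pts φ) := fun c => ⟨_, pts_symm' φ h𝒳 h𝒴 c⟩

/-- The image of a point of a chart is a point of the corresponding chart. -/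
theorem exists_chart (φ : _root_.IsoNat.FIso 𝒳 𝒴) (h𝒴 : IsFibGrpd 𝒴.p) {U : Over S}
    (x : overCat U ⥤ᵇ 𝒳) :
    ∃ y : overCat U ⥤ᵇ 𝒴, ∀ t : ↥U.left,
      pts φ (AlgSt.Points.ofChart x t) = AlgSt.Points.ofChart y t := by
  obtain ⟨Y, hY⟩ := Cls.exists_cls (φ.toEquiv U (_root_.IsoNat.objCls x))
  obtain ⟨e, he⟩ := Yoneda.exists_fromObj_iso h𝒴 Y.2
  refine ⟨Yoneda.fromObj h𝒴 Y.2, fun t => ?_⟩
  let g : Over.mk (U.left.fromSpecResidueField t ≫ U.hom) ⟶ U :=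
    Over.homMk (U.left.fromSpecResidueField t) rfl
  let p : AlgSt.FPt 𝒳 := ⟨↥(U.left.residueField t), _, x.obj (Over.mk g), x.w_obj _⟩
  obtain ⟨b, hb⟩ := Cls.exists_hom φ (x' := ⟨p.obj, p.lies⟩)
    (x := ⟨x.obj (Over.mk (𝟙 U)), x.w_obj _⟩) (Yoneda.map_toId_isHomLift x (Over.mk g))
    (cls_objPt φ p).symm hY.symm
  have h1 : 𝒴.p.IsHomLift g ((Yoneda.fromObj h𝒴 Y.2).map (Yoneda.toId (Over.mk g))) :=
    Yoneda.map_toId_isHomLift _ (Over.mk g)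
  have := he
  have h2 : 𝒴.p.IsHomLift g ((Yoneda.fromObj h𝒴 Y.2).map (Yoneda.toId (Over.mk g)) ≫ e.hom) :=
    IsHomLift.comp_lift_id_right' 𝒴.p g _ U _
  exact mk_eq_of_cls (x := objPt φ p) (y := ⟨_, (Yoneda.fromObj h𝒴 Y.2).w_obj (Over.mk g)⟩)
    (Cls.cls_eq_of_homLift h𝒴 hb (a₂ := (Yoneda.fromObj h𝒴 Y.2).map (Yoneda.toId (Over.mk g)) ≫ e.hom)
      h2)

theorem continuous_pts (φ : _root_.IsoNat.FIso 𝒳 𝒴) (h𝒴 : IsAlgStack Scheme.fppfPrecoverage 𝒴) :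
    Continuous (pts φ) := continuous_def.2 fun W hW U x _ => by
  obtain ⟨y, hy⟩ := exists_chart φ h𝒴.isStack.1 x
  rw [show AlgSt.Points.ofChart x ⁻¹' (pts φ ⁻¹' W) = AlgSt.Points.ofChart y ⁻¹' W from
    Set.ext fun t => by simp [hy t]]
  exact hW.preimage (H14.Chart.Points.continuous_ofChart h𝒴 y)

theorem pts_map {𝒳' 𝒴' : AlgSt.Cat S} {f : 𝒳 ⥤ᵇ 𝒴} {f' : 𝒳' ⥤ᵇ 𝒴'}
    (φ : _root_.IsoNat.FIsoSq f f') (c : AlgSt.Points 𝒳) :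
    pts φ.tgt (AlgSt.Points.map f c) = AlgSt.Points.map f' (pts φ.src c) := by
  obtain ⟨p, rfl⟩ := AlgSt.Points.mk_surjective c
  refine mk_eq_of_cls (x := objPt φ.tgt (p.map f))
    (y := (_root_.IsoNat.fibFun f' (Over.mk p.str)).obj (objPt φ.src p)) ?_
  rw [cls_objPt]
  change φ.tgt.toEquiv (Over.mk p.str)
    (_root_.IsoNat.mapCls f (Over.mk p.str) (_root_.IsoNat.cls ⟨p.obj, p.lies⟩)) = _
  rw [φ.comm, ← cls_objPt φ.src p, Cls.mapCls_cls]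

end Groth.Agent.H14.IsoNat.Pts
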