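import Groth.Agent.H14.IsoNat.Detect
import Groth.Agent.H14.IsoNat.Points

/-!
Cleanliness is seen by the presheaf of isomorphism classes.
-/

set_option autoImplicit false
set_option backward.isDefEq.respectTransparency false
set_option backward.isDefEq.respectTransparency.types false
set_option maxHeartbeats 800000

universe u

open CategoryTheory CategoryTheory.Limits AlgebraicGeometry Groth.Agent.Lib.Fibred.Descent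

namespace Groth.Agent.H14.IsoNat.Clean

open FibCat (IsFibGrpd toSelf inertiaToBase)
open AlgSt (RepByAlgSpWith IsAlgStack)

variable {S : Scheme.{u}} {𝒳 𝒴 : AlgSt.Cat S}

/-- Objects on a cover glued from `ξu` are alike as soon as those glued from the corresponding object are. -/
theorem transfer_unique (φ : _root_.IsoNat.FIso 𝒳 𝒴) (h𝒳 : IsFibGrpd 𝒳.p) (h𝒴 : IsFibGrpd 𝒴.p)
    {X A B : Over S} {ia : A ⟶ X} {ib : B ⟶ X} {ζa : 𝒳.p.Fiber A} {ζb : 𝒳.p.Fiber B}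
    {ξa : 𝒴.p.Fiber A} {ξb : 𝒴.p.Fiber B}
    (hca : φ.toEquiv A (_root_.IsoNat.cls ζa) = _root_.IsoNat.cls ξa)
    (hcb : φ.toEquiv B (_root_.IsoNat.cls ζb) = _root_.IsoNat.cls ξb)
    (huniq : ∀ (ζ ζ' : 𝒳.obj) (φa : ζa.1 ⟶ ζ) (φb : ζb.1 ⟶ ζ) (ψa : ζa.1 ⟶ ζ') (ψb : ζb.1 ⟶ ζ'),
      𝒳.p.obj ζ = X → 𝒳.p.obj ζ' = X → 𝒳.p.IsHomLift ia φa → 𝒳.p.IsHomLift ib φb →
      𝒳.p.IsHomLift ia ψa → 𝒳.p.IsHomLift ib ψb → ∃ t : ζ ⟶ ζ', 𝒳.p.IsHomLift (𝟙 X) t)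
    (ξ ξ' : 𝒴.obj) (φa : ξa.1 ⟶ ξ) (φb : ξb.1 ⟶ ξ) (ψa : ξa.1 ⟶ ξ') (ψb : ξb.1 ⟶ ξ')
    (hξ : 𝒴.p.obj ξ = X) (hξ' : 𝒴.p.obj ξ' = X) (hφa : 𝒴.p.IsHomLift ia φa)
    (hφb : 𝒴.p.IsHomLift ib φb) (hψa : 𝒴.p.IsHomLift ia ψa) (hψb : 𝒴.p.IsHomLift ib ψb) :
    ∃ t : ξ ⟶ ξ', 𝒴.p.IsHomLift (𝟙 X) t := by
  obtain ⟨ζ, hζ⟩ := Cls.exists_cls ((φ.toEquiv X).symm (_root_.IsoNat.cls ⟨ξ, hξ⟩))
  obtain ⟨ζ', hζ'⟩ := Cls.exists_cls ((φ.toEquiv X).symm (_root_.IsoNat.cls ⟨ξ', hξ'⟩))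
  have e : φ.toEquiv X (_root_.IsoNat.cls ζ) = _root_.IsoNat.cls ⟨ξ, hξ⟩ := by rw [hζ, Equiv.apply_symm_apply]
  have e' : φ.toEquiv X (_root_.IsoNat.cls ζ') = _root_.IsoNat.cls ⟨ξ', hξ'⟩ := by
    rw [hζ', Equiv.apply_symm_apply]
  obtain ⟨a₁, ha₁⟩ := Cls.exists_hom_symm φ h𝒳 h𝒴 (y := ⟨ξ, hξ⟩) hφa hca e
  obtain ⟨b₁, hb₁⟩ := Cls.exists_hom_symm φ h𝒳 h𝒴 (y := ⟨ξ, hξ⟩) hφb hcb e
  obtain ⟨a₂, ha₂⟩ := Cls.exists_hom_symm φ h𝒳 h𝒴 (y := ⟨ξ', hξ'⟩) hψa hca e'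
  obtain ⟨b₂, hb₂⟩ := Cls.exists_hom_symm φ h𝒳 h𝒴 (y := ⟨ξ', hξ'⟩) hψb hcb e'
  obtain ⟨t, ht⟩ := huniq ζ.1 ζ'.1 a₁ b₁ a₂ b₂ ζ.2 ζ'.2 ha₁ hb₁ ha₂ hb₂
  have h1 := congrArg (φ.toEquiv X)
    (Cls.cls_eq_of_homLift h𝒳 (x := ζ') ht (x₂ := ζ') (a₂ := 𝟙 ζ'.1) (IsHomLift.id ζ'.2))
  rw [e, e'] at h1
  obtain ⟨i⟩ := Cls.cls_eq_iff.1 h1
  exact ⟨i.hom.1, i.hom.2⟩

/-- A vertical endomorphism trivial on an affine open cover is trivial. -/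
theorem eq_id_of_affine (h : IsAlgStack Scheme.fppfPrecoverage 𝒴) {W : Over S} {x : 𝒴.obj}
    (hx : 𝒴.p.obj x = W) (s : x ⟶ x) (hs : 𝒴.p.IsHomLift (𝟙 W) s)
    (hl : ∀ (R : Type u) [CommRing R] (str : Spec (CommRingCat.of R) ⟶ S) (f : Over.mk str ⟶ W)
      (z : 𝒴.obj) (ψ : z ⟶ x) (k : z ⟶ z), 𝒴.p.IsHomLift f ψ → 𝒴.p.IsHomLift (𝟙 (Over.mk str)) k →
      k ≫ ψ = ψ ≫ s → k = 𝟙 z) : s = 𝟙 x := by
  let 𝒰 := W.left.affineOpenCover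
  let Z : 𝒰.I₀ → Over S := fun i => Over.mk (𝒰.f i ≫ W.hom)
  let g : ∀ i, Z i ⟶ W := fun i => Over.homMk (𝒰.f i)
  have hfl : ∀ i, Flat (g i).left := fun i => inferInstanceAs (Flat (𝒰.f i))
  have hfp : ∀ i, LocallyOfFinitePresentation (g i).left := fun i =>
    inferInstanceAs (LocallyOfFinitePresentation (𝒰.f i))
  have hR := Lib.AlgSpace.ofArrows_mem_J Z g hfl hfp fun y =>
    ⟨_, 𝒰.openCover.exists_eq y |>.choose_spec⟩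
  refine (Detect.stackFor h hR).1 s (𝟙 x) hs (IsHomLift.id hx) fun V f hf z ψ hψ => ?_
  rw [Sieve.mem_ofArrows_iff] at hf
  obtain ⟨i, v, rfl⟩ := hf
  obtain ⟨zi, ψi, hψi⟩ := exists_lift h.isStack.1 hx (g i)
  obtain ⟨k, hk, ek⟩ := Detect.exists_pull_aut h.isStack.1 ψi hψi s hs
  obtain rfl := hl (𝒰.X i) (𝒰.f i ≫ W.hom) (g i) zi ψi k hψi hk ek
  have := cart h.isStack.1 ψi hψi
  let θ := Functor.IsStronglyCartesian.map 𝒴.p (g i) ψi (g := v) rfl ψ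
  have eθ : θ ≫ ψi = ψ := Functor.IsStronglyCartesian.fac _ _ _ _ _
  rw [Category.id_comp] at ek
  rw [← eθ, Category.assoc, ← ek, Category.comp_id]

theorem eq_id_of_cls (φ : _root_.IsoNat.FIso 𝒳 𝒴) (h𝒳 : IsAlgStack Scheme.fppfPrecoverage 𝒳)
    (h𝒴 : IsAlgStack Scheme.fppfPrecoverage 𝒴)
    (hi : RepByAlgSpWith AlgSp.IsSeparatedMor (inertiaToBase (toSelf 𝒴)))
    (R : Type u) [CommRing R] (str : Spec (CommRingCat.of R) ⟶ S) (η : 𝒳.p.Fiber (Over.mk str))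
    (η' : 𝒴.p.Fiber (Over.mk str))
    (hη : φ.toEquiv (Over.mk str) (_root_.IsoNat.cls η) = _root_.IsoNat.cls η')
    (hc : _root_.IsoNat.IsClean η.1) (k : η'.1 ⟶ η'.1) (hk : 𝒴.p.IsHomLift (𝟙 (Over.mk str)) k) :
    k = 𝟙 η'.1 := by
  obtain ⟨ζu, A, hA⟩ := Cls.exists_pullback h𝒳.isStack.1 (Cross.π R str) η
  obtain ⟨ξu, hξu⟩ := Cls.exists_cls (φ.toEquiv (Cross.U R str) (_root_.IsoNat.cls ζu))
  obtain ⟨P, hP⟩ := Cls.exists_hom φ hA hξu.symm hη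
  obtain ⟨X, ia, ib, hia, hib, hcov, hpb⟩ :=
    Double.exists_double (Cross.U R str) (Cross.O₁ R str ⊔ Cross.O₂ R str)
  refine Detect.eq_id_of_unique R str h𝒴 hi P hP ia ib hia hib hcov hpb
    (fun ξ ξ' φa φb ψa ψb hξ hξ' h1 h2 h3 h4 => ?_) k hk
  refine transfer_unique φ h𝒳.isStack.1 h𝒴.isStack.1 hξu.symm hξu.symm
    (fun ζ ζ' φa φb ψa ψb hζ hζ' h1 h2 h3 h4 => ?_) ξ ξ' φa φb ψa ψb hξ hξ' h1 h2 h3 h4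
  let cX : Glue2.Cov X := ⟨_, _, _, ia, ib, _, _,
    (Over.forget S).mono_of_mono_map (inferInstanceAs (Mono ia.left)),
    (Over.forget S).mono_of_mono_map (inferInstanceAs (Mono ib.left)), hpb⟩
  obtain ⟨ζd, pd, hpd⟩ := exists_lift h𝒳.isStack.1 ζu.2
    (Cross.subι R str (Cross.O₁ R str ⊔ Cross.O₂ R str))
  refine Detect.exists_iso_of_trivial h𝒳 cX (Double.sieve_mem cX hia hib hcov) pd pd hpd hpd
    (fun θ hθ => ?_) hζ hζ' φa φb ψa ψb h1 h2 h3 h4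
  have := hθ
  refine hc ζd (pd ≫ A) θ ((IsHomLift.fac' 𝒳.p (𝟙 cX.D) θ).trans ?_)
  simp

/-- Cleanliness passes to corresponding objects. -/
theorem isClean_of_cls (φ : _root_.IsoNat.FIso 𝒳 𝒴) (h𝒳 : IsAlgStack Scheme.fppfPrecoverage 𝒳)
    (h𝒴 : IsAlgStack Scheme.fppfPrecoverage 𝒴)
    (hi : RepByAlgSpWith AlgSp.IsSeparatedMor (inertiaToBase (toSelf 𝒴)))
    {T : Over S} (η : 𝒳.p.Fiber T) (η' : 𝒴.p.Fiber T)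
    (hη : φ.toEquiv T (_root_.IsoNat.cls η) = _root_.IsoNat.cls η')
    (hc : _root_.IsoNat.IsClean η.1) : _root_.IsoNat.IsClean η'.1 := by
  intro x a s hs
  refine eq_id_of_affine h𝒴 (x := x) rfl s (hs ▸ IsHomLift.map 𝒴.p s) fun R _ str f z ψ k hψ hk _ => ?_
  have hz : 𝒴.p.obj z = Over.mk str := IsHomLift.domain_eq 𝒴.p f ψ
  obtain ⟨ζ, hζ⟩ := Cls.exists_cls ((φ.toEquiv (Over.mk str)).symm (_root_.IsoNat.cls ⟨z, hz⟩))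
  have e : φ.toEquiv (Over.mk str) (_root_.IsoNat.cls ζ) = _root_.IsoNat.cls ⟨z, hz⟩ := by
    rw [hζ, Equiv.apply_symm_apply]
  let g : Over.mk str ⟶ T := f ≫ 𝒴.p.map a ≫ eqToHom η'.2
  have ha : 𝒴.p.IsHomLift (𝒴.p.map a ≫ eqToHom η'.2) a := IsHomLift.of_fac' _ _ _ rfl η'.2 (by simp)
  obtain ⟨b, -⟩ := Cls.exists_hom_symm φ h𝒳.isStack.1 h𝒴.isStack.1 (y' := ⟨z, hz⟩) (g := g)
    (b := ψ ≫ a) inferInstance e hη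
  exact eq_id_of_cls φ h𝒳 h𝒴 hi R str ζ ⟨z, hz⟩ e (fun w c => hc w (c ≫ b)) k hk

/-- Cleanliness is invariant. -/
theorem isClean_iff (φ : _root_.IsoNat.FIso 𝒳 𝒴) (h𝒳 : IsAlgStack Scheme.fppfPrecoverage 𝒳)
    (h𝒴 : IsAlgStack Scheme.fppfPrecoverage 𝒴)
    (hi : RepByAlgSpWith AlgSp.IsSeparatedMor (inertiaToBase (toSelf 𝒳)))
    (hi' : RepByAlgSpWith AlgSp.IsSeparatedMor (inertiaToBase (toSelf 𝒴)))
    {T : Over S} (η : 𝒳.p.Fiber T) (η' : 𝒴.p.Fiber T)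
    (hη : φ.toEquiv T (_root_.IsoNat.cls η) = _root_.IsoNat.cls η') :
    _root_.IsoNat.IsClean η.1 ↔ _root_.IsoNat.IsClean η'.1 :=
  ⟨isClean_of_cls φ h𝒳 h𝒴 hi' η η' hη,
    isClean_of_cls (Pts.symm φ h𝒳.isStack.1 h𝒴.isStack.1) h𝒴 h𝒳 hi η' η
      ((φ.toEquiv T).symm_apply_eq.2 hη.symm)⟩

end Groth.Agent.H14.IsoNat.Clean
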