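import Groth.Agent.H14.Chart.Points

/-!
Points of the space representing the 2-fibre product of two charts are triples.
-/

set_option autoImplicit false
set_option backward.isDefEq.respectTransparency false
set_option backward.isDefEq.respectTransparency.types false

universe u

open CategoryTheory CategoryTheory.Limits AlgebraicGeometry Opposite

namespace Groth.Agent.H14.IsoNat.Dict

open Groth.Agent.Lib.AlgStack
open FibCat (IsEquivOver fp fpFst fpSnd overCat IsFibGrpd)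
open AlgSt (ofSp spMapOfOver)
open AlgSp (Sp yon)

variable {S : Scheme.{u}} {𝒴 𝒲 : AlgSt.Cat S} {U V : Over S}

section General

variable {v : overCat V ⥤ᵇ 𝒴} {f : 𝒲 ⥤ᵇ 𝒴} {G : Sp S} {e : ofSp G ⥤ᵇ fp v f}

/-- The object of a map from a scheme. -/
noncomputable def objOf {T : Over S} (g : (yon S).obj T ⟶ G) : (ofSp G).obj :=
  ⟨T, Lib.AlgSpace.secEquiv T g⟩

/-- A map from a scheme to the space corresponds to an object over it. -/
def ObjRel (e : ofSp G ⥤ᵇ fp v f) {T : Over S} (g : (yon S).obj T ⟶ G) (o : (fp v f).obj) : Prop :=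
  ∃ m : e.obj (objOf g) ⟶ o, (fp v f).p.IsHomLift (𝟙 T) m

theorem p_obj_objOf {T : Over S} (g : (yon S).obj T ⟶ G) : (fp v f).p.obj (e.obj (objOf g)) = T :=
  e.w_obj (objOf g)

theorem isFibGrpd (h : IsFibGrpd 𝒴.p) (h' : IsFibGrpd 𝒲.p) : IsFibGrpd (fp v f).p :=
  Lib.Fibred.Fp.isFibGrpd (F := v) (G := f) (Yoneda.isFibGrpd_overCat V) h' h

theorem objOf_comp {T' T : Over S} (k : T' ⟶ T) (g : (yon S).obj T ⟶ G) :
    (objOf ((yon S).map k ≫ g)).sec = G.obj.map k.op (objOf g).sec :=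
  Lib.AlgSpace.secEquiv_map k g

theorem exists_map_obj (he : IsEquivOver e) {T : Over S} {o : (fp v f).obj}
    (ho : (fp v f).p.obj o = T) : ∃ g : (yon S).obj T ⟶ G, ObjRel e g o := by
  obtain ⟨a, i, hi⟩ := BasedBasic.IsEquivOver.exists_iso he o
  obtain ⟨A, sec⟩ := a
  rw [ho] at hi
  obtain rfl : A = T := (e.w_obj ⟨A, sec⟩).symm.trans (IsHomLift.domain_eq (fp v f).p (𝟙 T) i.hom)
  obtain ⟨g, hg⟩ : ∃ g : (yon S).obj A ⟶ G, (objOf g).sec = sec :=
    ⟨(Lib.AlgSpace.secEquiv A).symm sec, (Lib.AlgSpace.secEquiv A).apply_symm_apply sec⟩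
  have : objOf g = ⟨A, sec⟩ := by rw [← hg]; rfl
  refine ⟨g, ?_⟩
  unfold ObjRel
  rw [this]
  exact ⟨i.hom, hi⟩

theorem map_unique_obj (h : IsFibGrpd 𝒴.p) (h' : IsFibGrpd 𝒲.p) (he : IsEquivOver e) {T : Over S}
    {g g' : (yon S).obj T ⟶ G} {o : (fp v f).obj} (hg : ObjRel e g o) (hg' : ObjRel e g' o) :
    g = g' := by
  obtain ⟨m, hm⟩ := hg
  obtain ⟨m', hm'⟩ := hg'
  have := BasedBasic.isIso_of_isHomLift_id (isFibGrpd h h') (R := T) m'
  have := BasedBasic.IsEquivOver.full he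
  obtain ⟨μ, hμ⟩ := e.toFunctor.map_surjective (m ≫ inv m')
  have h1 : (fp v f).p.IsHomLift (𝟙 T) (e.map μ) := by rw [hμ]; infer_instance
  have h2 : (ofSp G).p.IsHomLift (𝟙 T) μ := BasedFunctor.isHomLift_map e (𝟙 T) μ
  have := OfPsh.sec_eq_of_lift_id (a := objOf g) (b := objOf g') (U := T) μ
  refine (Lib.AlgSpace.secEquiv T).injective ?_
  have h3 := this h2 rfl rfl
  simp only [eqToHom_refl, op_id] at h3
  erw [CategoryTheory.Functor.map_id_apply, CategoryTheory.Functor.map_id_apply] at h3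
  exact h3

theorem objRel_comp (h : IsFibGrpd 𝒴.p) (h' : IsFibGrpd 𝒲.p) {T' T : Over S} {k : T' ⟶ T}
    {g : (yon S).obj T ⟶ G} {o o' : (fp v f).obj} (hg : ObjRel e g o) (n : o' ⟶ o)
    [(fp v f).p.IsHomLift k n] : ObjRel e ((yon S).map k ≫ g) o' := by
  obtain ⟨m, hm⟩ := hg
  let μ : objOf ((yon S).map k ≫ g) ⟶ objOf g := ⟨k, (objOf_comp k g).symm⟩
  have hμ : (ofSp G).p.IsHomLift k μ := IsHomLift.map (ofSp G).p μ
  have h0 : (fp v f).p.IsHomLift k (e.map μ) := BasedFunctor.preserves_isHomLift e k μ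
  have h1 : (fp v f).p.IsHomLift k (e.map μ ≫ m) :=
    IsHomLift.comp_lift_id_right' (fp v f).p k (e.map μ) T m
  have := Yoneda.stronglyCartesian (isFibGrpd h h') k n
  exact ⟨Functor.IsStronglyCartesian.map (fp v f).p k n (g := 𝟙 T') (Category.id_comp k).symm
    (e.map μ ≫ m), Functor.IsStronglyCartesian.map_isHomLift _ _ _ _ _⟩

theorem comp_fst_obj {T : Over S} {g : (yon S).obj T ⟶ G} {o : (fp v f).obj} (hg : ObjRel e g o)
    {s : T ⟶ V} (hT : (fp v f).p.obj o = T) (hs : o.obj.fst.hom = eqToHom hT ≫ s) :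
    g ≫ spMapOfOver (BasedFunctor.comp e (fpFst v f)) = (yon S).map s := by
  obtain ⟨m, hm⟩ := hg
  refine (Lib.AlgSpace.secEquiv T).injective (ULift.ext _ _ ?_)
  change AlgSt.secHom (BasedFunctor.comp e (fpFst v f)) (objOf g) = 𝟙 T ≫ s
  have h1 : (fp v f).p.map m = eqToHom (p_obj_objOf g) ≫ eqToHom hT.symm := by
    have := IsHomLift.fac' (fp v f).p (𝟙 T) m
    simpa using this
  have h2 := Over.w m.hom.fst
  rw [show m.hom.fst.left = eqToHom (p_obj_objOf g) ≫ eqToHom hT.symm from h1, hs] at h2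
  rw [Category.id_comp, AlgSt.secHom]
  change eqToHom _ ≫ (e.obj (objOf g)).obj.fst.hom = s
  rw [← h2]
  simp

end General

variable (v : overCat V ⥤ᵇ 𝒴) (y : overCat U ⥤ᵇ 𝒴)

/-- A point of the 2-fibre product over a scheme. -/
structure Tri (T : Over S) where
  s : T ⟶ V
  r : T ⟶ U
  θ : v.obj (Over.mk s) ⟶ y.obj (Over.mk r)
  lift : 𝒴.p.IsHomLift (𝟙 T) θ

variable {v y}

theorem Tri.isIso (h : IsFibGrpd 𝒴.p) {T : Over S} (t : Tri v y T) : IsIso t.θ :=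
  haveI := t.lift; BasedBasic.isIso_of_isHomLift_id h (R := T) t.θ

/-- The object of the 2-fibre product of a triple. -/
noncomputable def Tri.toObj (h : IsFibGrpd 𝒴.p) {T : Over S} (t : Tri v y T) : (fp v y).obj :=
  Lib.Fibred.Fp.mkObj (Over.mk t.s) (Over.mk t.r) (haveI := t.isIso h; asIso t.θ) t.lift

/-- The second triple is the pullback of the first. -/
structure IsPull {T' T : Over S} (k : T' ⟶ T) (t : Tri v y T) (t' : Tri v y T') : Prop where
  s : t'.s = k ≫ t.s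
  r : t'.r = k ≫ t.r
  θ : v.map (Over.homMk k s.symm : Over.mk t'.s ⟶ Over.mk t.s) ≫ t.θ =
    t'.θ ≫ y.map (Over.homMk k r.symm : Over.mk t'.r ⟶ Over.mk t.r)

variable {G : Sp S} {e : ofSp G ⥤ᵇ fp v y}

/-- A map from a scheme to the space corresponds to a triple. -/
def Rel (e : ofSp G ⥤ᵇ fp v y) (h : IsFibGrpd 𝒴.p) {T : Over S} (g : (yon S).obj T ⟶ G)
    (t : Tri v y T) : Prop :=
  ObjRel e g (t.toObj h)

theorem exists_tri (h : IsFibGrpd 𝒴.p) {T : Over S} (g : (yon S).obj T ⟶ G) :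
    ∃ t : Tri v y T, Rel e h g t := by
  have key : ∀ o : (fp v y).obj, (fp v y).p.obj o = T →
      ∃ (t : Tri v y T) (m : o ⟶ t.toObj h), (fp v y).p.IsHomLift (𝟙 T) m := by
    rintro ⟨⟨⟨Ta, ⟨⟨⟩⟩, sa⟩, ⟨Tb, ⟨⟨⟩⟩, sb⟩, i⟩, hi⟩ hT
    obtain rfl : Ta = T := hT
    have hi' : 𝒴.p.IsHomLift (𝟙 Ta) i.hom := hi
    have h1 : Tb = Ta :=
      (y.w_obj _).symm.trans (IsHomLift.codomain_eq 𝒴.p (𝟙 Ta) i.hom)
    subst h1
    let t : Tri v y Tb := ⟨sa, sb, i.hom, hi'⟩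
    let o : (fp v y).obj := ⟨⟨Over.mk sa, Over.mk sb, i⟩, hi⟩
    let J : o ≅ t.toObj h := Lib.Fibred.Fp.isoMk (z := o) (w := t.toObj h)
      (Iso.refl (Over.mk sa)) (Iso.refl (Over.mk sb)) ?_
    · refine ⟨t, J.hom, (Lib.Fibred.Fp.isHomLift_iff J.hom (𝟙 Tb)).2 ?_⟩
      exact IsHomLift.id (p := (overCat V).p) (a := Over.mk sa) rfl
    change v.map (𝟙 _) ≫ i.hom = i.hom ≫ y.map (𝟙 _)
    rw [v.toFunctor.map_id, y.toFunctor.map_id]
    exact (Category.id_comp _).trans (Category.comp_id _).symm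
  obtain ⟨t, m, hm⟩ := key _ (p_obj_objOf g)
  exact ⟨t, m, hm⟩

theorem exists_map (h : IsFibGrpd 𝒴.p) (he : IsEquivOver e) {T : Over S} (t : Tri v y T) :
    ∃ g : (yon S).obj T ⟶ G, Rel e h g t :=
  exists_map_obj he (o := t.toObj h) rfl

theorem map_unique (h : IsFibGrpd 𝒴.p) (he : IsEquivOver e) {T : Over S} {g g' : (yon S).obj T ⟶ G}
    {t : Tri v y T} (hg : Rel e h g t) (hg' : Rel e h g' t) : g = g' :=
  map_unique_obj h (Yoneda.isFibGrpd_overCat U) he hg hg'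

theorem tri_unique (h : IsFibGrpd 𝒴.p) {T : Over S} {g : (yon S).obj T ⟶ G}
    {t t' : Tri v y T} (hg : Rel e h g t) (hg' : Rel e h g t') : t = t' := by
  obtain ⟨m, hm⟩ := hg
  obtain ⟨m', hm'⟩ := hg'
  have hP := Lib.Fibred.Fp.isFibGrpd (F := v) (G := y)
    (Yoneda.isFibGrpd_overCat V) (Yoneda.isFibGrpd_overCat U) h
  have := BasedBasic.isIso_of_isHomLift_id hP (R := T) m
  let n := inv m ≫ m'
  have hn : (fp v y).p.IsHomLift (𝟙 T) n := inferInstance
  have h1 : n.hom.fst.left = 𝟙 T := by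
    refine (IsHomLift.fac' (fp v y).p (𝟙 T) n).trans ?_
    simp
    rfl
  have h2' : (overCat U).p.IsHomLift (𝟙 T) n.hom.snd := Lib.Fibred.Fp.isHomLift_snd n (𝟙 T)
  have h2 : n.hom.snd.left = 𝟙 T := by
    refine (IsHomLift.fac' (overCat U).p (𝟙 T) n.hom.snd).trans ?_
    simp
    rfl
  obtain ⟨s, r, θ, hθ⟩ := t
  obtain ⟨s', r', θ', hθ'⟩ := t'
  obtain rfl : s' = s := by
    have := Over.w n.hom.fst
    rw [h1] at this
    exact (Category.id_comp _).symm.trans this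
  obtain rfl : r' = r := by
    have := Over.w n.hom.snd
    rw [h2] at this
    exact (Category.id_comp _).symm.trans this
  obtain rfl : θ' = θ := by
    have w := Lib.Fibred.Fp.w n
    rw [show n.hom.fst = 𝟙 _ from Over.OverMorphism.ext h1,
      show n.hom.snd = 𝟙 _ from Over.OverMorphism.ext h2, v.toFunctor.map_id, y.toFunctor.map_id] at w
    exact (Category.id_comp _).symm.trans (w.trans (Category.comp_id _))
  rfl

theorem rel_comp (h : IsFibGrpd 𝒴.p) {T' T : Over S} {k : T' ⟶ T} {g : (yon S).obj T ⟶ G}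
    {t : Tri v y T} {t' : Tri v y T'} (hg : Rel e h g t) (hk : IsPull k t t') :
    Rel e h ((yon S).map k ≫ g) t' := by
  let n : t'.toObj h ⟶ t.toObj h :=
    Lib.Fibred.Fp.mkHom (Over.homMk k hk.s.symm) (Over.homMk k hk.r.symm) hk.θ
  have hn : (fp v y).p.IsHomLift k n := (Lib.Fibred.Fp.isHomLift_iff _ _).2
    (IsHomLift.map (overCat V).p (Over.homMk k hk.s.symm : Over.mk t'.s ⟶ Over.mk t.s))
  exact objRel_comp h (Yoneda.isFibGrpd_overCat U) hg n

theorem comp_fst (h : IsFibGrpd 𝒴.p) {T : Over S} {g : (yon S).obj T ⟶ G} {t : Tri v y T}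
    (hg : Rel e h g t) :
    g ≫ spMapOfOver (BasedFunctor.comp e (fpFst v y)) = (yon S).map t.s :=
  comp_fst_obj hg (s := t.s) rfl (Category.id_comp _).symm

theorem exists_pull (h : IsFibGrpd 𝒴.p) {T' T : Over S} (k : T' ⟶ T) (t : Tri v y T) :
    ∃ t' : Tri v y T', IsPull k t t' := by
  let mv : Over.mk (k ≫ t.s) ⟶ Over.mk t.s := Over.homMk k rfl
  let my : Over.mk (k ≫ t.r) ⟶ Over.mk t.r := Over.homMk k rfl
  have h1 : 𝒴.p.IsHomLift k (v.map mv) := Yoneda.map_isHomLift v mv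
  have h2 : 𝒴.p.IsHomLift k (y.map my) := Yoneda.map_isHomLift y my
  have := t.lift
  have h3 : 𝒴.p.IsHomLift k (v.map mv ≫ t.θ) := IsHomLift.comp_lift_id_right' 𝒴.p k _ T t.θ
  have := Yoneda.stronglyCartesian h k (y.map my)
  exact ⟨⟨k ≫ t.s, k ≫ t.r, Functor.IsStronglyCartesian.map 𝒴.p k (y.map my) (g := 𝟙 T')
    (Category.id_comp k).symm (v.map mv ≫ t.θ), Functor.IsStronglyCartesian.map_isHomLift _ _ _ _ _⟩,
    ⟨rfl, rfl, (Functor.IsStronglyCartesian.fac 𝒴.p k (y.map my) (g := 𝟙 T') (Category.id_comp k).symm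
      (v.map mv ≫ t.θ)).symm⟩⟩

end Groth.Agent.H14.IsoNat.Dict
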