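import Groth.Agent.H14.IsoNat.Points
import Groth.Agent.H14.IsoNat.Dict

/-!
Charts which correspond under an isomorphism of presheaves of isomorphism classes.
-/

set_option autoImplicit false
set_option backward.isDefEq.respectTransparency false
set_option backward.isDefEq.respectTransparency.types false

universe u

open CategoryTheory CategoryTheory.Limits AlgebraicGeometry

namespace Groth.Agent.H14.IsoNat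

open Groth.Agent.Lib.AlgStack
open FibCat (IsFibGrpd overCat)
open AlgSt (overMap)

variable {S : Scheme.{u}} {𝒳 𝒴 : AlgSt.Cat S}

/-- Two charts correspond. -/
def Corr (φ : _root_.IsoNat.FIso 𝒳 𝒴) {U : Over S} (x : overCat U ⥤ᵇ 𝒳) (y : overCat U ⥤ᵇ 𝒴) : Prop :=
  φ.toEquiv U (_root_.IsoNat.objCls x) = _root_.IsoNat.objCls y

theorem cls_eq_of_vertical (h : IsFibGrpd 𝒳.p) {T : Over S} {a b : 𝒳.p.Fiber T} (θ : a.1 ⟶ b.1)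
    [hθ : 𝒳.p.IsHomLift (𝟙 T) θ] : _root_.IsoNat.cls a = _root_.IsoNat.cls b :=
  Cls.cls_eq_of_homLift h hθ (a₂ := 𝟙 b.1) (IsHomLift.id b.2)

theorem iso_of_objCls (h : IsFibGrpd 𝒳.p) {U : Over S} {x x' : overCat U ⥤ᵇ 𝒳}
    (e : _root_.IsoNat.objCls x = _root_.IsoNat.objCls x') : Nonempty (x ≅ x') := by
  obtain ⟨i⟩ := Cls.cls_eq_iff.1 e
  have := i.hom.2
  obtain ⟨ε, -⟩ := Yoneda.exists_iso_of_id h x x' i.hom.1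
  exact ⟨ε⟩

theorem objCls_eq_of_iso (h : IsFibGrpd 𝒳.p) {U : Over S} {x x' : overCat U ⥤ᵇ 𝒳} (ε : x ≅ x') :
    _root_.IsoNat.objCls x = _root_.IsoNat.objCls x' :=
  cls_eq_of_vertical h
    (a := ⟨x.obj (Over.mk (𝟙 U)), x.w_obj (Over.mk (𝟙 U))⟩)
    (b := ⟨x'.obj (Over.mk (𝟙 U)), x'.w_obj (Over.mk (𝟙 U))⟩)
    (BasedBasic.appIso ε (Over.mk (𝟙 U))).hom
    (hθ := by
      have := BasedBasic.appIso_isHomLift ε (Over.mk (𝟙 U))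
      exact this)

namespace Corr

variable {φ : _root_.IsoNat.FIso 𝒳 𝒴} {U : Over S} {x : overCat U ⥤ᵇ 𝒳} {y : overCat U ⥤ᵇ 𝒴}

theorem exists_image (h𝒴 : IsFibGrpd 𝒴.p) (x : overCat U ⥤ᵇ 𝒳) : ∃ y : overCat U ⥤ᵇ 𝒴, Corr φ x y := by
  obtain ⟨Y, hY⟩ := Cls.exists_cls (φ.toEquiv U (_root_.IsoNat.objCls x))
  obtain ⟨e, he⟩ := Yoneda.exists_fromObj_iso h𝒴 Y.2
  refine ⟨Yoneda.fromObj h𝒴 Y.2, hY.symm.trans ?_⟩
  exact (cls_eq_of_vertical h𝒴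
    (a := ⟨_, (Yoneda.fromObj h𝒴 Y.2).w_obj (Over.mk (𝟙 U))⟩) (b := Y) e.hom (hθ := he)).symm

theorem symm (hc : Corr φ x y) (h𝒳 : IsFibGrpd 𝒳.p) (h𝒴 : IsFibGrpd 𝒴.p) :
    Corr (Pts.symm φ h𝒳 h𝒴) y x :=
  (φ.toEquiv U).symm_apply_eq.2 (Eq.symm (show φ.toEquiv U _ = _ from hc))

theorem exists_preimage (h𝒳 : IsFibGrpd 𝒳.p) (y : overCat U ⥤ᵇ 𝒴) :
    ∃ x : overCat U ⥤ᵇ 𝒳, Corr φ x y := by
  obtain ⟨X, hX⟩ := Cls.exists_cls ((φ.toEquiv U).symm (_root_.IsoNat.objCls y))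
  obtain ⟨e, he⟩ := Yoneda.exists_fromObj_iso h𝒳 X.2
  refine ⟨Yoneda.fromObj h𝒳 X.2, ?_⟩
  unfold Corr
  rw [← Equiv.eq_symm_apply, ← hX]
  exact cls_eq_of_vertical h𝒳 (a := ⟨_, (Yoneda.fromObj h𝒳 X.2).w_obj (Over.mk (𝟙 U))⟩) (b := X)
    e.hom (hθ := he)

theorem cls_obj (hc : Corr φ x y) (h𝒴 : IsFibGrpd 𝒴.p) (g : Over U) :
    φ.toEquiv g.left (_root_.IsoNat.cls ⟨x.obj g, x.w_obj g⟩) =
      _root_.IsoNat.cls ⟨y.obj g, y.w_obj g⟩ := by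
  obtain ⟨Y, hY⟩ := Cls.exists_cls (φ.toEquiv g.left (_root_.IsoNat.cls ⟨x.obj g, x.w_obj g⟩))
  obtain ⟨b, hb⟩ := Cls.exists_hom φ (x' := ⟨x.obj g, x.w_obj g⟩)
    (x := ⟨x.obj (Over.mk (𝟙 U)), x.w_obj _⟩) (Yoneda.map_toId_isHomLift x g) hY.symm hc
  exact hY.symm.trans (Cls.cls_eq_of_homLift h𝒴 hb (Yoneda.map_toId_isHomLift y g))

theorem comp_overMap (hc : Corr φ x y) (h𝒴 : IsFibGrpd 𝒴.p) {W : Over S} (k : W ⟶ U) :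
    Corr φ (BasedFunctor.comp (overMap k) x) (BasedFunctor.comp (overMap k) y) :=
  hc.cls_obj h𝒴 ((Over.map k).obj (Over.mk (𝟙 W)))

theorem pts_ofChart (hc : Corr φ x y) (h𝒴 : IsFibGrpd 𝒴.p) (t : ↥U.left) :
    Pts.pts φ (AlgSt.Points.ofChart x t) = AlgSt.Points.ofChart y t := by
  let g : Over U := Over.mk (Over.homMk (U.left.fromSpecResidueField t) rfl :
    Over.mk (U.left.fromSpecResidueField t ≫ U.hom) ⟶ U)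
  let p : AlgSt.FPt 𝒳 := ⟨↥(U.left.residueField t), _, x.obj g, x.w_obj g⟩
  exact Pts.mk_eq_of_cls (x := Pts.objPt φ p) (y := ⟨y.obj g, y.w_obj g⟩)
    ((Pts.cls_objPt φ p).trans (hc.cls_obj h𝒴 g))

theorem surjective_ofChart (hc : Corr φ x y) (h𝒳 : IsFibGrpd 𝒳.p) (h𝒴 : IsFibGrpd 𝒴.p)
    (hx : Function.Surjective (AlgSt.Points.ofChart x)) :
    Function.Surjective (AlgSt.Points.ofChart y) := fun p => by
  obtain ⟨c, rfl⟩ := Pts.surjective_pts φ h𝒳 h𝒴 p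
  obtain ⟨t, rfl⟩ := hx c
  exact ⟨t, (hc.pts_ofChart h𝒴 t).symm⟩

variable {V : Over S} {w : overCat V ⥤ᵇ 𝒳} {v : overCat V ⥤ᵇ 𝒴}

theorem exists_tri (hw : Corr φ w v) (hc : Corr φ x y) (h𝒳 : IsFibGrpd 𝒳.p) (h𝒴 : IsFibGrpd 𝒴.p)
    {T : Over S} (t : Dict.Tri w x T) : ∃ t' : Dict.Tri v y T, t'.s = t.s ∧ t'.r = t.r := by
  have := t.lift
  have h1 : φ.toEquiv T (_root_.IsoNat.cls ⟨w.obj (Over.mk t.s), w.w_obj _⟩) =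
      φ.toEquiv T (_root_.IsoNat.cls ⟨x.obj (Over.mk t.r), x.w_obj _⟩) :=
    congrArg _ (cls_eq_of_vertical (T := T) h𝒳 (a := ⟨w.obj (Over.mk t.s), w.w_obj _⟩)
      (b := ⟨x.obj (Over.mk t.r), x.w_obj _⟩) t.θ)
  have h2 := ((hw.cls_obj h𝒴 (Over.mk t.s)).symm.trans h1).trans (hc.cls_obj h𝒴 (Over.mk t.r))
  obtain ⟨i⟩ := Cls.cls_eq_iff.1 h2
  exact ⟨⟨t.s, t.r, i.hom.1, i.hom.2⟩, rfl, rfl⟩

theorem exists_tri_symm (hw : Corr φ w v) (hc : Corr φ x y) (h𝒳 : IsFibGrpd 𝒳.p)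
    (h𝒴 : IsFibGrpd 𝒴.p) {T : Over S} (t : Dict.Tri v y T) :
    ∃ t' : Dict.Tri w x T, t'.s = t.s ∧ t'.r = t.r :=
  exists_tri (hw.symm h𝒳 h𝒴) (hc.symm h𝒳 h𝒴) h𝒴 h𝒳 t

end Corr

end Groth.Agent.H14.IsoNat
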