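import Groth.Agent.H14.IsoNat.Clean
import Groth.Agent.H14.IsoNat.Corr
import Groth.Agent.Lib.AlgSpace.Local

/-!
All objects are clean exactly when isomorphism classes satisfy fppf separation.
-/

set_option autoImplicit false
set_option backward.isDefEq.respectTransparency false
set_option backward.isDefEq.respectTransparency.types false
set_option maxHeartbeats 800000

universe u

open CategoryTheory CategoryTheory.Limits AlgebraicGeometry Groth.Agent.Lib.Fibred.Descent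

namespace Groth.Agent.H14.IsoNat.CleanDescent

open Groth.Agent.Lib.Fibred.StackLemmas (isIso_of_vertical)
open FibCat (IsFibGrpd toSelf inertiaToBase)
open AlgSt (RepByAlgSpWith IsAlgStack)

variable {S : Scheme.{u}} {𝒳 : AlgSt.Cat S}

/-- Two morphisms over the same map out of a clean object are equal. -/
theorem eq_of_clean (h : IsFibGrpd 𝒳.p) {V W : Over S} {f : V ⟶ W} {z x : 𝒳.obj}
    (hc : _root_.IsoNat.IsClean z) (a b : z ⟶ x) (ha : 𝒳.p.IsHomLift f a)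
    (hb : 𝒳.p.IsHomLift f b) : a = b := by
  obtain ⟨θ, hθ, rfl⟩ := exists_factor h a ha b hb
  have hz : 𝒳.p.obj z = V := IsHomLift.domain_eq 𝒳.p f a
  rw [hc z (𝟙 z) θ ((IsHomLift.fac' 𝒳.p (𝟙 V) θ).trans (by simp)), Category.id_comp]

theorem iso_of_iso_pullback (h : IsAlgStack Scheme.fppfPrecoverage 𝒳)
    (hc : ∀ η : 𝒳.obj, _root_.IsoNat.IsClean η) {T T' : Over S} (π : T' ⟶ T) [Flat π.left]
    [Surjective π.left] [LocallyOfFinitePresentation π.left]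
    (x₁ x₂ : 𝒳.p.Fiber T) (x₁' x₂' : 𝒳.p.Fiber T') (a₁ : x₁'.1 ⟶ x₁.1) (a₂ : x₂'.1 ⟶ x₂.1)
    (ha₁ : 𝒳.p.IsHomLift π a₁) (ha₂ : 𝒳.p.IsHomLift π a₂) (i : x₁' ≅ x₂') :
    Nonempty (x₁ ≅ x₂) := by
  have hR := Lib.AlgSpace.ofArrows_mem_J (fun _ : PUnit.{u + 1} => T') (fun _ => π)
    (fun _ => inferInstance) (fun _ => inferInstance)
    (fun y => ⟨⟨⟩, (π.left.surjective y).choose, (π.left.surjective y).choose_spec⟩)
  have hs := Detect.stackFor h hR
  have key : ∀ ⦃V : Over S⦄ (f : V ⟶ T), (Sieve.ofArrows (fun _ : PUnit.{u + 1} => T') fun _ => π) f →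
      ∀ ⦃z : 𝒳.obj⦄ (ψ : z ⟶ x₁.1), 𝒳.p.IsHomLift f ψ → ∃ r : z ⟶ x₂.1, 𝒳.p.IsHomLift f r := by
    intro V f hf z ψ hψ
    rw [Sieve.mem_ofArrows_iff] at hf
    obtain ⟨-, v, rfl⟩ := hf
    have := cart h.isStack.1 a₁ ha₁
    let θ := Functor.IsStronglyCartesian.map 𝒳.p π a₁ (g := v) rfl ψ
    have hθ : 𝒳.p.IsHomLift v θ := Functor.IsStronglyCartesian.map_isHomLift _ _ _ _ _
    have := i.hom.2
    exact ⟨θ ≫ i.hom.1 ≫ a₂, inferInstance⟩
  choose r hr using key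
  obtain ⟨t, ht, -⟩ := hs.2.1 x₁.2 x₂.2 (fun V f hf z ψ hψ => r f hf ψ hψ)
    ⟨fun V f hf z ψ hψ => hr f hf ψ hψ, fun V f hf z ψ hψ V' g z' ρ hρ hρψ => by
      have := hr f hf ψ hψ
      exact eq_of_clean h.isStack.1 (hc z') (f := g ≫ f) _ _ (hr _ _ _ hρψ) inferInstance⟩
  exact Cls.cls_eq_iff.1 (cls_eq_of_vertical h.isStack.1 t)

theorem clean_of_separated (h : IsAlgStack Scheme.fppfPrecoverage 𝒳)
    (hi : RepByAlgSpWith AlgSp.IsSeparatedMor (inertiaToBase (toSelf 𝒳)))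
    (H : ∀ (T T' : Over S) (π : T' ⟶ T) [Flat π.left] [Surjective π.left] [LocallyOfFinitePresentation π.left]
        (x₁ x₂ : 𝒳.p.Fiber T) (x₁' x₂' : 𝒳.p.Fiber T') (a₁ : x₁'.1 ⟶ x₁.1) (a₂ : x₂'.1 ⟶ x₂.1),
        𝒳.p.IsHomLift π a₁ → 𝒳.p.IsHomLift π a₂ → Nonempty (x₁' ≅ x₂') → Nonempty (x₁ ≅ x₂))
    (η : 𝒳.obj) : _root_.IsoNat.IsClean η := by
  intro x a s hs
  refine Clean.eq_id_of_affine h (x := x) rfl s (hs ▸ IsHomLift.map 𝒳.p s) fun R _ str f z ψ k hψ hk _ => ?_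
  have hG := h.isStack.1
  have hz : 𝒳.p.obj z = Over.mk str := IsHomLift.domain_eq 𝒳.p f ψ
  obtain ⟨ξu, P, hP⟩ := exists_lift hG hz (Cross.π R str)
  have hξu : 𝒳.p.obj ξu = Cross.U R str := IsHomLift.domain_eq 𝒳.p (Cross.π R str) P
  obtain ⟨X, ia, ib, hia, hib, hcov, hpb⟩ :=
    Double.exists_double (Cross.U R str) (Cross.O₁ R str ⊔ Cross.O₂ R str)
  refine Detect.eq_id_of_unique R str h hi P hP ia ib hia hib hcov hpb
    (fun ξ ξ' φa φb ψa ψb hξ hξ' hφa hφb hψa hψb => ?_) k hk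
  let A := Cross.U R str
  let T' : Over S := Over.mk (coprod.desc A.hom A.hom)
  let ja : A ⟶ T' := Over.homMk coprod.inl (coprod.inl_desc _ _)
  let jb : A ⟶ T' := Over.homMk coprod.inr (coprod.inr_desc _ _)
  let π : T' ⟶ X := Over.homMk (coprod.desc ia.left ib.left) (by
    change coprod.desc ia.left ib.left ≫ X.hom = coprod.desc A.hom A.hom
    refine coprod.hom_ext ?_ ?_
    · rw [coprod.inl_desc_assoc, coprod.inl_desc]; exact Over.w ia
    · rw [coprod.inr_desc_assoc, coprod.inr_desc]; exact Over.w ib)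
  have hja : ja ≫ π = ia := by ext1; exact coprod.inl_desc _ _
  have hjb : jb ≫ π = ib := by ext1; exact coprod.inr_desc _ _
  have hcompl := isCompl_range_inl_inr A.left A.left
  have hcl : ∀ P : MorphismProperty Scheme.{u}, IsZariskiLocalAtSource P →
      (∀ {Y Z : Scheme.{u}} (m : Y ⟶ Z) [IsOpenImmersion m], P m) → P π.left := fun P _ hP => by
    refine IsZariskiLocalAtSource.of_openCover (coprodOpenCover.{u, u} A.left A.left) fun b => ?_
    match b with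
    | .inl _ => simpa [π, coprodOpenCover] using hP ia.left
    | .inr _ => simpa [π, coprodOpenCover] using hP ib.left
  have : Flat π.left := hcl @Flat inferInstance fun m _ => inferInstance
  have : LocallyOfFinitePresentation π.left :=
    hcl @LocallyOfFinitePresentation inferInstance fun m _ => inferInstance
  have : Surjective π.left := ⟨fun y => by
    rcases hcov y with ⟨p, hp⟩ | ⟨p, hp⟩
    · exact ⟨ja.left p, by rw [← Scheme.Hom.comp_apply, ← Over.comp_left, hja]; exact hp⟩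
    · exact ⟨jb.left p, by rw [← Scheme.Hom.comp_apply, ← Over.comp_left, hjb]; exact hp⟩⟩
  let D : Over S := Over.mk ((⊥ : A.left.Opens).ι ≫ A.hom)
  let d : D ⟶ A := Over.homMk (⊥ : A.left.Opens).ι
  have : IsEmpty ↥D.left := ⟨fun x => x.2⟩
  have hw : d ≫ ja = d ≫ jb := by
    ext1
    exact Scheme.hom_ext_of_forall _ _ fun x => isEmptyElim x
  let c : Glue2.Cov T' := ⟨A, A, D, ja, jb, d, d,
    (Over.forget S).mono_of_mono_map (inferInstanceAs (Mono (coprod.inl : A.left ⟶ A.left ⨿ A.left))),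
    (Over.forget S).mono_of_mono_map (inferInstanceAs (Mono (coprod.inr : A.left ⟶ A.left ⨿ A.left))),
    IsPullback.of_map (Over.forget S) hw (by
      refine IsOpenImmersion.isPullback (⊥ : A.left.Opens).ι (⊥ : A.left.Opens).ι
        (coprod.inl : A.left ⟶ A.left ⨿ A.left) coprod.inr
        (congrArg (fun m : D ⟶ T' => m.left) hw.symm) ?_
      ext y
      change jb.left y ∈ Set.range ja.left ↔ y ∈ Set.range (⊥ : A.left.Opens).ι
      refine ⟨fun hy => ?_, fun ⟨x, _⟩ => (IsEmpty.false (α := ↥D.left) x).elim⟩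
      exact (Set.disjoint_left.1 hcompl.disjoint hy ⟨y, rfl⟩).elim)⟩
  have hmem := Double.sieve_mem c (inferInstanceAs (IsOpenImmersion (coprod.inl : A.left ⟶ A.left ⨿ A.left)))
    (inferInstanceAs (IsOpenImmersion (coprod.inr : A.left ⟶ A.left ⨿ A.left))) fun y =>
    (Set.eq_univ_iff_forall.1 hcompl.sup_eq_top y)
  obtain ⟨x₁', a₁, ha₁⟩ := exists_lift hG hξ π
  obtain ⟨x₂', a₂, ha₂⟩ := exists_lift hG hξ' π
  have h1 : 𝒳.p.obj x₁' = T' := IsHomLift.domain_eq 𝒳.p π a₁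
  have h2 : 𝒳.p.obj x₂' = T' := IsHomLift.domain_eq 𝒳.p π a₂
  have := cart hG a₁ ha₁
  have := cart hG a₂ ha₂
  let m₁ := Functor.IsStronglyCartesian.map 𝒳.p π a₁ (g := ja) hja.symm φa
  let n₁ := Functor.IsStronglyCartesian.map 𝒳.p π a₁ (g := jb) hjb.symm φb
  let m₂ := Functor.IsStronglyCartesian.map 𝒳.p π a₂ (g := ja) hja.symm ψa
  let n₂ := Functor.IsStronglyCartesian.map 𝒳.p π a₂ (g := jb) hjb.symm ψb
  have hm₁ : 𝒳.p.IsHomLift ja m₁ := Functor.IsStronglyCartesian.map_isHomLift _ _ _ _ _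
  have hn₁ : 𝒳.p.IsHomLift jb n₁ := Functor.IsStronglyCartesian.map_isHomLift _ _ _ _ _
  have hm₂ : 𝒳.p.IsHomLift ja m₂ := Functor.IsStronglyCartesian.map_isHomLift _ _ _ _ _
  have hn₂ : 𝒳.p.IsHomLift jb n₂ := Functor.IsStronglyCartesian.map_isHomLift _ _ _ _ _
  obtain ⟨ξd, pd, hpd⟩ := exists_lift hG hξu d
  obtain ⟨t, ht, -, -⟩ := Glue2.exists_desc (c := c) hG (Detect.stackFor h hmem).2.1 h1 h2
    (pa := pd) (pb := pd) hpd m₁ n₁ hm₁ hn₁
    (Detect.eq_of_isEmpty h (f := d ≫ ja) _ _ inferInstance (by rw [hw]; infer_instance))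
    m₂ n₂ hm₂ hn₂
    (Detect.eq_of_isEmpty h (f := d ≫ ja) _ _ inferInstance (by rw [hw]; infer_instance)) hpd
  obtain ⟨i⟩ := H X T' π ⟨ξ, hξ⟩ ⟨ξ', hξ'⟩ ⟨x₁', h1⟩ ⟨x₂', h2⟩ a₁ a₂ ha₁ ha₂
    (Cls.cls_eq_iff.1 (cls_eq_of_vertical hG (a := ⟨x₁', h1⟩) (b := ⟨x₂', h2⟩) t (hθ := ht)))
  exact ⟨i.hom.1, i.hom.2⟩

end Groth.Agent.H14.IsoNat.CleanDescent
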