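import Groth.Prelude.Def_W4c2isonaturalstkIso
import Groth.Agent.H14.Chart.Points

/-!
Isomorphism classes along morphisms of categories fibred in groupoids.
-/

set_option autoImplicit false
set_option backward.isDefEq.respectTransparency false
set_option backward.isDefEq.respectTransparency.types false

universe u

open CategoryTheory CategoryTheory.Limits AlgebraicGeometry

namespace Groth.Agent.H14.IsoNat.Cls

open Groth.Agent.Lib.AlgStack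
open FibCat (IsFibGrpd)

variable {S : Scheme.{u}} {𝒳 𝒴 : AlgSt.Cat S}

theorem exists_cls {T : Over S} (c : _root_.IsoNat.IsoCl 𝒳 T) :
    ∃ x : 𝒳.p.Fiber T, _root_.IsoNat.cls x = c := Quotient.exists_rep c

theorem cls_eq_iff {T : Over S} {x y : 𝒳.p.Fiber T} :
    _root_.IsoNat.cls x = _root_.IsoNat.cls y ↔ Nonempty (x ≅ y) := Quotient.eq

theorem mapCls_cls (f : 𝒳 ⥤ᵇ 𝒴) {T : Over S} (x : 𝒳.p.Fiber T) :
    _root_.IsoNat.mapCls f T (_root_.IsoNat.cls x) = _root_.IsoNat.cls ((_root_.IsoNat.fibFun f T).obj x) :=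
  rfl

/-- A pullback of an object along a morphism of schemes. -/
theorem exists_pullback (h : IsFibGrpd 𝒳.p) {T' T : Over S} (g : T' ⟶ T) (x : 𝒳.p.Fiber T) :
    ∃ (x' : 𝒳.p.Fiber T') (a : x'.1 ⟶ x.1), 𝒳.p.IsHomLift g a :=
  ⟨⟨_, Yoneda.pb_obj h x.2 g⟩, Yoneda.pbMap h x.2 g, inferInstance⟩

/-- Pullbacks along the same morphism are isomorphic over the source. -/
theorem cls_eq_of_homLift (h : IsFibGrpd 𝒳.p) {T' T : Over S} {g : T' ⟶ T} {x : 𝒳.p.Fiber T}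
    {x₁ x₂ : 𝒳.p.Fiber T'} {a₁ : x₁.1 ⟶ x.1} {a₂ : x₂.1 ⟶ x.1} (h₁ : 𝒳.p.IsHomLift g a₁)
    (h₂ : 𝒳.p.IsHomLift g a₂) : _root_.IsoNat.cls x₁ = _root_.IsoNat.cls x₂ := by
  have := Yoneda.stronglyCartesian h g a₂
  let θ := Functor.IsStronglyCartesian.map 𝒳.p g a₂ (g := 𝟙 T') (Category.id_comp g).symm a₁
  have hθ : 𝒳.p.IsHomLift (𝟙 T') θ := Functor.IsStronglyCartesian.map_isHomLift _ _ _ _ _
  have := BasedBasic.isIso_of_isHomLift_id h (R := T') θ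
  refine cls_eq_iff.2 ⟨{
    hom := ⟨θ, hθ⟩
    inv := ⟨inv θ, inferInstance⟩
    hom_inv_id := ?_
    inv_hom_id := ?_ }⟩
  · exact Subtype.ext (IsIso.hom_inv_id θ)
  · exact Subtype.ext (IsIso.inv_hom_id θ)

/-- A morphism may be moved between isomorphism classes. -/
theorem exists_hom_of_cls {T' T : Over S} {g : T' ⟶ T} {x' y' : 𝒳.p.Fiber T'} {x y : 𝒳.p.Fiber T}
    (h' : _root_.IsoNat.cls y' = _root_.IsoNat.cls x') (h₀ : _root_.IsoNat.cls x = _root_.IsoNat.cls y)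
    {a : x'.1 ⟶ x.1} (ha : 𝒳.p.IsHomLift g a) : ∃ b : y'.1 ⟶ y.1, 𝒳.p.IsHomLift g b := by
  obtain ⟨i⟩ := cls_eq_iff.1 h'
  obtain ⟨j⟩ := cls_eq_iff.1 h₀
  have := i.hom.2
  have := j.hom.2
  exact ⟨i.hom.1 ≫ a ≫ j.hom.1, inferInstance⟩

/-- An isomorphism of presheaves moves morphisms forward. -/
theorem exists_hom (φ : _root_.IsoNat.FIso 𝒳 𝒴) {T' T : Over S} {g : T' ⟶ T} {x' : 𝒳.p.Fiber T'}
    {x : 𝒳.p.Fiber T} {a : x'.1 ⟶ x.1} (ha : 𝒳.p.IsHomLift g a) {y' : 𝒴.p.Fiber T'}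
    {y : 𝒴.p.Fiber T} (h' : φ.toEquiv T' (_root_.IsoNat.cls x') = _root_.IsoNat.cls y')
    (h₀ : φ.toEquiv T (_root_.IsoNat.cls x) = _root_.IsoNat.cls y) :
    ∃ b : y'.1 ⟶ y.1, 𝒴.p.IsHomLift g b := by
  obtain ⟨z', z, b, hb, hz', hz⟩ := φ.natural g x' x a ha
  exact exists_hom_of_cls (h'.symm.trans hz') (hz.symm.trans h₀) hb

/-- An isomorphism of presheaves moves morphisms backwards. -/
theorem exists_hom_symm (φ : _root_.IsoNat.FIso 𝒳 𝒴) (h𝒳 : IsFibGrpd 𝒳.p) (h𝒴 : IsFibGrpd 𝒴.p)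
    {T' T : Over S} {g : T' ⟶ T} {y' : 𝒴.p.Fiber T'} {y : 𝒴.p.Fiber T} {b : y'.1 ⟶ y.1}
    (hb : 𝒴.p.IsHomLift g b) {x' : 𝒳.p.Fiber T'} {x : 𝒳.p.Fiber T}
    (h' : φ.toEquiv T' (_root_.IsoNat.cls x') = _root_.IsoNat.cls y')
    (h₀ : φ.toEquiv T (_root_.IsoNat.cls x) = _root_.IsoNat.cls y) :
    ∃ a : x'.1 ⟶ x.1, 𝒳.p.IsHomLift g a := by
  obtain ⟨x₁, a, ha⟩ := exists_pullback h𝒳 g x
  obtain ⟨y₁, hy₁⟩ := exists_cls (φ.toEquiv T' (_root_.IsoNat.cls x₁))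
  obtain ⟨b₁, hb₁⟩ := exists_hom φ ha hy₁.symm h₀
  refine exists_hom_of_cls ((φ.toEquiv T').injective ?_) rfl ha
  rw [h', ← hy₁]
  exact cls_eq_of_homLift h𝒴 hb hb₁

end Groth.Agent.H14.IsoNat.Cls
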