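import Groth.Agent.H14.IsoNat.TrivLocus
import Groth.Agent.H14.IsoNat.InDict
import Groth.Agent.H14.IsoNat.OpenFunctor
import Groth.Agent.H14.IsoNat.Detect
import Groth.Agent.H14.IsoNat.Cls
import Groth.Agent.H14.Sep.Main4

/-!
The clean locus of a stack with proper inertia is open and quasi-compact.
-/

set_option autoImplicit false
set_option backward.isDefEq.respectTransparency false
set_option backward.isDefEq.respectTransparency.types false
set_option maxHeartbeats 800000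

universe u

open CategoryTheory CategoryTheory.Limits AlgebraicGeometry

namespace Groth.Agent.H14.IsoNat.CleanOpen

open Groth.Agent.Lib.AlgStack
open FibCat (IsFibGrpd overCat fpFst toSelf inertiaToBase)
open AlgSt (spMapOfOver RepByAlgSpWith IsAlgStack)
open AlgSp (Sp yon RepWith)
open Groth.Agent.Lib.Fibred.Descent

variable {S : Scheme.{u}} {𝒳 : AlgSt.Cat S}

theorem isClean_of_hom {z' z : 𝒳.obj} (a : z' ⟶ z) (h : _root_.IsoNat.IsClean z) :
    _root_.IsoNat.IsClean z' := fun x b => h x (b ≫ a)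

/-- An object over an affine scheme becomes clean exactly on a quasi-compact open. -/
theorem exists_opens_affine (h : IsFibGrpd 𝒳.p)
    (hp : RepByAlgSpWith AlgSp.IsProperMor (inertiaToBase (toSelf 𝒳)))
    (hi : RepByAlgSpWith (AlgSp.LocP @LocallyOfFinitePresentation) (inertiaToBase (toSelf 𝒳)))
    {U : Over S} [IsAffine U.left] {η : 𝒳.obj} (hη : 𝒳.p.obj η = U) :
    ∃ V : U.left.Opens, IsCompact (V : Set ↥U.left) ∧
      ∀ {T : Over S} (g : T ⟶ U) {z : 𝒳.obj} (a : z ⟶ η), 𝒳.p.IsHomLift g a →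
        (_root_.IsoNat.IsClean z ↔ Set.range g.left ⊆ V) := by
  let c : overCat U ⥤ᵇ 𝒳 := Yoneda.fromObj h hη
  obtain ⟨ε, hε⟩ := Yoneda.exists_fromObj_iso h hη
  obtain ⟨G, eG, heG, hP, hF⟩ :=
    Sep.Main4.repByAlgSpWith_inf
      (Sep.SpProps.stableBC_locP Lib.SourceDescent.Scheme.locallyOfFinitePresentation) hp hi U c
  let one : ∀ {T : Over S} (m : T ⟶ U), InDict.AutTri c T := fun m =>
    ⟨m, 𝟙 _, IsHomLift.id (c.w_obj (Over.mk m))⟩
  obtain ⟨e, he⟩ := InDict.exists_map h heG (one (𝟙 U))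
  let γ : G.obj ⟶ (yon S).obj U := spMapOfOver (BasedFunctor.comp eG (fpFst c (inertiaToBase (toSelf 𝒳))))
  have heγ : e ≫ γ = 𝟙 _ := (InDict.comp_fst h he).trans ((yon S).map_id U)
  have hone : ∀ {T : Over S} (m : T ⟶ U), InDict.Rel eG h ((yon S).map m ≫ e) (one m) := fun m =>
    InDict.rel_comp h he (t' := one m) ⟨(Category.comp_id m).symm, by
      change c.map _ ≫ 𝟙 _ = 𝟙 _ ≫ c.map _
      rw [Category.comp_id, Category.id_comp]⟩
  obtain ⟨V, hVc, hV⟩ := TrivLocus.exists_opens G.property γ e heγ hP hF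
  refine ⟨V, hVc, fun {T} g {z} a ha => ?_⟩
  rw [← hV]
  let mkg : Over.mk g ⟶ Over.mk (𝟙 U) := Over.homMk g (Category.comp_id g)
  have hc1 : 𝒳.p.IsHomLift g (c.map mkg) := Yoneda.map_isHomLift c mkg
  have hc2 : 𝒳.p.IsHomLift g (c.map mkg ≫ ε.hom) := inferInstance
  obtain ⟨θ, hθ, eθ⟩ := exists_factor h a ha (c.map mkg ≫ ε.hom) hc2
  have := Lib.Fibred.StackLemmas.isIso_of_vertical h θ hθ
  constructor
  · intro hz T' k l hl
    obtain ⟨⟨m, s, hs⟩, hls⟩ := InDict.exists_aut h l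
    obtain rfl : m = k ≫ g := (yon S).map_injective ((InDict.comp_fst h hls).symm.trans hl)
    let mk' : Over.mk (k ≫ g) ⟶ Over.mk g := Over.homMk k rfl
    have hs' := hs
    obtain rfl : s = 𝟙 _ := hz (c.obj (Over.mk (k ≫ g))) (c.map mk' ≫ θ) s (by
      have := IsHomLift.fac' 𝒳.p (𝟙 T') s
      simpa using this)
    exact InDict.map_unique h heG hls (hone _)
  · intro hg x b s hs
    have hzT : 𝒳.p.obj z = T := IsHomLift.domain_eq 𝒳.p g a
    let k : 𝒳.p.obj x ⟶ T := 𝒳.p.map b ≫ eqToHom hzT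
    have hb : 𝒳.p.IsHomLift k b := IsHomLift.of_fac' _ _ _ rfl hzT (by simp [k])
    have hs' : 𝒳.p.IsHomLift (𝟙 (𝒳.p.obj x)) s := hs ▸ IsHomLift.map 𝒳.p s
    let mk' : Over.mk (k ≫ g) ⟶ Over.mk g := Over.homMk k rfl
    have hc3 : 𝒳.p.IsHomLift k (c.map mk') := Yoneda.map_isHomLift c mk'
    have hc4 : 𝒳.p.IsHomLift k (c.map mk' ≫ θ) := IsHomLift.comp_lift_id_right' 𝒳.p k (c.map mk') T θ
    obtain ⟨ρ, hρ, -⟩ := exists_factor h b hb (c.map mk' ≫ θ) hc4
    have := Lib.Fibred.StackLemmas.isIso_of_vertical h ρ hρ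
    let q : InDict.AutTri c (𝒳.p.obj x) := ⟨k ≫ g, ρ ≫ s ≫ inv ρ, inferInstance⟩
    obtain ⟨l, hl⟩ := InDict.exists_map h heG q
    have hm1 : l ≫ γ = (yon S).map q.m := InDict.comp_fst (t := q) h hl
    have hm2 : q.m = k ≫ g := rfl
    rw [hm2] at hm1
    have hl' := hg k l hm1
    have h2 := hone (k ≫ g)
    rw [← hl'] at h2
    have hqq : q = one (k ≫ g) := InDict.aut_unique h hl h2
    have e1 : ρ ≫ s ≫ inv ρ = 𝟙 _ := eq_of_heq (InDict.AutTri.mk.inj hqq).2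
    rw [← cancel_epi ρ, ← cancel_mono (inv ρ)]
    simp [e1]

/-- Cleanliness is local. -/
theorem isClean_of_cover (h : IsAlgStack Scheme.fppfPrecoverage 𝒳) {T : Over S} {z : 𝒳.obj}
    (hz : 𝒳.p.obj z = T) {ι : Type u} (O : ι → T.left.Opens) (hO : ∀ t, ∃ i, t ∈ O i)
    (hc : ∀ i, ∃ (z' : 𝒳.obj) (a : z' ⟶ z),
      𝒳.p.IsHomLift (Over.homMk (O i).ι : Over.mk ((O i).ι ≫ T.hom) ⟶ T) a ∧ _root_.IsoNat.IsClean z') :
    _root_.IsoNat.IsClean z := by
  intro x b s hs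
  have hg := h.isStack.1
  let k : 𝒳.p.obj x ⟶ T := 𝒳.p.map b ≫ eqToHom hz
  have hb : 𝒳.p.IsHomLift k b := IsHomLift.of_fac' _ _ _ rfl hz (by simp [k])
  have hs' : 𝒳.p.IsHomLift (𝟙 (𝒳.p.obj x)) s := hs ▸ IsHomLift.map 𝒳.p s
  let X := 𝒳.p.obj x
  let P : ι → Over S := fun i => Over.mk ((k.left ⁻¹ᵁ O i).ι ≫ X.hom)
  let p : ∀ i, P i ⟶ X := fun i => Over.homMk (k.left ⁻¹ᵁ O i).ι
  have hR := Lib.AlgSpace.ofArrows_mem_J P p (fun i => inferInstanceAs (Flat (k.left ⁻¹ᵁ O i).ι))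
    (fun i => inferInstanceAs (LocallyOfFinitePresentation (k.left ⁻¹ᵁ O i).ι))
    fun t => by
      obtain ⟨i, hi⟩ := hO (k.left t)
      exact ⟨i, ⟨t, hi⟩, rfl⟩
  refine (Detect.stackFor h hR).1 s (𝟙 x) hs' (IsHomLift.id rfl) fun V f hf w ψ hψ => ?_
  rw [Sieve.mem_ofArrows_iff] at hf
  obtain ⟨i, v, rfl⟩ := hf
  obtain ⟨z', a, ha, hz'⟩ := hc i
  let kr : P i ⟶ Over.mk ((O i).ι ≫ T.hom) := Over.homMk (k.left ∣_ O i) (by
    change (k.left ∣_ O i) ≫ (O i).ι ≫ T.hom = _ ≫ X.hom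
    rw [morphismRestrict_ι_assoc, Over.w k])
  have hkr : v ≫ kr ≫ (Over.homMk (O i).ι : Over.mk ((O i).ι ≫ T.hom) ⟶ T) = (v ≫ p i) ≫ k := by
    rw [Category.assoc]
    congr 1
    ext1
    exact morphismRestrict_ι _ _
  obtain ⟨σ, hσ, eσ⟩ := Detect.exists_pull_aut hg ψ hψ s hs'
  have := cart hg a ha
  have hψb : 𝒳.p.IsHomLift ((v ≫ p i) ≫ k) (ψ ≫ b) := inferInstance
  let oi : Over.mk ((O i).ι ≫ T.hom) ⟶ T := Over.homMk (O i).ι
  let ω := Functor.IsStronglyCartesian.map 𝒳.p oi a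
    (g := v ≫ kr) (f' := (v ≫ p i) ≫ k) (hkr.symm.trans (Category.assoc _ _ _).symm) (ψ ≫ b)
  have hσ1 : σ = 𝟙 w := hz' w ω σ (by
    have := IsHomLift.fac' 𝒳.p (𝟙 V) σ
    simpa using this)
  rw [← eσ, hσ1, Category.id_comp, Category.comp_id]

/-- An object becomes clean exactly on an open, quasi-compact over the base. -/
theorem exists_opens (h : IsAlgStack Scheme.fppfPrecoverage 𝒳)
    (hp : RepByAlgSpWith AlgSp.IsProperMor (inertiaToBase (toSelf 𝒳)))
    (hi : RepByAlgSpWith (AlgSp.LocP @LocallyOfFinitePresentation) (inertiaToBase (toSelf 𝒳)))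
    {T : Over S} {η : 𝒳.obj} (hη : 𝒳.p.obj η = T) :
    ∃ V : T.left.Opens, QuasiCompact V.ι ∧
      ∀ {T' : Over S} (g : T' ⟶ T) {z : 𝒳.obj} (a : z ⟶ η), 𝒳.p.IsHomLift g a →
        (_root_.IsoNat.IsClean z ↔ Set.range g.left ⊆ V) := by
  have hg := h.isStack.1
  let I := T.left.affineOpens
  let A : I → Over S := fun O => Over.mk (O.1.ι ≫ T.hom)
  let o : ∀ O, A O ⟶ T := fun O => Over.homMk O.1.ι
  have : ∀ O : I, IsAffine (A O).left := fun O => O.2
  choose ηO r hr using fun O : I => exists_lift hg hη (o O)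
  choose VO hVc hV using fun O : I =>
    exists_opens_affine hg hp hi (IsHomLift.domain_eq 𝒳.p (o O) (r O))
  let V : T.left.Opens := ⨆ O : I, O.1.ι ''ᵁ VO O
  have key : ∀ {T' : Over S} (g : T' ⟶ T) {z : 𝒳.obj} (a : z ⟶ η), 𝒳.p.IsHomLift g a →
      (_root_.IsoNat.IsClean z ↔ Set.range g.left ⊆ V) := by
    intro T' g z a ha
    have hzT : 𝒳.p.obj z = T' := IsHomLift.domain_eq 𝒳.p g a
    constructor
    · rintro hz _ ⟨t, rfl⟩
      obtain ⟨O', hO', hto, -⟩ := exists_isAffineOpen_mem_and_subset (X := T.left) (x := g.left t)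
        (U := (⊤ : T.left.Opens)) trivial
      let O : I := ⟨O', hO'⟩
      let P : Over S := Over.mk ((g.left ⁻¹ᵁ O').ι ≫ T'.hom)
      let p : P ⟶ T' := Over.homMk (g.left ⁻¹ᵁ O').ι
      let gO : P ⟶ A O := Over.homMk (g.left ∣_ O') (by
        change (g.left ∣_ O') ≫ O'.ι ≫ T.hom = _ ≫ T'.hom
        rw [morphismRestrict_ι_assoc, Over.w g])
      have hgO : gO ≫ o O = p ≫ g := by ext1; exact morphismRestrict_ι _ _
      obtain ⟨w, q, hq⟩ := exists_lift hg hzT p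
      have := cart hg (r O) (hr O)
      have hqa : 𝒳.p.IsHomLift (p ≫ g) (q ≫ a) := inferInstance
      let ω := Functor.IsStronglyCartesian.map 𝒳.p (o O) (r O) (g := gO) hgO.symm (q ≫ a)
      have hω : 𝒳.p.IsHomLift gO ω := Functor.IsStronglyCartesian.map_isHomLift _ _ _ _ _
      have hm := (hV O gO ω hω).1 (isClean_of_hom q hz) ⟨⟨t, hto⟩, rfl⟩
      refine TopologicalSpace.Opens.mem_iSup.2 ⟨O, gO.left ⟨t, hto⟩, hm, ?_⟩
      exact congrArg (fun n : P.left ⟶ T.left => n ⟨t, hto⟩) (morphismRestrict_ι g.left O')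
    · intro hr'
      refine isClean_of_cover h hzT (fun O : I => g.left ⁻¹ᵁ (O.1.ι ''ᵁ VO O))
        (fun t => (TopologicalSpace.Opens.mem_iSup
          (s := fun O : I => O.1.ι ''ᵁ VO O) (x := g.left t)).1 (hr' ⟨t, rfl⟩)) fun O => ?_
      let Q := g.left ⁻¹ᵁ (O.1.ι ''ᵁ VO O)
      let P : Over S := Over.mk (Q.ι ≫ T'.hom)
      let p : P ⟶ T' := Over.homMk Q.ι
      have hrg : Set.range (Q.ι ≫ g.left) ⊆ Set.range O.1.ι := by
        rintro _ ⟨x, rfl⟩
        obtain ⟨y, -, hy⟩ := x.2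
        exact ⟨y, hy⟩
      let gl := IsOpenImmersion.lift O.1.ι (Q.ι ≫ g.left) hrg
      have hgl : gl ≫ O.1.ι = Q.ι ≫ g.left := IsOpenImmersion.lift_fac _ _ _
      let gO : P ⟶ A O := Over.homMk gl (by
        change gl ≫ O.1.ι ≫ T.hom = Q.ι ≫ T'.hom
        rw [reassoc_of% hgl, Over.w g])
      have hgO : gO ≫ o O = p ≫ g := by ext1; exact hgl
      obtain ⟨w, q, hq⟩ := exists_lift hg hzT p
      have := cart hg (r O) (hr O)
      have hqa : 𝒳.p.IsHomLift (p ≫ g) (q ≫ a) := inferInstance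
      let ω := Functor.IsStronglyCartesian.map 𝒳.p (o O) (r O) (g := gO) hgO.symm (q ≫ a)
      have hω : 𝒳.p.IsHomLift gO ω := Functor.IsStronglyCartesian.map_isHomLift _ _ _ _ _
      refine ⟨w, q, hq, (hV O gO ω hω).2 ?_⟩
      rintro _ ⟨x, rfl⟩
      obtain ⟨y, hy, hyx⟩ := x.2
      have : gO.left x = y := O.1.ι.injective ((congrArg (fun n : P.left ⟶ T.left => n x) hgl).trans hyx.symm)
      rw [this]
      exact hy
  refine ⟨V, ⟨fun K hKo hKc => ?_⟩, key⟩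
  have hVO : ∀ (O : I) (y : ↥(A O).left), O.1.ι y ∈ V ↔ y ∈ VO O := fun O y => by
    refine ⟨fun hy => ?_, fun hy => TopologicalSpace.Opens.mem_iSup.2 ⟨O, y, hy, rfl⟩⟩
    let P : Over S := Over.mk ((A O).left.fromSpecResidueField y ≫ (A O).hom)
    let gO : P ⟶ A O := Over.homMk ((A O).left.fromSpecResidueField y)
    have hg0 := IsHomLift.domain_eq 𝒳.p (o O) (r O)
    obtain ⟨w, q, hq⟩ := exists_lift hg hg0 gO
    have hcl : _root_.IsoNat.IsClean w := (key (gO ≫ o O) (q ≫ r O) (by have := hr O; infer_instance)).2 (by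
      rintro _ ⟨x, rfl⟩
      have : gO.left x ∈ ({y} : Set ↥(A O).left) := by
        rw [← Scheme.range_fromSpecResidueField]; exact ⟨x, rfl⟩
      change O.1.ι (gO.left x) ∈ (V : Set ↥T.left)
      rw [Set.mem_singleton_iff.1 this]
      exact hy)
    exact (hV O gO q hq).1 hcl ⟨IsLocalRing.closedPoint _, Scheme.fromSpecResidueField_apply y _⟩
  let J := {O : I // (O.1 : Set ↥T.left) ⊆ K}
  obtain ⟨s, hs⟩ := hKc.elim_finite_subcover (fun O : J => (O.1.1 : Set ↥T.left)) (fun O => O.1.1.2)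
    (fun x hx => by
      obtain ⟨O', hO', hxO, hle⟩ := exists_isAffineOpen_mem_and_subset (X := T.left) (x := x)
        (U := (⟨K, hKo⟩ : T.left.Opens)) hx
      exact Set.mem_iUnion.2 ⟨⟨⟨O', hO'⟩, hle⟩, hxO⟩)
  have hcompact : IsCompact (K ∩ (V : Set ↥T.left)) := by
    have e : K ∩ (V : Set ↥T.left) = ⋃ O ∈ s, O.1.1.ι '' (VO O.1 : Set ↥(A O.1).left) := by
      ext x
      constructor
      · rintro ⟨hxK, hxV⟩
        obtain ⟨O, hO, hxO⟩ := Set.mem_iUnion₂.1 (hs hxK)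
        exact Set.mem_iUnion₂.2 ⟨O, hO, ⟨x, hxO⟩, (hVO O.1 ⟨x, hxO⟩).1 hxV, rfl⟩
      · intro hx
        obtain ⟨O, -, y, hy, rfl⟩ := Set.mem_iUnion₂.1 hx
        exact ⟨O.2 y.2, (hVO O.1 y).2 hy⟩
    rw [e]
    exact s.isCompact_biUnion fun O _ => (hVc O.1).image O.1.1.ι.continuous
  rw [V.ι.isOpenEmbedding.isEmbedding.isCompact_iff, Set.image_preimage_eq_inter_range,
    Scheme.Opens.range_ι]
  exact hcompact

theorem mem_clean_iff (η : 𝒳.obj) :
    OpenFunctor.Mem (fun T => {c : _root_.IsoNat.IsoCl 𝒳 T | ∀ x, _root_.IsoNat.cls x = c →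
      _root_.IsoNat.IsClean x.1}) η ↔ _root_.IsoNat.IsClean η := by
  refine ⟨fun hm => hm ⟨η, rfl⟩ rfl, fun hc x hx => ?_⟩
  obtain ⟨i⟩ := Cls.cls_eq_iff.1 hx
  exact isClean_of_hom i.hom.1 hc

theorem isOpenSubstack (h : IsAlgStack Scheme.fppfPrecoverage 𝒳)
    (hp : RepByAlgSpWith AlgSp.IsProperMor (inertiaToBase (toSelf 𝒳)))
    (hi : RepByAlgSpWith (AlgSp.LocP @LocallyOfFinitePresentation) (inertiaToBase (toSelf 𝒳))) :
    AlgSt.IsOpenSubstack 𝒳 (fun η => _root_.IsoNat.IsClean η) Scheme.fppfPrecoverage := by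
  rw [show (fun η : 𝒳.obj => _root_.IsoNat.IsClean η) = OpenFunctor.Mem (fun T =>
    {c : _root_.IsoNat.IsoCl 𝒳 T | ∀ x, _root_.IsoNat.cls x = c → _root_.IsoNat.IsClean x.1}) from
    funext fun η => propext (mem_clean_iff η).symm]
  refine OpenFunctor.isOpenSubstack (fun T x => ?_) h
  obtain ⟨V, -, hV⟩ := exists_opens h hp hi x.2
  refine ⟨V, fun T' g x' a ha => ?_⟩
  rw [OpenFunctor.exists_factor_iff, ← hV g a ha]
  exact ⟨fun hm => hm x' rfl, fun hc y hy => by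
    obtain ⟨i⟩ := Cls.cls_eq_iff.1 hy
    exact isClean_of_hom i.hom.1 hc⟩

theorem isQuasiCompact_subIncl (h : IsAlgStack Scheme.fppfPrecoverage 𝒳)
    (hp : RepByAlgSpWith AlgSp.IsProperMor (inertiaToBase (toSelf 𝒳)))
    (hi : RepByAlgSpWith (AlgSp.LocP @LocallyOfFinitePresentation) (inertiaToBase (toSelf 𝒳))) :
    RepByAlgSpWith AlgSp.IsQuasiCompactMor
      (AlgSt.subIncl 𝒳 (fun η => _root_.IsoNat.IsClean η)) := by
  let W := fun T => {c : _root_.IsoNat.IsoCl 𝒳 T | ∀ x, _root_.IsoNat.cls x = c → _root_.IsoNat.IsClean x.1}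
  have hW : (fun η : 𝒳.obj => _root_.IsoNat.IsClean η) = OpenFunctor.Mem W :=
    funext fun η => propext (mem_clean_iff η).symm
  have hopen : ∀ (T : Over S) (x : 𝒳.p.Fiber T), ∃ V : T.left.Opens,
      ∀ (T' : Over S) (g : T' ⟶ T) (x' : 𝒳.p.Fiber T') (a : x'.1 ⟶ x.1), 𝒳.p.IsHomLift g a →
        (_root_.IsoNat.cls x' ∈ W T' ↔ ∃ g' : T'.left ⟶ ↑V, g' ≫ V.ι = g.left) := fun T x => by
    obtain ⟨V, -, hV⟩ := exists_opens h hp hi x.2
    refine ⟨V, fun T' g x' a ha => ?_⟩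
    rw [OpenFunctor.exists_factor_iff, ← hV g a ha]
    exact ⟨fun hm => hm x' rfl, fun hc y hy => by
      obtain ⟨i⟩ := Cls.cls_eq_iff.1 hy
      exact isClean_of_hom i.hom.1 hc⟩
  rw [hW, OpenFunctor.eq_sub hopen h.isStack.1]
  intro T x
  obtain ⟨V', hV', key'⟩ := OpenFunctor.exists_preimage hopen x
  obtain ⟨V, hVq, key⟩ := exists_opens h hp hi (x.w_obj (Over.mk (𝟙 T)))
  have hVV : V' = V := by
    ext t
    let P : Over S := Over.mk (T.left.fromSpecResidueField t ≫ T.hom)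
    let g : P ⟶ T := Over.homMk (T.left.fromSpecResidueField t)
    have h1 := key' (Over.mk g)
    have h2 := key g (x.map (Yoneda.toId (Over.mk g))) (Yoneda.map_toId_isHomLift x (Over.mk g))
    rw [mem_clean_iff, h2] at h1
    have hr : Set.range g.left = {t} := Scheme.range_fromSpecResidueField t
    have e : ∀ O : T.left.Opens, Set.range g.left ⊆ O ↔ t ∈ O := fun O => by
      rw [hr]; exact Set.singleton_subset_iff
    exact (e V').symm.trans (h1.symm.trans (e V))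
  obtain ⟨T', j, hj, E, hE, hEj, hr⟩ := Chart.OpenSub.exists_fp_equiv (W := OpenFunctor.pts hopen)
    h.isStack.1 x (by rw [hV']; exact V'.isOpen)
  refine ⟨(AlgSp.ofScheme S).obj T', BasedFunctor.comp (AlgSt.toOverCat T') E,
    BasedBasic.IsEquivOver.comp (Rep.isEquivOver_toOverCat T') hE, ?_⟩
  have : spMapOfOver (BasedFunctor.comp (BasedFunctor.comp (AlgSt.toOverCat T') E)
      (fpFst x (AlgSt.subIncl 𝒳 (Chart.OpenSub.sub h.isStack.1 (OpenFunctor.pts hopen))))) =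
      (yon S).map j := by
    rw [← Chart.Points.spMap_toOverCat_overMap j, ← hEj]
    rfl
  rw [this]
  refine Lib.AlgSpMor.QC.isQuasiCompactMor_of_repWith ((AlgSp.repWith_yon_map_iff _ _).2 ?_)
  rw [hV', hVV] at hr
  have := hj
  have hr' : Set.range j.left = Set.range V.ι := hr.trans V.range_ι.symm
  have e := IsOpenImmersion.lift_fac V.ι j.left hr'.le
  have : IsIso (IsOpenImmersion.lift V.ι j.left hr'.le) :=
    ⟨IsOpenImmersion.lift j.left V.ι hr'.ge, by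
      rw [← cancel_mono j.left, Category.assoc, IsOpenImmersion.lift_fac, e, Category.id_comp], by
      rw [← cancel_mono V.ι, Category.assoc, e, IsOpenImmersion.lift_fac, Category.id_comp]⟩
  rw [← e]
  infer_instance

end Groth.Agent.H14.IsoNat.CleanOpen
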