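import Mathlib.AlgebraicGeometry.Morphisms.ClosedImmersion
import Mathlib.RingTheory.Polynomial.Basic

/-!
The cross over an affine scheme: two lines meeting in a section, with the two punctured lines.
-/

set_option autoImplicit false
set_option backward.isDefEq.respectTransparency false
set_option backward.isDefEq.respectTransparency.types false

universe u

open CategoryTheory CategoryTheory.Limits AlgebraicGeometry Polynomial

namespace Groth.Agent.H14.IsoNat.Cross

noncomputable section

variable {S : Scheme.{u}} (R : Type u) [CommRing R] (str : Spec (CommRingCat.of R) ⟶ S)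

/-- Pairs of polynomials with the same constant term. -/
def ring : Subring (R[X] × R[X]) where
  carrier := {p | p.1.eval 0 = p.2.eval 0}
  mul_mem' := fun {a b} ha hb => by
    simp only [Set.mem_ofPred_eq] at *
    simp [Polynomial.eval_mul, ha, hb]
  one_mem' := by simp
  add_mem' := fun {a b} ha hb => by
    simp only [Set.mem_ofPred_eq] at *
    simp [Polynomial.eval_add, ha, hb]
  zero_mem' := by simp
  neg_mem' := fun {a} ha => by
    simp only [Set.mem_ofPred_eq] at *
    simp [Polynomial.eval_neg, ha]

/-- The first coordinate function. -/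
def e₁ : ring R := ⟨(X, 0), by show (X : R[X]).eval 0 = (0 : R[X]).eval 0; simp⟩

/-- The second coordinate function. -/
def e₂ : ring R := ⟨(0, X), by show (0 : R[X]).eval 0 = (X : R[X]).eval 0; simp⟩

theorem e₁_mul_e₂ : e₁ R * e₂ R = 0 := Subtype.ext (by simp [e₁, e₂])

/-- The constant pairs. -/
def const : R →+* ring R :=
  (C.prod C).codRestrict (ring R) fun a => by show (C a).eval 0 = (C a).eval 0; rfl

/-- The first line. -/
def fstHom : ring R →+* R[X] := (RingHom.fst _ _).comp (ring R).subtype

/-- The second line. -/
def sndHom : ring R →+* R[X] := (RingHom.snd _ _).comp (ring R).subtype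

theorem evalRingHom_sndHom : (evalRingHom (0 : R)).comp (sndHom R) = (evalRingHom 0).comp (fstHom R) :=
  RingHom.ext fun p => p.2.symm

/-- The base. -/
noncomputable abbrev T : Over S := Over.mk str

/-- The line. -/
noncomputable abbrev L : Over S := Over.mk (Spec.map (CommRingCat.ofHom (C : R →+* R[X])) ≫ str)

/-- The punctured line. -/
noncomputable abbrev P : Over S :=
  Over.mk (Spec.map (CommRingCat.ofHom (algebraMap R[X] (Localization.Away (X : R[X])))) ≫ (L R str).hom)

/-- The cross. -/
noncomputable abbrev U : Over S := Over.mk (Spec.map (CommRingCat.ofHom (const R)) ≫ str)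

/-- The projection of the cross. -/
noncomputable def π : U R str ⟶ T R str := Over.homMk (Spec.map (CommRingCat.ofHom (const R)))

/-- The projection of the line. -/
noncomputable def πL : L R str ⟶ T R str := Over.homMk (Spec.map (CommRingCat.ofHom (C : R →+* R[X])))

/-- The origin of the line. -/
noncomputable def zero : T R str ⟶ L R str :=
  Over.homMk (Spec.map (CommRingCat.ofHom (evalRingHom (0 : R)))) (by
    change Spec.map (CommRingCat.ofHom (evalRingHom (0 : R))) ≫
      Spec.map (CommRingCat.ofHom (C : R →+* R[X])) ≫ str = str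
    rw [← Category.assoc, ← Spec.map_comp, ← CommRingCat.ofHom_comp,
      show (evalRingHom (0 : R)).comp C = RingHom.id R from RingHom.ext fun a => eval_C,
      CommRingCat.ofHom_id, Spec.map_id, Category.id_comp])

/-- The first line in the cross. -/
noncomputable def l₁ : L R str ⟶ U R str :=
  Over.homMk (Spec.map (CommRingCat.ofHom (fstHom R))) (by
    change Spec.map (CommRingCat.ofHom (fstHom R)) ≫ Spec.map (CommRingCat.ofHom (const R)) ≫ str = _
    rw [← Category.assoc, ← Spec.map_comp, ← CommRingCat.ofHom_comp]
    rfl)

/-- The second line in the cross. -/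
noncomputable def l₂ : L R str ⟶ U R str :=
  Over.homMk (Spec.map (CommRingCat.ofHom (sndHom R))) (by
    change Spec.map (CommRingCat.ofHom (sndHom R)) ≫ Spec.map (CommRingCat.ofHom (const R)) ≫ str = _
    rw [← Category.assoc, ← Spec.map_comp, ← CommRingCat.ofHom_comp]
    rfl)

/-- The punctured line in the line. -/
noncomputable def j : P R str ⟶ L R str :=
  Over.homMk (Spec.map (CommRingCat.ofHom (algebraMap R[X] (Localization.Away (X : R[X])))))

theorem l₁_π : l₁ R str ≫ π R str = πL R str := by
  ext1
  change Spec.map (CommRingCat.ofHom (fstHom R)) ≫ Spec.map (CommRingCat.ofHom (const R)) = _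
  rw [← Spec.map_comp, ← CommRingCat.ofHom_comp]
  rfl

theorem l₂_π : l₂ R str ≫ π R str = πL R str := by
  ext1
  change Spec.map (CommRingCat.ofHom (sndHom R)) ≫ Spec.map (CommRingCat.ofHom (const R)) = _
  rw [← Spec.map_comp, ← CommRingCat.ofHom_comp]
  rfl

theorem zero_πL : zero R str ≫ πL R str = 𝟙 _ := by
  ext1
  change Spec.map (CommRingCat.ofHom (evalRingHom (0 : R))) ≫
      Spec.map (CommRingCat.ofHom (C : R →+* R[X])) = 𝟙 _
  rw [← Spec.map_comp, ← CommRingCat.ofHom_comp,
    show (evalRingHom (0 : R)).comp C = RingHom.id R from RingHom.ext fun a => eval_C,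
    CommRingCat.ofHom_id, Spec.map_id]

theorem zero_l₂ : zero R str ≫ l₂ R str = zero R str ≫ l₁ R str := by
  ext1
  change Spec.map (CommRingCat.ofHom (evalRingHom (0 : R))) ≫ Spec.map (CommRingCat.ofHom (sndHom R)) =
    Spec.map (CommRingCat.ofHom (evalRingHom (0 : R))) ≫ Spec.map (CommRingCat.ofHom (fstHom R))
  rw [← Spec.map_comp, ← Spec.map_comp, ← CommRingCat.ofHom_comp, ← CommRingCat.ofHom_comp,
    evalRingHom_sndHom]

/-- The function cutting out the first punctured line. -/
noncomputable def O₁ : (U R str).left.Opens := PrimeSpectrum.basicOpen (e₁ R)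

/-- The function cutting out the second punctured line. -/
noncomputable def O₂ : (U R str).left.Opens := PrimeSpectrum.basicOpen (e₂ R)

theorem O₁_inf_O₂ : O₁ R str ⊓ O₂ R str = ⊥ := by
  refine (PrimeSpectrum.basicOpen_mul (e₁ R) (e₂ R)).symm.trans ?_
  rw [e₁_mul_e₂]
  exact PrimeSpectrum.basicOpen_zero

/-- An open subscheme of the cross. -/
noncomputable abbrev sub (O : (U R str).left.Opens) : Over S := Over.mk (O.ι ≫ (U R str).hom)

/-- The inclusion of an open subscheme of the cross. -/
noncomputable def subι (O : (U R str).left.Opens) : sub R str O ⟶ U R str := Over.homMk O.ι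

theorem range_jl₁ : Set.range (j R str ≫ l₁ R str).left ⊆ (O₁ R str : Set (U R str).left) := by
  rintro _ ⟨p, rfl⟩
  change fstHom R (e₁ R) ∉
    (p.asIdeal.comap (algebraMap R[X] (Localization.Away (X : R[X]))))
  rw [Ideal.mem_comap]
  intro h
  exact p.isPrime.ne_top (Ideal.eq_top_of_isUnit_mem _ h (IsLocalization.Away.algebraMap_isUnit (S := Localization.Away (X : R[X])) X))

theorem range_jl₂ : Set.range (j R str ≫ l₂ R str).left ⊆ (O₂ R str : Set (U R str).left) := by
  rintro _ ⟨p, rfl⟩
  change sndHom R (e₂ R) ∉
    (p.asIdeal.comap (algebraMap R[X] (Localization.Away (X : R[X]))))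
  rw [Ideal.mem_comap]
  intro h
  exact p.isPrime.ne_top (Ideal.eq_top_of_isUnit_mem _ h (IsLocalization.Away.algebraMap_isUnit (S := Localization.Away (X : R[X])) X))

theorem exists_factor {O : (U R str).left.Opens} {Z : Over S} (f : Z ⟶ U R str)
    (h : Set.range f.left ⊆ (O : Set (U R str).left)) : ∃ g : Z ⟶ sub R str O, g ≫ subι R str O = f := by
  have h' : Set.range f.left ⊆ Set.range O.ι := by rwa [Scheme.Opens.range_ι]
  refine ⟨Over.homMk (IsOpenImmersion.lift O.ι f.left h') ?_, ?_⟩
  · change IsOpenImmersion.lift O.ι f.left h' ≫ O.ι ≫ (U R str).hom = Z.hom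
    rw [IsOpenImmersion.lift_fac_assoc]
    exact Over.w f
  · ext1
    exact IsOpenImmersion.lift_fac _ _ _

theorem j_appTop_injective : Function.Injective (j R str).left.appTop := by
  have h0 : Function.Injective (algebraMap R[X] (Localization.Away (X : R[X]))) :=
    IsLocalization.injective _
      (Submonoid.powers_le.2 (monic_X.mem_nonZeroDivisors))
  have h1 := Scheme.ΓSpecIso_naturality
    (CommRingCat.ofHom (algebraMap R[X] (Localization.Away (X : R[X]))))
  have h2 : (j R str).left.appTop =
      (Scheme.ΓSpecIso _).hom ≫ CommRingCat.ofHom (algebraMap R[X] (Localization.Away (X : R[X]))) ≫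
        (Scheme.ΓSpecIso _).inv := by
    rw [← Category.assoc, ← h1, Category.assoc, Iso.hom_inv_id, Category.comp_id]
    rfl
  rw [h2]
  simp only [CommRingCat.hom_comp, RingHom.coe_comp]
  exact ((Scheme.ΓSpecIso _).commRingCatIsoToRingEquiv.symm.injective.comp h0).comp
    (Scheme.ΓSpecIso _).commRingCatIsoToRingEquiv.injective

/-- A closed subscheme of the line containing the punctured line is the line. -/
theorem isIso_of_factor {Z : Over S} (c : Z ⟶ L R str) [IsClosedImmersion c.left] (k : P R str ⟶ Z)
    (h : k ≫ c = j R str) : IsIso c := by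
  have : IsAffine (L R str).left := inferInstanceAs (IsAffine (Spec (CommRingCat.of R[X])))
  have : IsIso c.left := IsClosedImmersion.isIso_of_injective_of_isAffine fun a b e => by
    refine j_appTop_injective R str ?_
    rw [← h, Over.comp_left, Scheme.Hom.comp_appTop]
    exact congrArg k.left.appTop e
  have : IsIso ((Over.forget S).map c) := this
  exact isIso_of_reflects_iso c (Over.forget S)

end

end Groth.Agent.H14.IsoNat.Cross
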