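import Groth.Agent.H14.IsoNat.Abelian

/-!
The correspondence of automorphisms commutes with change of the affine base.
-/

set_option autoImplicit false
set_option backward.isDefEq.respectTransparency false
set_option backward.isDefEq.respectTransparency.types false
set_option maxHeartbeats 800000

universe u

open CategoryTheory CategoryTheory.Limits AlgebraicGeometry Groth.Agent.Lib.Fibred.Descent

namespace Groth.Agent.H14.IsoNat.Twists

open FibCat (IsFibGrpd toSelf inertiaToBase)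
open AlgSt (RepByAlgSpWith IsAlgStack)
open Cross (U T L P π πL zero j l₁ l₂ sub subι O₁ O₂)

variable {S : Scheme.{u}} {𝒳 𝒴 : AlgSt.Cat S} {R R' : Type u} [CommRing R] [CommRing R']
  {str : Spec (CommRingCat.of R) ⟶ S} {str' : Spec (CommRingCat.of R') ⟶ S}

/-- The base change of the ring of the cross. -/
noncomputable def ringMap (f : R →+* R') : Cross.ring R →+* Cross.ring R' :=
  RingHom.codRestrict (((Polynomial.mapRingHom f).prodMap (Polynomial.mapRingHom f)).comp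
      (Cross.ring R).subtype) (Cross.ring R') fun p => by
    show Polynomial.eval 0 (Polynomial.map f (p : Polynomial R × Polynomial R).1) =
      Polynomial.eval 0 (Polynomial.map f (p : Polynomial R × Polynomial R).2)
    rw [← map_zero f, Polynomial.eval_map_apply, Polynomial.eval_map_apply]
    exact congrArg f p.2

/-- The cross is functorial in the base. -/
theorem exists_base_change (h : T R' str' ⟶ T R str) :
    ∃ (ιU : U R' str' ⟶ U R str) (ιD : DO R' str' ⟶ DO R str) (k : P R' str' ⟶ P R str),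
      ιU ≫ π R str = π R' str' ≫ h ∧ ιD ≫ pD R str = pD R' str' ≫ ιU ∧
      (j R' str' ≫ (line₁ R' str').l) ≫ ιU = k ≫ j R str ≫ (line₁ R str).l ∧
      (j R' str' ≫ (line₂ R' str').l) ≫ ιU = k ≫ j R str ≫ (line₂ R str).l := by
  obtain ⟨f, hf⟩ := Spec.map_surjective h.left
  have hs : str' = Spec.map f ≫ str := by rw [hf]; exact (Over.w h).symm
  subst hs
  let ιU : U R' (Spec.map f ≫ str) ⟶ U R str :=
    Over.homMk (Spec.map (CommRingCat.ofHom (ringMap f.hom))) (by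
      change Spec.map _ ≫ Spec.map _ ≫ str = Spec.map _ ≫ Spec.map _ ≫ str
      simp only [← Category.assoc, ← Spec.map_comp]
      refine congrArg (fun g => Spec.map g ≫ str) (CommRingCat.hom_ext (RingHom.ext fun a => ?_))
      apply Subtype.ext
      refine Prod.ext ?_ ?_ <;> simp [ringMap, Cross.const])
  have e0 : ιU ≫ π R str = π R' _ ≫ h := by
    ext1
    change Spec.map _ ≫ Spec.map _ = Spec.map _ ≫ h.left
    rw [← hf]
    simp only [← Spec.map_comp]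
    refine congrArg Spec.map (CommRingCat.hom_ext (RingHom.ext fun a => ?_))
    apply Subtype.ext
    refine Prod.ext ?_ ?_ <;> simp [ringMap, Cross.const]
  have e₁ : l₁ R' (Spec.map f ≫ str) ≫ ιU = Cross.ιL str f.hom ≫ l₁ R str := by
    ext1
    change Spec.map _ ≫ Spec.map _ = Spec.map _ ≫ Spec.map _
    rw [← Spec.map_comp, ← Spec.map_comp]
    exact congrArg Spec.map (CommRingCat.hom_ext (RingHom.ext fun a => rfl))
  have e₂ : l₂ R' (Spec.map f ≫ str) ≫ ιU = Cross.ιL str f.hom ≫ l₂ R str := by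
    ext1
    change Spec.map _ ≫ Spec.map _ = Spec.map _ ≫ Spec.map _
    rw [← Spec.map_comp, ← Spec.map_comp]
    exact congrArg Spec.map (CommRingCat.hom_ext (RingHom.ext fun a => rfl))
  have k₁ : (j R' (Spec.map f ≫ str) ≫ l₁ R' _) ≫ ιU = Cross.ιP str f.hom ≫ j R str ≫ l₁ R str := by
    rw [Category.assoc, e₁, reassoc_of% (Cross.ιP_j str f.hom)]; rfl
  have k₂ : (j R' (Spec.map f ≫ str) ≫ l₂ R' _) ≫ ιU = Cross.ιP str f.hom ≫ j R str ≫ l₂ R str := by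
    rw [Category.assoc, e₂, reassoc_of% (Cross.ιP_j str f.hom)]; rfl
  have range : Set.range (pD R' (Spec.map f ≫ str) ≫ ιU).left ⊆
      ((O₁ R str ⊔ O₂ R str : (U R str).left.Opens) : Set (U R str).left) := by
    rintro _ ⟨x, rfl⟩
    rcases (TopologicalSpace.Opens.mem_sup.1 x.2) with hx | hx
    · have := (line₁ R' (Spec.map f ≫ str)).iso_e
      let y : ↥(sub R' (Spec.map f ≫ str) (O₁ R' _)).left := ⟨x.1, hx⟩
      obtain ⟨q, hq⟩ : ∃ q, (line₁ R' (Spec.map f ≫ str)).e.left q = y :=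
        (Over.forget S |>.mapIso (asIso (line₁ R' (Spec.map f ≫ str)).e)).hom.surjective y
      refine TopologicalSpace.Opens.mem_sup.2 (Or.inl ?_)
      have hx' : (pD R' (Spec.map f ≫ str) ≫ ιU).left x =
          (Cross.ιP str f.hom ≫ j R str ≫ l₁ R str).left q := by
        rw [← k₁, show j R' (Spec.map f ≫ str) ≫ l₁ R' _ =
          (line₁ R' (Spec.map f ≫ str)).e ≫ subι R' _ (O₁ R' _) from (line₁ R' _).e_fac.symm]
        change ιU.left x.1 = ιU.left ((line₁ R' (Spec.map f ≫ str)).e.left q).1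
        rw [hq]
      rw [hx']
      exact Cross.range_jl₁ R str ⟨_, rfl⟩
    · have := (line₂ R' (Spec.map f ≫ str)).iso_e
      let y : ↥(sub R' (Spec.map f ≫ str) (O₂ R' _)).left := ⟨x.1, hx⟩
      obtain ⟨q, hq⟩ : ∃ q, (line₂ R' (Spec.map f ≫ str)).e.left q = y :=
        (Over.forget S |>.mapIso (asIso (line₂ R' (Spec.map f ≫ str)).e)).hom.surjective y
      refine TopologicalSpace.Opens.mem_sup.2 (Or.inr ?_)
      have hx' : (pD R' (Spec.map f ≫ str) ≫ ιU).left x =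
          (Cross.ιP str f.hom ≫ j R str ≫ l₂ R str).left q := by
        rw [← k₂, show j R' (Spec.map f ≫ str) ≫ l₂ R' _ =
          (line₂ R' (Spec.map f ≫ str)).e ≫ subι R' _ (O₂ R' _) from (line₂ R' _).e_fac.symm]
        change ιU.left x.1 = ιU.left ((line₂ R' (Spec.map f ≫ str)).e.left q).1
        rw [hq]
      rw [hx']
      exact Cross.range_jl₂ R str ⟨_, rfl⟩
  obtain ⟨ιD, hD⟩ := Cross.exists_factor R str _ range
  exact ⟨ιU, ιD, Cross.ιP str f.hom, e0, hD, k₁, k₂⟩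

/-- A relation applies to lifts through the punctured line. -/
theorem Rel.apply (h : IsFibGrpd 𝒳.p) {ℓ : Line R str} {ξu ζ : 𝒳.obj} (hξu : 𝒳.p.obj ξu = U R str)
    {m : ξu ⟶ ξu} {fa fb : ξu ⟶ ζ} (hr : Rel ℓ m fa fb) {V : Over S} (k : V ⟶ P R str) {z : 𝒳.obj}
    (w : z ⟶ ξu) (hw : 𝒳.p.IsHomLift (k ≫ j R str ≫ ℓ.l) w) : w ≫ fb = w ≫ m ≫ fa := by
  obtain ⟨ξP, v, hv⟩ := exists_lift h hξu (j R str ≫ ℓ.l)
  have := cart h v hv
  let θ := Functor.IsStronglyCartesian.map 𝒳.p (j R str ≫ ℓ.l) v (g := k) rfl w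
  have eθ : θ ≫ v = w := Functor.IsStronglyCartesian.fac _ _ _ _ _
  rw [← eθ, Category.assoc, Category.assoc, hr v hv]

/-- Twists pull back to twists. -/
theorem IsTwist.restrict (h : IsFibGrpd 𝒳.p) {G : Doubled R str} {G' : Doubled R' str'}
    {hT : T R' str' ⟶ T R str} {ιU : U R' str' ⟶ U R str} {k : P R' str' ⟶ P R str}
    (hπ : ιU ≫ π R str = π R' str' ≫ hT)
    (hk₁ : (j R' str' ≫ (line₁ R' str').l) ≫ ιU = k ≫ j R str ≫ (line₁ R str).l)
    (hk₂ : (j R' str' ≫ (line₂ R' str').l) ≫ ιU = k ≫ j R str ≫ (line₂ R str).l)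
    {F : G'.pt ⟶ G.pt} (hFa : G'.ja ≫ F = ιU ≫ G.ja) (hFb : G'.jb ≫ F = ιU ≫ G.jb)
    {η η' ξu ξu' ξ ξ' : 𝒳.obj} (A : ξu ⟶ η) (hA : 𝒳.p.IsHomLift (π R str) A)
    (A' : ξu' ⟶ η') (hA' : 𝒳.p.IsHomLift (π R' str') A') (Qη : η' ⟶ η) (hQη : 𝒳.p.IsHomLift hT Qη)
    {s : η ⟶ η} {s' : η' ⟶ η'} (hs' : 𝒳.p.IsHomLift (𝟙 (T R' str')) s') (es : s' ≫ Qη = Qη ≫ s)
    (Q : ξ' ⟶ ξ) (hQ : 𝒳.p.IsHomLift F Q) (ht : IsTwist G A s ξ) : IsTwist G' A' s' ξ' := by
  obtain ⟨-, sU, φa, φb, hsU, esU, hφa, hφb, h₁, h₂⟩ := ht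
  have hξu : 𝒳.p.obj ξu = U R str := IsHomLift.domain_eq 𝒳.p (π R str) A
  have hξu' : 𝒳.p.obj ξu' = U R' str' := IsHomLift.domain_eq 𝒳.p (π R' str') A'
  have l0 : 𝒳.p.IsHomLift (ιU ≫ π R str) (A' ≫ Qη) := by rw [hπ]; infer_instance
  have := cart h A hA
  let v := Functor.IsStronglyCartesian.map 𝒳.p (π R str) A (g := ιU) rfl (A' ≫ Qη)
  have hv : 𝒳.p.IsHomLift ιU v := Functor.IsStronglyCartesian.map_isHomLift _ _ _ _ _
  have ev : v ≫ A = A' ≫ Qη := Functor.IsStronglyCartesian.fac _ _ _ _ _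
  obtain ⟨sU', hsU', esU'⟩ := Detect.exists_pull_aut h A' hA' s' hs'
  have esv : sU' ≫ v = v ≫ sU := by
    refine ext_lift h A hA (g := ιU) inferInstance inferInstance ?_
    rw [Category.assoc, ev, reassoc_of% esU', es, Category.assoc, esU, reassoc_of% ev]
  have la : 𝒳.p.IsHomLift (G'.ja ≫ F) (v ≫ φa) := by rw [hFa]; infer_instance
  have lb : 𝒳.p.IsHomLift (G'.jb ≫ F) (v ≫ φb) := by rw [hFb]; infer_instance
  have := cart h Q hQ
  let ψa := Functor.IsStronglyCartesian.map 𝒳.p F Q (g := G'.ja) rfl (v ≫ φa)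
  let ψb := Functor.IsStronglyCartesian.map 𝒳.p F Q (g := G'.jb) rfl (v ≫ φb)
  have hψa : 𝒳.p.IsHomLift G'.ja ψa := Functor.IsStronglyCartesian.map_isHomLift _ _ _ _ _
  have hψb : 𝒳.p.IsHomLift G'.jb ψb := Functor.IsStronglyCartesian.map_isHomLift _ _ _ _ _
  have ea : ψa ≫ Q = v ≫ φa := Functor.IsStronglyCartesian.fac _ _ _ _ _
  have eb : ψb ≫ Q = v ≫ φb := Functor.IsStronglyCartesian.fac _ _ _ _ _
  refine ⟨IsHomLift.domain_eq 𝒳.p F Q, sU', ψa, ψb, hsU', esU', hψa, hψb,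
    Rel.of_comp h Q hQ (line_w G' (Or.inl rfl)) hψa hψb hsU' fun z w hw => ?_,
    Rel.of_comp h Q hQ (line_w G' (Or.inr rfl)) hψa hψb (IsHomLift.id hξu') fun z w hw => ?_⟩
  · have e1 := h₁.apply h hξu k (w ≫ v) (by rw [← hk₁]; infer_instance)
    simp only [Category.assoc] at e1
    rw [ea, eb, e1, reassoc_of% esv]
  · have e1 := h₂.apply h hξu k (w ≫ v) (by rw [← hk₂]; infer_instance)
    simp only [Category.assoc, Category.id_comp] at e1
    rw [ea, eb, e1, Category.id_comp]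

variable {φ : _root_.IsoNat.FIso 𝒳 𝒴} {ηx : 𝒳.p.Fiber (T R str)} {ηy : 𝒴.p.Fiber (T R str)}
  {ηx' : 𝒳.p.Fiber (T R' str')} {ηy' : 𝒴.p.Fiber (T R' str')}

/-- The correspondence restricts. -/
theorem Matches.restrict (h𝒳 : IsFibGrpd 𝒳.p) (h𝒴 : IsFibGrpd 𝒴.p) (hT : T R' str' ⟶ T R str)
    {ζu ζu' : 𝒳.obj} {ξu ξu' : 𝒴.obj}
    (A : ζu ⟶ ηx.1) (hA : 𝒳.p.IsHomLift (π R str) A) (B : ξu ⟶ ηy.1) (hB : 𝒴.p.IsHomLift (π R str) B)
    (A' : ζu' ⟶ ηx'.1) (hA' : 𝒳.p.IsHomLift (π R' str') A') (B' : ξu' ⟶ ηy'.1)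
    (hB' : 𝒴.p.IsHomLift (π R' str') B') (G : Doubled R str) (G' : Doubled R' str')
    (QX : ηx'.1 ⟶ ηx.1) (hQX : 𝒳.p.IsHomLift hT QX) (QY : ηy'.1 ⟶ ηy.1) (hQY : 𝒴.p.IsHomLift hT QY)
    {s : ηx.1 ⟶ ηx.1} {s' : ηx'.1 ⟶ ηx'.1} (hs' : 𝒳.p.IsHomLift (𝟙 (T R' str')) s')
    (es : s' ≫ QX = QX ≫ s) {a : ηy.1 ⟶ ηy.1} {a' : ηy'.1 ⟶ ηy'.1}
    (ha' : 𝒴.p.IsHomLift (𝟙 (T R' str')) a') (ea : a' ≫ QY = QY ≫ a)
    (hm : Matches φ A B G s a) : Matches φ A' B' G' s' a' := by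
  obtain ⟨ζ, ξ, hts, hta, hc⟩ := hm
  obtain ⟨ιU, ιD, k, hπ, hD, hk₁, hk₂⟩ := exists_base_change hT
  obtain ⟨F, hFa, hFb⟩ := G'.exists_desc (ιU ≫ G.ja) (ιU ≫ G.jb) (by
    rw [← reassoc_of% hD, ← reassoc_of% hD, G.isPB.w])
  obtain ⟨hζ, hξ, -⟩ := id hc
  obtain ⟨ζ', Q, hQ⟩ := exists_lift h𝒳 hζ F
  obtain ⟨ξ', P, hP⟩ := exists_lift h𝒴 hξ F
  exact ⟨ζ', ξ', hts.restrict h𝒳 hπ hk₁ hk₂ hFa hFb A hA A' hA' QX hQX hs' es Q hQ,
    hta.restrict h𝒴 hπ hk₁ hk₂ hFa hFb B hB B' hB' QY hQY ha' ea P hP, hc.restrict h𝒴 Q hQ P hP⟩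

end Groth.Agent.H14.IsoNat.Twists
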