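import Groth.Agent.H14.IsoNat.Cross
import Mathlib.RingTheory.Spectrum.Prime.Topology

/-!
Change of the base ring of the line; the punctured lines are open in the cross.
-/

set_option autoImplicit false
set_option linter.style.haveILetI false
set_option backward.isDefEq.respectTransparency false
set_option backward.isDefEq.respectTransparency.types false

universe u

open CategoryTheory CategoryTheory.Limits AlgebraicGeometry Polynomial

namespace Groth.Agent.H14.IsoNat.Cross

variable {S : Scheme.{u}} (R : Type u) [CommRing R] (str : Spec (CommRingCat.of R) ⟶ S)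

theorem fst_mul_eq_zero {b : ring R} (h : (b : R[X] × R[X]).1 = 0) : b * e₁ R = 0 :=
  Subtype.ext (Prod.ext (by simp [e₁, h]) (by simp [e₁]))

theorem snd_mul_eq_zero {b : ring R} (h : (b : R[X] × R[X]).2 = 0) : b * e₂ R = 0 :=
  Subtype.ext (Prod.ext (by simp [e₂]) (by simp [e₂, h]))

theorem isLocalization_line (f : ring R →+* R[X]) (e : ring R) (hf : f e = X)
    (hs : ∀ p : R[X], ∃ b : ring R, f b = p * X) (hk : ∀ b, f b = 0 → b * e = 0) :
    letI := ((algebraMap R[X] (Localization.Away (X : R[X]))).comp f).toAlgebra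
    IsLocalization.Away e (Localization.Away (X : R[X])) := by
  letI := ((algebraMap R[X] (Localization.Away (X : R[X]))).comp f).toAlgebra
  have hm : ∀ b, algebraMap (ring R) (Localization.Away (X : R[X])) b = algebraMap _ _ (f b) :=
    fun b => rfl
  have hinj : Function.Injective (algebraMap R[X] (Localization.Away (X : R[X]))) :=
    IsLocalization.injective _ (Submonoid.powers_le.2 (monic_X.mem_nonZeroDivisors))
  refine IsLocalization.Away.mk e ?_ (fun z => ?_) (fun a b hab => ?_)
  · rw [hm, hf]; exact IsLocalization.Away.algebraMap_isUnit (X : R[X])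
  · obtain ⟨n, p, hp⟩ := IsLocalization.Away.surj (X : R[X]) z
    obtain ⟨b, hb⟩ := hs p
    refine ⟨n + 1, b, ?_⟩
    rw [hm, hm, hf, hb, map_mul, ← hp, pow_succ, mul_assoc]
  · refine ⟨1, ?_⟩
    have h1 : f (a - b) = 0 := hinj (by rw [map_zero, map_sub, map_sub, ← hm, ← hm, hab, sub_self])
    have h2 := hk _ h1
    rw [pow_one, mul_comm e, mul_comm e, ← sub_eq_zero, ← sub_mul]
    exact h2

theorem exists_isIso_of_localization (f : ring R →+* R[X]) (e : ring R)
    (hL : letI := ((algebraMap R[X] (Localization.Away (X : R[X]))).comp f).toAlgebra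
      IsLocalization.Away e (Localization.Away (X : R[X])))
    (l : L R str ⟶ U R str) (hl : l.left = Spec.map (CommRingCat.ofHom f))
    (O : (U R str).left.Opens) (hO : O = PrimeSpectrum.basicOpen e) :
    ∃ g : P R str ⟶ sub R str O, IsIso g ∧ g ≫ subι R str O = j R str ≫ l := by
  letI := ((algebraMap R[X] (Localization.Away (X : R[X]))).comp f).toAlgebra
  have := hL
  have hcomp : (j R str ≫ l).left =
      Spec.map (CommRingCat.ofHom (algebraMap (ring R) (Localization.Away (X : R[X])))) := by
    rw [Over.comp_left, hl]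
    exact (Spec.map_comp _ _).symm
  have hoi : IsOpenImmersion (j R str ≫ l).left := hcomp ▸ IsOpenImmersion.of_isLocalization e
  have hrange : Set.range (j R str ≫ l).left = (O : Set (U R str).left) := by
    rw [hcomp, hO]
    exact PrimeSpectrum.localization_away_comap_range (Localization.Away (X : R[X])) e
  obtain ⟨g, hg⟩ := exists_factor R str (j R str ≫ l) (le_of_eq hrange)
  refine ⟨g, ?_, hg⟩
  have hoi' : IsOpenImmersion g.left := by
    have : IsOpenImmersion (g.left ≫ O.ι) := by
      rw [show g.left ≫ O.ι = (j R str ≫ l).left from congrArg (fun m : P R str ⟶ U R str => m.left) hg]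
      exact hoi
    exact IsOpenImmersion.of_comp g.left O.ι
  have : Surjective g.left := ⟨fun p => by
    obtain ⟨q, hq⟩ : (O.ι p) ∈ Set.range (j R str ≫ l).left := hrange.symm ▸ p.2
    refine ⟨q, O.ι.isOpenEmbedding.injective ?_⟩
    rw [← hq, ← hg]
    rfl⟩
  have : IsIso g.left := (isIso_iff_isOpenImmersion_and_surjective _).2 ⟨hoi', this⟩
  have : IsIso ((Over.forget S).map g) := this
  exact isIso_of_reflects_iso g (Over.forget S)

theorem exists_isIso₁ : ∃ g : P R str ⟶ sub R str (O₁ R str), IsIso g ∧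
    g ≫ subι R str (O₁ R str) = j R str ≫ l₁ R str :=
  exists_isIso_of_localization R str (fstHom R) (e₁ R)
    (isLocalization_line R (fstHom R) (e₁ R) rfl
      (fun p => ⟨⟨(p * X, 0), by show (p * X).eval 0 = (0 : R[X]).eval 0; simp⟩, rfl⟩)
      fun _ h => fst_mul_eq_zero R h) _ rfl _ rfl

theorem exists_isIso₂ : ∃ g : P R str ⟶ sub R str (O₂ R str), IsIso g ∧
    g ≫ subι R str (O₂ R str) = j R str ≫ l₂ R str :=
  exists_isIso_of_localization R str (sndHom R) (e₂ R)
    (isLocalization_line R (sndHom R) (e₂ R) rfl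
      (fun p => ⟨⟨(0, p * X), by show (0 : R[X]).eval 0 = (p * X).eval 0; simp⟩, rfl⟩)
      fun _ h => snd_mul_eq_zero R h) _ rfl _ rfl

variable {R} {R' : Type u} [CommRing R'] (φ : R →+* R')

/-- The base change of the base. -/
noncomputable def ιT : T R' (Spec.map (CommRingCat.ofHom φ) ≫ str) ⟶ T R str :=
  Over.homMk (Spec.map (CommRingCat.ofHom φ))

/-- The base change of the line. -/
noncomputable def ιL : L R' (Spec.map (CommRingCat.ofHom φ) ≫ str) ⟶ L R str :=
  Over.homMk (Spec.map (CommRingCat.ofHom (mapRingHom φ))) (by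
    change Spec.map _ ≫ Spec.map _ ≫ str = Spec.map _ ≫ Spec.map _ ≫ str
    rw [← Category.assoc, ← Category.assoc, ← Spec.map_comp, ← Spec.map_comp, ← CommRingCat.ofHom_comp,
      ← CommRingCat.ofHom_comp,
      show (mapRingHom φ).comp C = (C : R' →+* R'[X]).comp φ from RingHom.ext fun a => map_C φ])

/-- The base change of the punctured line. -/
noncomputable def ιP : P R' (Spec.map (CommRingCat.ofHom φ) ≫ str) ⟶ P R str :=
  Over.homMk (Spec.map (CommRingCat.ofHom (IsLocalization.Away.lift (X : R[X])
    (g := (algebraMap R'[X] (Localization.Away (X : R'[X]))).comp (mapRingHom φ))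
    (by rw [RingHom.comp_apply, coe_mapRingHom, map_X]
        exact IsLocalization.Away.algebraMap_isUnit (X : R'[X])))))
  (by
    change Spec.map _ ≫ Spec.map _ ≫ Spec.map _ ≫ str =
      Spec.map _ ≫ Spec.map _ ≫ Spec.map _ ≫ str
    simp only [← Category.assoc, ← Spec.map_comp, ← CommRingCat.ofHom_comp]
    refine congrArg (fun f => Spec.map (CommRingCat.ofHom f) ≫ str) (RingHom.ext fun a => ?_)
    simp)

theorem ιP_j : ιP str φ ≫ j R str = j R' _ ≫ ιL str φ := by
  ext1
  change Spec.map _ ≫ Spec.map _ = Spec.map _ ≫ Spec.map _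
  rw [← Spec.map_comp, ← Spec.map_comp, ← CommRingCat.ofHom_comp, ← CommRingCat.ofHom_comp,
    IsLocalization.Away.lift_comp]

theorem zero_ιL : zero R' _ ≫ ιL str φ = ιT str φ ≫ zero R str := by
  ext1
  change Spec.map _ ≫ Spec.map _ = Spec.map _ ≫ Spec.map _
  rw [← Spec.map_comp, ← Spec.map_comp, ← CommRingCat.ofHom_comp, ← CommRingCat.ofHom_comp]
  refine congrArg (fun f => Spec.map (CommRingCat.ofHom f)) (RingHom.ext fun a => ?_)
  simp [Polynomial.eval_map, Polynomial.coeff_zero_eq_eval_zero]

theorem ιL_πL : ιL str φ ≫ πL R str = πL R' _ ≫ ιT str φ := by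
  ext1
  change Spec.map _ ≫ Spec.map _ = Spec.map _ ≫ Spec.map _
  rw [← Spec.map_comp, ← Spec.map_comp, ← CommRingCat.ofHom_comp, ← CommRingCat.ofHom_comp,
    show (mapRingHom φ).comp C = (C : R' →+* R'[X]).comp φ from RingHom.ext fun a => map_C φ]

end Groth.Agent.H14.IsoNat.Cross
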