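import Groth.Agent.H14.IsoNat.AutExt
import Groth.Agent.S10262

/-!
Automorphisms of objects on an unramified chart: where two agree is open and closed.
-/

set_option autoImplicit false
set_option backward.isDefEq.respectTransparency false
set_option backward.isDefEq.respectTransparency.types false

universe u

open CategoryTheory CategoryTheory.Limits AlgebraicGeometry Groth.Agent.Lib.Fibred.Descent

namespace Groth.Agent.H14.IsoNat.Unram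

open Groth.Agent.Lib.AlgStack
open FibCat (IsFibGrpd overCat fpFst toSelf inertiaToBase)
open AlgSt (spMapOfOver RepByAlgSpWith)
open AlgSp (Sp yon RepWith LocP)

variable {S : Scheme.{u}} {𝒳 : AlgSt.Cat S}

/-- Where two maps to a space over another agree. -/
theorem exists_equalizer {P : MorphismProperty Scheme.{u}} {G F : Sp S} {γ : G ⟶ F}
    (hd : RepWith P (pullback.diagonal γ)) {W : Over S} (g g' : (yon S).obj W ⟶ G)
    (hγ : g ≫ γ = g' ≫ γ) :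
    ∃ (Z : Over S) (c : Z ⟶ W), P c.left ∧ (yon S).map c ≫ g = (yon S).map c ≫ g' ∧
      ∀ {T : Over S} (k : T ⟶ W), (yon S).map k ≫ g = (yon S).map k ≫ g' → ∃ l, l ≫ c = k := by
  let pr : (yon S).obj W ⟶ pullback γ γ := pullback.lift g g' hγ
  have hrep : (yon S).relativelyRepresentable (pullback.diagonal γ) := hd.rep
  have sq := hrep.isPullback pr
  refine ⟨_, hrep.snd pr, Lib.AlgSpace.repWith_property hd sq, ?_, fun {T} k hk => ?_⟩
  · have e1 := congrArg (fun m => m ≫ pullback.fst γ γ) sq.w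
    have e2 := congrArg (fun m => m ≫ pullback.snd γ γ) sq.w
    simp [pr] at e1 e2
    exact e1.symm.trans e2
  · obtain ⟨l, hl⟩ := (yon S).map_surjective
      (sq.lift ((yon S).map k ≫ g) ((yon S).map k) (by
        apply pullback.hom_ext
        · simp [pr]
        · simp [pr, hk]))
    exact ⟨l, (yon S).map_injective (by rw [Functor.map_comp, hl]; exact sq.lift_snd _ _ _)⟩

/-- Two endomorphisms agree along `k`. -/
def EqAlong {W : Over S} {ξ : 𝒳.obj} (a b : ξ ⟶ ξ) {T : Over S} (k : T ⟶ W) : Prop :=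
  ∀ ⦃z : 𝒳.obj⦄ (ψ : z ⟶ ξ), 𝒳.p.IsHomLift k ψ → ψ ≫ a = ψ ≫ b

theorem eqAlong_of_one (h : IsFibGrpd 𝒳.p) {W T : Over S} {ξ z : 𝒳.obj} {a b : ξ ⟶ ξ} {k : T ⟶ W}
    (ψ : z ⟶ ξ) (hψ : 𝒳.p.IsHomLift k ψ) (e : ψ ≫ a = ψ ≫ b) : EqAlong a b k := by
  intro z' ψ' hψ'
  obtain ⟨θ, -, rfl⟩ := exists_factor h ψ hψ ψ' hψ'
  rw [Category.assoc, e, Category.assoc]

theorem EqAlong.comp (h : IsFibGrpd 𝒳.p) {W T T' : Over S} {ξ : 𝒳.obj} (hξ : 𝒳.p.obj ξ = W)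
    {a b : ξ ⟶ ξ} {k : T ⟶ W} (he : EqAlong a b k) (l : T' ⟶ T) : EqAlong a b (l ≫ k) := by
  obtain ⟨z, ψ, hψ⟩ := exists_lift h hξ k
  obtain ⟨z', ρ, hρ⟩ := exists_lift h (IsHomLift.domain_eq 𝒳.p k ψ) l
  exact eqAlong_of_one h (ρ ≫ ψ) inferInstance (by rw [Category.assoc, he ψ hψ, Category.assoc])

variable {W : Over S} {ξ : 𝒳.obj}

theorem eq_iff_tri (h : IsFibGrpd 𝒳.p) (hξ : 𝒳.p.obj ξ = W) {η : 𝒳.obj}
    (e₀ : (Yoneda.fromObj h hξ).obj (Over.mk (𝟙 W)) ≅ ξ) (he₀ : 𝒳.p.IsHomLift (𝟙 W) e₀.hom)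
    (a b : ξ ⟶ ξ) (ε : ξ ⟶ η) [IsIso ε] {T : Over S} (k : T ⟶ W) (s : Over W)
    (ms : s ⟶ Over.mk (𝟙 W)) (hms : 𝒳.p.IsHomLift k ((Yoneda.fromObj h hξ).map ms)) :
    EqAlong a b k ↔ (Yoneda.fromObj h hξ).map ms ≫ e₀.hom ≫ a ≫ ε =
      (Yoneda.fromObj h hξ).map ms ≫ e₀.hom ≫ b ≫ ε := by
  have h2 : 𝒳.p.IsHomLift k ((Yoneda.fromObj h hξ).map ms ≫ e₀.hom) := inferInstance
  constructor
  · intro he
    have := he _ h2
    rw [Category.assoc, Category.assoc] at this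
    rw [reassoc_of% this]
  · intro e
    refine eqAlong_of_one h _ h2 ?_
    rw [← cancel_mono ε]
    simpa using e

/-- Agreement is closed. -/
theorem exists_closed (h : IsFibGrpd 𝒳.p)
    (hi : RepByAlgSpWith AlgSp.IsSeparatedMor (inertiaToBase (toSelf 𝒳))) (hξ : 𝒳.p.obj ξ = W)
    (a b : ξ ⟶ ξ) (ha : 𝒳.p.IsHomLift (𝟙 W) a) (hb : 𝒳.p.IsHomLift (𝟙 W) b) :
    ∃ (Z : Over S) (c : Z ⟶ W), IsClosedImmersion c.left ∧ EqAlong a b c ∧
      ∀ {T : Over S} (k : T ⟶ W), EqAlong a b k → ∃ l, l ≫ c = k := by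
  obtain ⟨ε, hε⟩ := Yoneda.exists_fromObj_iso h hξ
  let c : overCat W ⥤ᵇ 𝒳 := Yoneda.fromObj h hξ
  have hεi : 𝒳.p.IsHomLift (𝟙 W) ε.inv := IsHomLift.lift_id_inv 𝒳.p _ ε
  let q : InDict.AutTri c W := ⟨𝟙 W, ε.hom ≫ a ≫ ε.inv, inferInstance⟩
  let q' : InDict.AutTri c W := ⟨𝟙 W, ε.hom ≫ b ≫ ε.inv, inferInstance⟩
  obtain ⟨G, eG, heG, hG⟩ := hi W c
  obtain ⟨g, hg⟩ := InDict.exists_map h heG q
  obtain ⟨g', hg'⟩ := InDict.exists_map h heG q'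
  have key : ∀ {T : Over S} (k : T ⟶ W),
      EqAlong a b k ↔ (yon S).map k ≫ g = (yon S).map k ≫ g' := by
    intro T k
    obtain ⟨t, ht⟩ := InDict.exists_pull h k q
    obtain ⟨t', ht'⟩ := InDict.exists_pull h k q'
    obtain ⟨m, v, hv⟩ := t
    obtain ⟨m', v', hv'⟩ := t'
    obtain rfl := ht.m
    obtain rfl := ht'.m
    let mk' : Over.mk (k ≫ 𝟙 W) ⟶ Over.mk (𝟙 W) := Over.homMk k rfl
    have h1 : 𝒳.p.IsHomLift k (c.map mk') := Yoneda.map_isHomLift c mk'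
    have ea : c.map mk' ≫ ε.hom ≫ a ≫ ε.inv = v ≫ c.map mk' := ht.a
    have eb : c.map mk' ≫ ε.hom ≫ b ≫ ε.inv = v' ≫ c.map mk' := ht'.a
    rw [eq_iff_tri h hξ ε hε a b ε.inv k _ mk' h1, ea, eb]
    constructor
    · intro e
      obtain rfl : v = v' := ext_lift h _ h1 hv hv' e
      exact InDict.map_unique h heG (InDict.rel_comp h hg ht) (InDict.rel_comp h hg' ht')
    · intro e
      have := InDict.aut_unique h (InDict.rel_comp h hg ht) (e ▸ InDict.rel_comp h hg' ht')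
      simp only [InDict.AutTri.mk.injEq, heq_eq_eq] at this
      rw [this.2]
  obtain ⟨Z, cZ, hcZ, hcg, huniv⟩ := exists_equalizer (P := @IsClosedImmersion) hG g g'
    ((InDict.comp_fst h hg).trans (InDict.comp_fst h hg').symm)
  exact ⟨Z, cZ, hcZ, (key cZ).2 hcg, fun k hk => huniv k ((key k).1 hk)⟩

variable {U : Over S} {x : overCat U ⥤ᵇ 𝒳}

/-- Agreement is open on an unramified chart. -/
theorem exists_open (h : IsFibGrpd 𝒳.p)
    (hx : RepByAlgSpWith (LocP (@LocallyOfFiniteType ⊓ @FormallyUnramified)) x) (hξ : 𝒳.p.obj ξ = W)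
    (r : W ⟶ U) (ε₁ : ξ ⟶ x.obj (Over.mk r)) (hε₁ : 𝒳.p.IsHomLift (𝟙 W) ε₁)
    (a b : ξ ⟶ ξ) (ha : 𝒳.p.IsHomLift (𝟙 W) a) (hb : 𝒳.p.IsHomLift (𝟙 W) b) :
    ∃ (Z : Over S) (c : Z ⟶ W), IsOpenImmersion c.left ∧ EqAlong a b c ∧
      ∀ {T : Over S} (k : T ⟶ W), EqAlong a b k → ∃ l, l ≫ c = k := by
  obtain ⟨ε, hε⟩ := Yoneda.exists_fromObj_iso h hξ
  have := Lib.Fibred.StackLemmas.isIso_of_vertical h ε₁ hε₁
  let c : overCat W ⥤ᵇ 𝒳 := Yoneda.fromObj h hξ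
  let q : Dict.Tri c x W := ⟨𝟙 W, r, ε.hom ≫ a ≫ ε₁, inferInstance⟩
  let q' : Dict.Tri c x W := ⟨𝟙 W, r, ε.hom ≫ b ≫ ε₁, inferInstance⟩
  obtain ⟨G, eG, heG, hG⟩ := hx W c
  obtain ⟨g, hg⟩ := Dict.exists_map h heG q
  obtain ⟨g', hg'⟩ := Dict.exists_map h heG q'
  have key : ∀ {T : Over S} (k : T ⟶ W),
      EqAlong a b k ↔ (yon S).map k ≫ g = (yon S).map k ≫ g' := by
    intro T k
    obtain ⟨t, ht⟩ := Dict.exists_pull h k q
    obtain ⟨t', ht'⟩ := Dict.exists_pull h k q'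
    obtain ⟨s, m, v, hv⟩ := t
    obtain ⟨s', m', v', hv'⟩ := t'
    obtain rfl := ht.s
    obtain rfl := ht'.s
    obtain rfl := ht.r
    obtain rfl := ht'.r
    let mk' : Over.mk (k ≫ 𝟙 W) ⟶ Over.mk (𝟙 W) := Over.homMk k rfl
    let mr : Over.mk (k ≫ r) ⟶ Over.mk r := Over.homMk k rfl
    have h1 : 𝒳.p.IsHomLift k (c.map mk') := Yoneda.map_isHomLift c mk'
    have h2 : 𝒳.p.IsHomLift k (x.map mr) := Yoneda.map_isHomLift x mr
    have ea : c.map mk' ≫ ε.hom ≫ a ≫ ε₁ = v ≫ x.map mr := ht.θ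
    have eb : c.map mk' ≫ ε.hom ≫ b ≫ ε₁ = v' ≫ x.map mr := ht'.θ
    rw [eq_iff_tri h hξ ε hε a b ε₁ k _ mk' h1, ea, eb]
    constructor
    · intro e
      obtain rfl : v = v' := ext_lift h _ h2 hv hv' e
      exact Dict.map_unique h heG (Dict.rel_comp h hg ht) (Dict.rel_comp h hg' ht')
    · intro e
      have := Dict.tri_unique h (Dict.rel_comp h hg ht) (e ▸ Dict.rel_comp h hg' ht')
      simp only [Dict.Tri.mk.injEq, heq_eq_eq] at this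
      rw [this.2.2]
  have hd := (Groth.Agent.S10262.result (X := G) (Y := ⟨(yon S).obj W, AlgSp.IsAlgSpace.yon_obj W⟩)
    (ObjectProperty.homMk (spMapOfOver (BasedFunctor.comp eG (fpFst c x))))).1 hG
  obtain ⟨Z, cZ, hcZ, hcg, huniv⟩ := exists_equalizer (P := @IsOpenImmersion) hd g g'
    ((Dict.comp_fst h hg).trans (Dict.comp_fst h hg').symm)
  exact ⟨Z, cZ, hcZ, (key cZ).2 hcg, fun k hk => huniv k ((key k).1 hk)⟩

end Groth.Agent.H14.IsoNat.Unram
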