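import Groth.Agent.H14.IsoNat.Detect
import Groth.Agent.H14.IsoNat.Unram

/-!
Automorphisms trivial on a subscheme are seen by isomorphism classes.
-/

set_option autoImplicit false
set_option backward.isDefEq.respectTransparency false
set_option backward.isDefEq.respectTransparency.types false
set_option maxHeartbeats 800000

universe u

open CategoryTheory CategoryTheory.Limits AlgebraicGeometry Groth.Agent.Lib.Fibred.Descent

namespace Groth.Agent.H14.IsoNat.Detect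

open Groth.Agent.Lib.Fibred.StackLemmas (isIso_of_vertical)
open FibCat (IsFibGrpd toSelf inertiaToBase)
open AlgSt (RepByAlgSpWith IsAlgStack)

variable {S : Scheme.{u}} {𝒳 : AlgSt.Cat S} (R : Type u) [CommRing R]
  (str : Spec (CommRingCat.of R) ⟶ S)

open Cross (U T L P π πL zero j sub subι O₁ O₂)

/-- If objects glued from two copies of the pullback of `η` which split on the preimage of a closed
subscheme split, `η` has no automorphism trivial on that subscheme. -/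
theorem eq_id_of_twist (h : IsAlgStack Scheme.fppfPrecoverage 𝒳)
    (hi : RepByAlgSpWith AlgSp.IsSeparatedMor (inertiaToBase (toSelf 𝒳)))
    {η ξu : 𝒳.obj} (Pu : ξu ⟶ η) (hPu : 𝒳.p.IsHomLift (π R str) Pu)
    {X : Over S} (ia ib : U R str ⟶ X) (hia : IsOpenImmersion ia.left) (hib : IsOpenImmersion ib.left)
    (hcov : ∀ x : ↥X.left, x ∈ Set.range ia.left ∨ x ∈ Set.range ib.left)
    (hpb : IsPullback (subι R str (O₁ R str ⊔ O₂ R str)) (subι R str (O₁ R str ⊔ O₂ R str)) ia ib)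
    (pX : X ⟶ T R str) (hpa : ia ≫ pX = π R str) (hpb' : ib ≫ pX = π R str)
    {T₀ : Over S} (ι₀ : T₀ ⟶ T R str)
    (huniq : ∀ (ξ : 𝒳.obj) (φa φb : ξu ⟶ ξ), 𝒳.p.obj ξ = X →
      𝒳.p.IsHomLift ia φa → 𝒳.p.IsHomLift ib φb →
      (∀ (X₀ : Over S) (f₀ : X₀ ⟶ X) (v : X₀ ⟶ T₀), f₀ ≫ pX = v ≫ ι₀ → ∀ (ξ₀ : 𝒳.obj) (P₀ : ξ₀ ⟶ ξ),
        𝒳.p.IsHomLift f₀ P₀ → ∃ G₀ : ξ₀ ⟶ η, 𝒳.p.IsHomLift (f₀ ≫ pX) G₀) →
      ∃ t : ξ ⟶ η, 𝒳.p.IsHomLift pX t)
    (k : η ⟶ η) (hk : 𝒳.p.IsHomLift (𝟙 (T R str)) k)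
    (hk₀ : Unram.EqAlong k (𝟙 η) ι₀) : k = 𝟙 η := by
  have hG := h.isStack.1
  have hξu : 𝒳.p.obj ξu = U R str := IsHomLift.domain_eq 𝒳.p (π R str) Pu
  let O := O₁ R str ⊔ O₂ R str
  obtain ⟨ξd, pd, hpd⟩ := exists_lift hG hξu (subι R str O)
  have hξd : 𝒳.p.obj ξd = sub R str O := IsHomLift.domain_eq 𝒳.p (subι R str O) pd
  let cD : Glue2.Cov (sub R str O) := Double.union (O₁ R str) (O₂ R str)
  obtain ⟨ξ₁, q₁, hq₁⟩ := exists_lift hG hξd cD.ia
  obtain ⟨ξ₂, q₂, hq₂⟩ := exists_lift hG hξd cD.ib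
  have s1 : cD.ia ≫ subι R str O = subι R str (O₁ R str) := by ext1; exact Scheme.homOfLE_ι _ le_sup_left
  have s2 : cD.ib ≫ subι R str O = subι R str (O₂ R str) := by ext1; exact Scheme.homOfLE_ι _ le_sup_right
  have hr₁ : 𝒳.p.IsHomLift (subι R str (O₁ R str)) (q₁ ≫ pd) := by rw [← s1]; infer_instance
  have hr₂ : 𝒳.p.IsHomLift (subι R str (O₂ R str)) (q₂ ≫ pd) := by rw [← s2]; infer_instance
  -- the automorphism on the first punctured line
  obtain ⟨k₁, hk₁, ek₁⟩ := exists_pull_aut hG ((q₁ ≫ pd) ≫ Pu)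
    (inferInstance : 𝒳.p.IsHomLift (subι R str (O₁ R str) ≫ π R str) ((q₁ ≫ pd) ≫ Pu)) k hk
  have hk₁' : 𝒳.p.IsHomLift (𝟙 cD.A) k₁ := hk₁
  have hξ₁ : 𝒳.p.obj ξ₁ = cD.A := IsHomLift.domain_eq 𝒳.p cD.ia q₁
  obtain ⟨ξe, re₁, hre₁⟩ := exists_lift hG hξ₁ cD.da
  have hre : 𝒳.p.IsHomLift (cD.db ≫ cD.ib) (re₁ ≫ q₁) := by rw [← cD.w]; infer_instance
  have := cart hG q₂ hq₂
  let re₂ := Functor.IsStronglyCartesian.map 𝒳.p cD.ib q₂ (g := cD.db) rfl (re₁ ≫ q₁)
  have hre₂ : 𝒳.p.IsHomLift cD.db re₂ := Functor.IsStronglyCartesian.map_isHomLift _ _ _ _ _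
  have ere : re₂ ≫ q₂ = re₁ ≫ q₁ := Functor.IsStronglyCartesian.fac _ _ _ _ _
  have : IsEmpty ↥cD.D.left := ⟨fun x => by
    have h1 : (x.1 : ↥(U R str).left) ∈ ((O₁ R str ⊓ O₂ R str : (U R str).left.Opens) : Set _) := x.2
    have h2 := congrArg (fun W : (U R str).left.Opens => x.1 ∈ (W : Set _)) (Cross.O₁_inf_O₂ R str)
    exact cast h2 h1⟩
  obtain ⟨σ, hσ, eσ₁, eσ₂⟩ := Glue2.exists_desc hG (stackFor h (Double.union_covers _ _)).2.1 hξd hξd
    hre₁ q₁ q₂ hq₁ hq₂ ere.symm (k₁ ≫ q₁) q₂ inferInstance hq₂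
    (eq_of_isEmpty h (f := cD.da ≫ cD.ia) _ _ inferInstance (by rw [cD.w]; infer_instance)) hre₂
  -- the twisted object
  let cX : Glue2.Cov X := ⟨_, _, _, ia, ib, subι R str O, subι R str O,
    (Over.forget S).mono_of_mono_map (inferInstanceAs (Mono ia.left)),
    (Over.forget S).mono_of_mono_map (inferInstanceAs (Mono ib.left)), hpb⟩
  have hmem := Double.sieve_mem cX hia hib hcov
  have hX := stackFor h hmem
  have hσd : 𝒳.p.IsHomLift (subι R str O) (σ ≫ pd) := inferInstance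
  obtain ⟨ξ, φa, φb, hξ, hφa, hφb, hφ⟩ :=
    Glue2.exists_glue (c := cX) hG hξu hξu hσd hpd hX.2.2
  have hφa' : 𝒳.p.IsHomLift ia φa := hφa
  have hφb' : 𝒳.p.IsHomLift ib φb := hφb
  have hη : 𝒳.p.obj η = T R str := IsHomLift.codomain_eq 𝒳.p (π R str) Pu
  obtain ⟨ξ', Q, hQ⟩ := exists_lift hG hη pX
  have hξ' : 𝒳.p.obj ξ' = X := IsHomLift.domain_eq 𝒳.p pX Q
  have := cart hG Q hQ
  let ψa := Functor.IsStronglyCartesian.map 𝒳.p pX Q (g := ia) hpa.symm Pu
  let ψb := Functor.IsStronglyCartesian.map 𝒳.p pX Q (g := ib) hpb'.symm Pu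
  have hψa : 𝒳.p.IsHomLift ia ψa := Functor.IsStronglyCartesian.map_isHomLift _ _ _ _ _
  have hψb : 𝒳.p.IsHomLift ib ψb := Functor.IsStronglyCartesian.map_isHomLift _ _ _ _ _
  have eψa : ψa ≫ Q = Pu := Functor.IsStronglyCartesian.fac _ _ _ _ _
  have eψb : ψb ≫ Q = Pu := Functor.IsStronglyCartesian.fac _ _ _ _ _
  have hs : subι R str O ≫ ia = subι R str O ≫ ib := hpb.w
  obtain ⟨t, ht⟩ := huniq ξ φa φb hξ hφa' hφb' fun X₀ f₀ v hv ξ₀ P₀ hP₀ => by
    obtain ⟨t₀, ht₀⟩ := Glue2.exists_desc_pullback (c := cX) (pa := σ ≫ pd) (pb := pd) hG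
      (stackFor h ((AlgSp.J S).pullback_stable f₀ hmem)).2.1 hξ' P₀ hP₀ hσd hpd φa φb hφa' hφb' hφ
      ψa ψb hψa hψb fun V kd m hm z w hw => by
        have hwσ : w ≫ σ = w := by
          have hz : 𝒳.p.obj z = V := IsHomLift.domain_eq 𝒳.p kd w
          have hσ' : 𝒳.p.IsHomLift kd (w ≫ σ) := inferInstance
          obtain ⟨ν, hν, eν⟩ := exists_factor hG w hw (w ≫ σ) hσ'
          have hν1 : ν = 𝟙 z := by
            refine (stackFor h ((AlgSp.J S).pullback_stable kd (Double.union_covers _ _))).1 ν (𝟙 z) hν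
              (IsHomLift.id hz) fun V' g hg z' ρ hρ => ?_
            refine ext_lift hG w hw (g := g) inferInstance inferInstance ?_
            simp only [Category.assoc, Category.id_comp]
            rw [eν]
            rcases (show cD.sieve (g ≫ kd) from hg) with ⟨ka, hka⟩ | ⟨kb, hkb⟩
            · have := cart hG q₁ hq₁
              let θ := Functor.IsStronglyCartesian.map 𝒳.p cD.ia q₁ (g := ka) hka.symm (ρ ≫ w)
              have hθ : 𝒳.p.IsHomLift ka θ := Functor.IsStronglyCartesian.map_isHomLift _ _ _ _ _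
              have eθ : θ ≫ q₁ = ρ ≫ w := Functor.IsStronglyCartesian.fac _ _ _ _ _
              rw [← reassoc_of% eθ, eσ₁, ← eθ, ← Category.assoc]
              congr 1
              refine ext_lift hG ((q₁ ≫ pd) ≫ Pu) (f := subι R str (O₁ R str) ≫ π R str) inferInstance
                (g := ka) inferInstance hθ ?_
              rw [Category.assoc θ, ek₁, ← Category.assoc θ]
              have hbase : ka ≫ subι R str (O₁ R str) ≫ π R str = (g ≫ m ≫ v) ≫ ι₀ := by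
                rw [← s1, Category.assoc cD.ia, ← Category.assoc ka, hka]
                have e1 : (kd ≫ subι R str O ≫ ia) ≫ pX = (m ≫ f₀) ≫ pX := by rw [hm]
                simp only [Category.assoc, hpa, hv] at e1
                simp only [Category.assoc, e1]
              have hl : 𝒳.p.IsHomLift ((g ≫ m ≫ v) ≫ ι₀) (θ ≫ (q₁ ≫ pd) ≫ Pu) := by
                rw [← hbase]; infer_instance
              rw [(hk₀.comp hG hη (g ≫ m ≫ v)) _ hl, Category.comp_id]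
            · have := cart hG q₂ hq₂
              let θ := Functor.IsStronglyCartesian.map 𝒳.p cD.ib q₂ (g := kb) hkb.symm (ρ ≫ w)
              have eθ : θ ≫ q₂ = ρ ≫ w := Functor.IsStronglyCartesian.fac _ _ _ _ _
              rw [← reassoc_of% eθ, eσ₂, eθ]
          rw [← eν, hν1, Category.id_comp]
        have hd : pd ≫ ψa = pd ≫ ψb := by
          refine ext_lift hG Q hQ (g := subι R str O ≫ ia) inferInstance (by rw [hs]; infer_instance) ?_
          rw [Category.assoc, Category.assoc, eψa, eψb]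
        simp only [Category.assoc]
        rw [reassoc_of% hwσ, hd]
    exact ⟨t₀ ≫ Q, inferInstance⟩
  obtain ⟨ga, hga, ega⟩ := exists_factor hG Pu hPu (φa ≫ t) (by rw [← hpa]; infer_instance)
  obtain ⟨gb, hgb, egb⟩ := exists_factor hG Pu hPu (φb ≫ t) (by rw [← hpb']; infer_instance)
  have hstar : σ ≫ pd ≫ ga = pd ≫ gb := by
    refine ext_lift hG Pu hPu (g := subι R str O) inferInstance inferInstance ?_
    simp only [Category.assoc]
    rw [ega, egb]
    simpa only [Category.assoc] using congrArg (fun m => m ≫ t) hφ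
  -- evaluate at the origin
  obtain ⟨g₁, hg₁⟩ := Cross.exists_factor R str _ (Cross.range_jl₁ R str)
  obtain ⟨g₂, hg₂⟩ := Cross.exists_factor R str _ (Cross.range_jl₂ R str)
  have hz : (zero R str ≫ Cross.l₁ R str) ≫ π R str = 𝟙 _ := by
    rw [Category.assoc, Cross.l₁_π, Cross.zero_πL]
  have h1 : 𝒳.p.IsHomLift ((zero R str ≫ Cross.l₁ R str) ≫ π R str) (𝟙 η) := by
    rw [hz]; exact IsHomLift.id hη
  have := cart hG Pu hPu
  let o := Functor.IsStronglyCartesian.map 𝒳.p (π R str) Pu (g := zero R str ≫ Cross.l₁ R str) rfl (𝟙 η)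
  have ho : 𝒳.p.IsHomLift (zero R str ≫ Cross.l₁ R str) o :=
    Functor.IsStronglyCartesian.map_isHomLift _ _ _ _ _
  have eo : o ≫ Pu = 𝟙 η := Functor.IsStronglyCartesian.fac _ _ _ _ _
  have L1 := line R str hG hi _ (Cross.l₁_π R str) g₁ hg₁ Pu hPu (q₁ ≫ pd) hr₁ ga gb hga hgb k hk
    k₁ hk₁ (by simpa [Category.assoc] using ek₁)
    (by rw [Category.assoc, ← reassoc_of% eσ₁, hstar, Category.assoc]) o ho eo
  have ho₂ : 𝒳.p.IsHomLift (zero R str ≫ Cross.l₂ R str) o := by rw [Cross.zero_l₂]; exact ho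
  have L2 := line R str hG hi _ (Cross.l₂_π R str) g₂ hg₂ Pu hPu (q₂ ≫ pd) hr₂ ga gb hga hgb (𝟙 η)
    (IsHomLift.id hη) (𝟙 ξ₂) (IsHomLift.id (IsHomLift.domain_eq 𝒳.p cD.ib q₂))
    (by simp)
    (by rw [Category.id_comp, Category.assoc, ← reassoc_of% eσ₂, hstar, Category.assoc]) o ho₂ eo
  rw [Category.id_comp, ← L1] at L2
  have h4 : 𝒳.p.IsHomLift (𝟙 (T R str)) (o ≫ ga ≫ Pu) := by
    rw [← hz]; infer_instance
  have := isIso_of_vertical hG (o ≫ ga ≫ Pu) h4
  rw [← cancel_mono (o ≫ ga ≫ Pu), Category.id_comp]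
  have h5 := congrArg (fun m => m ≫ Pu) L2
  simp only [Category.assoc] at h5
  exact h5.symm

end Groth.Agent.H14.IsoNat.Detect
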