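import Groth.Agent.H14.IsoNat.KerTriv
import Groth.Agent.H14.IsoNat.Main
import Groth.Agent.Lib.AlgSpMor.LocP

/-!
Charts corresponding under isomorphisms of presheaves of isomorphism classes share unramifiedness and
étaleness.
-/

set_option autoImplicit false
set_option backward.isDefEq.respectTransparency false
set_option backward.isDefEq.respectTransparency.types false
set_option maxHeartbeats 800000

universe u

open CategoryTheory CategoryTheory.Limits AlgebraicGeometry Opposite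

namespace Groth.Agent.H14.IsoNat.EtaleCorr

open Groth.Agent.Lib.AlgStack
open FibCat (IsEquivOver fp fpFst overCat toSelf inertiaToBase)
open AlgSt (spMapOfOver RepByAlgSpWith IsAlgStack)
open AlgSp (Sp yon IsAlgSpace LocP RepWith)

variable {S : Scheme.{u}} {𝒳 𝒴 : AlgSt.Cat S} {φ : _root_.IsoNat.FIso 𝒳 𝒴} {U : Over S}
  {x : overCat U ⥤ᵇ 𝒳} {y : overCat U ⥤ᵇ 𝒴}

theorem formallyUnramified_chart (h𝒳 : IsAlgStack Scheme.fppfPrecoverage 𝒳)
    (h𝒴 : IsAlgStack Scheme.fppfPrecoverage 𝒴)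
    (hsi : RepByAlgSpWith AlgSp.IsSeparatedMor (inertiaToBase (toSelf 𝒳)))
    (hsi' : RepByAlgSpWith AlgSp.IsSeparatedMor (inertiaToBase (toSelf 𝒴)))
    (hc : Corr φ x y) (hx : RepByAlgSpWith (LocP (@LocallyOfFiniteType ⊓ @FormallyUnramified)) x)
    {V : Over S} {v : overCat V ⥤ᵇ 𝒴} {G : AlgSp.Space S} {e : AlgSt.ofSp G.obj ⥤ᵇ fp v y}
    (he : IsEquivOver e) {P : Over S} {p : (yon S).obj P ⟶ G.obj} (hp : RepWith @Etale p)
    {t : Dict.Tri v y P} (ht : Dict.Rel e h𝒴.isStack.1 p t) : FormallyUnramified t.s.left := by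
  have g𝒳 := h𝒳.isStack.1
  have g𝒴 := h𝒴.isStack.1
  let 𝒲 : {q : V.left.affineOpens × P.left.affineOpens // q.2.1 ≤ t.s.left ⁻¹ᵁ q.1.1} → P.left.Opens :=
    fun q => q.1.2.1
  have h𝒲 : ⨆ q, 𝒲 q = ⊤ := by
    refine top_le_iff.1 fun z _ => ?_
    obtain ⟨O, hO, hzO, -⟩ := exists_isAffineOpen_mem_and_subset (U := ⊤)
      (show t.s.left z ∈ (⊤ : V.left.Opens) from trivial)
    obtain ⟨W, hW, hzW, hWO⟩ := exists_isAffineOpen_mem_and_subset (U := t.s.left ⁻¹ᵁ O)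
      (show z ∈ t.s.left ⁻¹ᵁ O from hzO)
    exact TopologicalSpace.Opens.mem_iSup.2 ⟨⟨(⟨O, hO⟩, ⟨W, hW⟩), hWO⟩, hzW⟩
  refine (IsZariskiLocalAtSource.iff_of_iSup_eq_top (P := @FormallyUnramified) 𝒲 h𝒲).2 ?_
  rintro ⟨⟨O, W⟩, hWO⟩
  let W' : Over S := Over.mk (W.1.ι ≫ P.hom)
  let O' : Over S := Over.mk (O.1.ι ≫ V.hom)
  have : IsAffine O'.left := O.2
  have : IsAffine W'.left := W.2
  let i : O' ⟶ V := Over.homMk O.1.ι rfl
  let iW : W' ⟶ P := Over.homMk W.1.ι rfl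
  have hr : Set.range (W.1.ι ≫ t.s.left) ⊆ Set.range O.1.ι := by
    rw [Scheme.Opens.range_ι]
    rintro _ ⟨w, rfl⟩
    exact hWO w.2
  let k : W' ⟶ O' := Over.homMk (IsOpenImmersion.lift O.1.ι (W.1.ι ≫ t.s.left) hr) (by
    change _ ≫ O.1.ι ≫ V.hom = W.1.ι ≫ P.hom
    rw [IsOpenImmersion.lift_fac_assoc, Category.assoc, Over.w t.s])
  have hiW : Etale iW.left := inferInstanceAs (Etale W.1.ι)
  obtain ⟨tW, htW⟩ := Dict.exists_pull g𝒴 iW t
  have hk : k ≫ i = tW.s := by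
    rw [htW.s]; ext : 1; exact IsOpenImmersion.lift_fac _ _ _
  have hu : FormallyUnramified k.left :=
    UnramCorr.formallyUnramified_restrict g𝒳 g𝒴 hc hx
      (KerTriv.kerTrivial_of_corr h𝒳 h𝒴 hsi hsi' hc hx) he i
      (Lib.AlgSpMor.LocP.repWith_etale_comp iW hp) (Dict.rel_comp g𝒴 ht htW) k hk
  change FormallyUnramified (W.1.ι ≫ t.s.left)
  rw [← IsOpenImmersion.lift_fac O.1.ι (W.1.ι ≫ t.s.left) hr]
  exact MorphismProperty.comp_mem @FormallyUnramified k.left O.1.ι hu inferInstance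

theorem unramified_of_corr (h𝒳 : IsAlgStack Scheme.fppfPrecoverage 𝒳)
    (h𝒴 : IsAlgStack Scheme.fppfPrecoverage 𝒴)
    (hsi : RepByAlgSpWith AlgSp.IsSeparatedMor (inertiaToBase (toSelf 𝒳)))
    (hsi' : RepByAlgSpWith AlgSp.IsSeparatedMor (inertiaToBase (toSelf 𝒴)))
    (hi' : RepByAlgSpWith (LocP @LocallyOfFinitePresentation) (inertiaToBase (toSelf 𝒴)))
    (hc : Corr φ x y) (hfp : RepByAlgSpWith (LocP @LocallyOfFinitePresentation) x)
    (hx : RepByAlgSpWith (LocP (@LocallyOfFiniteType ⊓ @FormallyUnramified)) x) :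
    RepByAlgSpWith (LocP (@LocallyOfFiniteType ⊓ @FormallyUnramified)) y := by
  intro V v
  have g𝒳 := h𝒳.isStack.1
  have g𝒴 := h𝒴.isStack.1
  obtain ⟨G, e, he, hlfp⟩ := Main.lfp_of_corr g𝒳 h𝒴 hi' hc hfp V v
  refine ⟨G, e, he, ?_⟩
  obtain ⟨P, p, hp, hps⟩ := G.property.atlas
  obtain ⟨t, ht⟩ := Dict.exists_tri (e := e) g𝒴 p
  have : LocallyOfFinitePresentation t.s.left := Lfp.lfp_of_chart hlfp hp (Dict.comp_fst g𝒴 ht)
  refine Lib.AlgSpMor.LocP.locP_of_chart Lib.AlgSpMor.LocP.unramified G.property.diag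
    (IsAlgSpace.yon_obj V).diag hp hps (b := 𝟙 _) (h := t.s) (AlgSp.repWith_id _ _)
    (by rw [Category.comp_id]; exact Dict.comp_fst g𝒴 ht) ⟨inferInstance, ?_⟩
  exact formallyUnramified_chart h𝒳 h𝒴 hsi hsi' hc hx he hp ht

theorem etale_of_corr (h𝒳 : IsAlgStack Scheme.fppfPrecoverage 𝒳)
    (h𝒴 : IsAlgStack Scheme.fppfPrecoverage 𝒴)
    (hsi : RepByAlgSpWith AlgSp.IsSeparatedMor (inertiaToBase (toSelf 𝒳)))
    (hsi' : RepByAlgSpWith AlgSp.IsSeparatedMor (inertiaToBase (toSelf 𝒴)))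
    (hi' : RepByAlgSpWith (LocP @LocallyOfFinitePresentation) (inertiaToBase (toSelf 𝒴)))
    (hc : Corr φ x y) (hx : RepByAlgSpWith AlgSp.IsEtaleMor x) :
    RepByAlgSpWith AlgSp.IsEtaleMor y := by
  have hx' := SliceEtale.etale_locP hx
  have hxs : RepByAlgSpWith (LocP @Smooth) x := fun V v => by
    obtain ⟨G, e, he, h⟩ := hx' V v
    exact ⟨G, e, he, fun U V a b k h1 h2 w => by
      have : Etale k.left := h a b k h1 h2 w
      infer_instance⟩
  have hxu : RepByAlgSpWith (LocP (@LocallyOfFiniteType ⊓ @FormallyUnramified)) x := fun V v => by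
    obtain ⟨G, e, he, h⟩ := hx' V v
    exact ⟨G, e, he, fun U V a b k h1 h2 w => by
      have : Etale k.left := h a b k h1 h2 w
      exact ⟨inferInstance, inferInstance⟩⟩
  have g𝒳 := h𝒳.isStack.1
  have hy := Main.smooth_of_corr g𝒳 h𝒴 hi' hc hxs
  refine SliceEtale.of_locP_etale fun V v => ?_
  obtain ⟨G, e, he, hs⟩ := hy V v
  obtain ⟨P, p, hp, hps⟩ := G.property.atlas
  obtain ⟨t, ht⟩ := Dict.exists_tri (e := e) h𝒴.isStack.1 p
  refine ⟨G, e, he, Lib.AlgSpMor.LocP.locP_of_chart Lib.SourceDescent.Scheme.etale G.property.diag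
    (IsAlgSpace.yon_obj V).diag hp hps (b := 𝟙 _) (h := t.s) (AlgSp.repWith_id _ _)
    (by rw [Category.comp_id]; exact Dict.comp_fst h𝒴.isStack.1 ht) ?_⟩
  have : Smooth t.s.left := hs p (𝟙 _) t.s hp (AlgSp.repWith_id _ _)
    (by rw [Category.comp_id]; exact Dict.comp_fst h𝒴.isStack.1 ht)
  have : FormallyUnramified t.s.left := formallyUnramified_chart h𝒳 h𝒴 hsi hsi' hc hxu he hp ht
  exact Etale.of_formallyUnramified_of_flat t.s.left

end Groth.Agent.H14.IsoNat.EtaleCorr
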