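import Groth.Agent.H14.IsoNat.Lifts

/-!
The thickening glued from a family of copies of one thickening, and maps out of it.
-/

set_option autoImplicit false
set_option backward.isDefEq.respectTransparency false
set_option backward.isDefEq.respectTransparency.types false

universe u

open CategoryTheory CategoryTheory.Limits AlgebraicGeometry Opposite

namespace Groth.Agent.H14.IsoNat.Family

variable {S : Scheme.{u}} (Z : Thick S) (ι : Type u)

/-- Families of elements congruent modulo the ideal. -/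
def ring : Subring (ι → Z.A) where
  carrier := {r | ∀ i k, Ideal.Quotient.mk Z.I (r i) = Ideal.Quotient.mk Z.I (r k)}
  mul_mem' := fun ha hb i k => by simp only [Pi.mul_apply, map_mul, ha i k, hb i k]
  one_mem' := fun i k => rfl
  add_mem' := fun ha hb i k => by simp only [Pi.add_apply, map_add, ha i k, hb i k]
  zero_mem' := fun i k => rfl
  neg_mem' := fun ha i k => by simp only [Pi.neg_apply, map_neg, ha i k]

variable {ι}

/-- The component of a family. -/
def eval (i : ι) : ring Z ι →+* Z.A := (Pi.evalRingHom (fun _ : ι => Z.A) i).comp (ring Z ι).subtype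

theorem mk_eval (i k : ι) :
    (Ideal.Quotient.mk Z.I).comp (eval Z i) = (Ideal.Quotient.mk Z.I).comp (eval Z k) :=
  RingHom.ext fun r => r.2 i k

/-- The reduction of a family. -/
def red (i : ι) : ring Z ι →+* Z.A ⧸ Z.I := (Ideal.Quotient.mk Z.I).comp (eval Z i)

theorem surjective_red (i : ι) : Function.Surjective (red Z i) := fun a => by
  obtain ⟨a, rfl⟩ := Ideal.Quotient.mk_surjective a
  exact ⟨⟨fun _ => a, fun _ _ => rfl⟩, rfl⟩

theorem ker_sq (i : ι) : RingHom.ker (red Z i) ^ 2 = ⊥ := by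
  rw [pow_two, eq_bot_iff, Ideal.mul_le]
  intro a ha b hb
  refine Subtype.ext (funext fun k => ?_)
  have ha' : (a.1 k) ∈ Z.I := Ideal.Quotient.eq_zero_iff_mem.1 ((a.2 k i).trans ha)
  have hb' : (b.1 k) ∈ Z.I := Ideal.Quotient.eq_zero_iff_mem.1 ((b.2 k i).trans hb)
  have := Ideal.mul_mem_mul ha' hb'
  rw [← pow_two, Z.sq_zero, Ideal.mem_bot] at this
  exact this

/-- A family of maps to an affine scheme with the same restriction is one map from the glued
thickening. -/
theorem exists_glue {V : Over S} [IsAffine V.left] (i₀ : ι) (v₀ : Z.pt₀ ⟶ V) (w : ι → (Z.pt ⟶ V))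
    (hw : ∀ i, Z.j ≫ w i = v₀) :
    ∃ (Z' : Thick S) (pr : ι → (Z.pt ⟶ Z'.pt)) (e : Z.pt₀ ≅ Z'.pt₀) (v' : Z'.pt ⟶ V),
      (∀ i, pr i ≫ v' = w i) ∧ (∀ i, Z.j ≫ pr i = e.hom ≫ Z'.j) := by
  obtain ⟨ρ, hρ⟩ := Classical.axiom_of_choice (fun i => Spec.map_surjective ((w i).left ≫ V.left.isoSpec.hom))
  have hρ' : ∀ i, (Ideal.Quotient.mk Z.I).comp (ρ i).hom = (Ideal.Quotient.mk Z.I).comp (ρ i₀).hom := by
    intro i
    have h1 : Spec.map (ρ i ≫ CommRingCat.ofHom (Ideal.Quotient.mk Z.I)) =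
        Spec.map (ρ i₀ ≫ CommRingCat.ofHom (Ideal.Quotient.mk Z.I)) := by
      rw [Spec.map_comp, Spec.map_comp, hρ i, hρ i₀, ← Category.assoc, ← Category.assoc]
      have h2 : Z.j ≫ w i = Z.j ≫ w i₀ := (hw i).trans (hw i₀).symm
      exact congrArg (fun f => f ≫ V.left.isoSpec.hom) (congrArg (fun f : Z.pt₀ ⟶ V => f.left) h2)
    exact congrArg CommRingCat.Hom.hom (Spec.map_injective h1)
  let R : Γ(V.left, ⊤) ⟶ CommRingCat.of (ring Z ι) := CommRingCat.ofHom
    ((RingHom.codRestrict (RingHom.pi fun i => (ρ i).hom) (ring Z ι)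
      (fun a i k => RingHom.congr_fun ((hρ' i).trans (hρ' k).symm) a)))
  let Z' : Thick S :=
    { A := ring Z ι
      I := RingHom.ker (red Z i₀)
      sq_zero := ker_sq Z i₀
      str := (Spec.map R ≫ V.left.isoSpec.inv) ≫ V.hom }
  let v' : Z'.pt ⟶ V := Over.homMk (Spec.map R ≫ V.left.isoSpec.inv) rfl
  have hev : ∀ i, Spec.map (CommRingCat.ofHom (eval Z i)) ≫ Spec.map R ≫ V.left.isoSpec.inv = (w i).left := by
    intro i
    rw [← Category.assoc, ← Spec.map_comp]
    have : R ≫ CommRingCat.ofHom (eval Z i) = ρ i := rfl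
    rw [this, hρ i, Category.assoc, Iso.hom_inv_id, Category.comp_id]
  let pr : ι → (Z.pt ⟶ Z'.pt) := fun i => Over.homMk (Spec.map (CommRingCat.ofHom (eval Z i))) (by
    change Spec.map (CommRingCat.ofHom (eval Z i)) ≫ (Spec.map R ≫ V.left.isoSpec.inv) ≫ V.hom = Z.str
    rw [Category.assoc, ← Category.assoc (Spec.map R), ← Category.assoc, hev i]
    exact Over.w (w i))
  let q : CommRingCat.of (ring Z ι ⧸ RingHom.ker (red Z i₀)) ≅ CommRingCat.of (Z.A ⧸ Z.I) :=
    (RingHom.quotientKerEquivOfSurjective (surjective_red Z i₀)).toCommRingCatIso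
  have hq : CommRingCat.ofHom (Ideal.Quotient.mk (RingHom.ker (red Z i₀))) ≫ q.hom =
      CommRingCat.ofHom (red Z i₀) := by
    ext r
    exact RingHom.quotientKerEquivOfSurjective_apply_mk (surjective_red Z i₀) r
  have hpr : ∀ i, Spec.map (CommRingCat.ofHom (Ideal.Quotient.mk Z.I)) ≫
      Spec.map (CommRingCat.ofHom (eval Z i)) = Spec.map q.hom ≫
        Spec.map (CommRingCat.ofHom (Ideal.Quotient.mk (RingHom.ker (red Z i₀)))) := by
    intro i
    rw [← Spec.map_comp, ← Spec.map_comp, hq, ← CommRingCat.ofHom_comp]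
    exact congrArg (fun f => Spec.map (CommRingCat.ofHom f)) (mk_eval Z i i₀)
  let e : Z.pt₀ ≅ Z'.pt₀ := Over.isoMk (Scheme.Spec.mapIso q.op) (by
    change Spec.map q.hom ≫ Spec.map (CommRingCat.ofHom (Ideal.Quotient.mk (RingHom.ker (red Z i₀)))) ≫
      Z'.str = Spec.map (CommRingCat.ofHom (Ideal.Quotient.mk Z.I)) ≫ Z.str
    have hw' : Spec.map (CommRingCat.ofHom (eval Z i₀)) ≫ Z'.str = Z.str := Over.w (pr i₀)
    rw [← Category.assoc, ← hpr i₀, Category.assoc, hw'])
  refine ⟨Z', pr, e, v', fun i => ?_, fun i => ?_⟩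
  · ext : 1
    exact hev i
  · ext : 1
    exact hpr i

end Groth.Agent.H14.IsoNat.Family
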