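import Groth.Agent.H14.IsoNat.Family

/-!
Two copies of a thickening glued along the closed subscheme, with the folding map.
-/

set_option autoImplicit false
set_option backward.isDefEq.respectTransparency false
set_option backward.isDefEq.respectTransparency.types false

universe u

open CategoryTheory CategoryTheory.Limits AlgebraicGeometry Opposite

namespace Groth.Agent.H14.IsoNat.Fold

variable {S : Scheme.{u}}

/-- Two lifts to an affine scheme over an affine scheme give one map from the glued thickening. -/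
theorem exists_fold (Z : Thick S) {W O : Over S} [IsAffine W.left] [IsAffine O.left] (k : W ⟶ O)
    (a a' : Z.pt ⟶ W) (h₀ : Z.j ≫ a = Z.j ≫ a') (hk : a ≫ k = a' ≫ k) :
    ∃ (T : Over S) (pr pr' : Z.pt ⟶ T) (q : T ⟶ Z.pt) (a'' : T ⟶ W),
      pr ≫ q = 𝟙 _ ∧ pr' ≫ q = 𝟙 _ ∧ pr ≫ a'' = a ∧ pr' ≫ a'' = a' ∧
      Z.j ≫ pr = Z.j ≫ pr' ∧ a'' ≫ k = q ≫ a ≫ k := by
  let ι := ULift.{u} Bool
  let R := Family.ring Z ι
  let cst : Z.A →+* R := (RingHom.pi fun _ : ι => RingHom.id Z.A).codRestrict R fun _ _ _ => rfl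
  obtain ⟨ρ, hρ⟩ := Spec.map_surjective (a.left ≫ W.left.isoSpec.hom)
  obtain ⟨ρ', hρ'⟩ := Spec.map_surjective (a'.left ≫ W.left.isoSpec.hom)
  have hq : (Ideal.Quotient.mk Z.I).comp ρ.hom = (Ideal.Quotient.mk Z.I).comp ρ'.hom := by
    have h1 : Spec.map (ρ ≫ CommRingCat.ofHom (Ideal.Quotient.mk Z.I)) =
        Spec.map (ρ' ≫ CommRingCat.ofHom (Ideal.Quotient.mk Z.I)) := by
      rw [Spec.map_comp, Spec.map_comp, hρ, hρ', ← Category.assoc, ← Category.assoc]
      exact congrArg (fun f => f ≫ W.left.isoSpec.hom)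
        (congrArg (fun f : Z.pt₀ ⟶ W => f.left) h₀)
    exact congrArg CommRingCat.Hom.hom (Spec.map_injective h1)
  let g : ι → (Γ(W.left, ⊤) →+* Z.A) := fun i => if i.down then ρ'.hom else ρ.hom
  have hg : ∀ i, (Ideal.Quotient.mk Z.I).comp (g i) = (Ideal.Quotient.mk Z.I).comp ρ.hom := by
    rintro ⟨_ | _⟩
    · rfl
    · exact hq.symm
  let P : Γ(W.left, ⊤) ⟶ CommRingCat.of R := CommRingCat.ofHom ((RingHom.pi g).codRestrict R
    fun b i j => RingHom.congr_fun ((hg i).trans (hg j).symm) b)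
  let T : Over S := Over.mk (Spec.map (CommRingCat.ofHom cst) ≫ Z.str)
  have hc : ∀ i : ι, Spec.map (CommRingCat.ofHom (Family.eval Z i)) ≫ Spec.map (CommRingCat.ofHom cst) = 𝟙 _ := by
    intro i
    rw [← Spec.map_comp, ← CommRingCat.ofHom_comp]
    exact (congrArg (fun f => Spec.map (CommRingCat.ofHom f)) (RingHom.ext fun b => rfl)).trans (Spec.map_id _)
  let pr : ι → (Z.pt ⟶ T) := fun i => Over.homMk (Spec.map (CommRingCat.ofHom (Family.eval Z i))) (by
    change _ ≫ Spec.map (CommRingCat.ofHom cst) ≫ Z.str = Z.str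
    rw [← Category.assoc, hc i, Category.id_comp])
  let q : T ⟶ Z.pt := Over.homMk (Spec.map (CommRingCat.ofHom cst))
  let m : T.left ⟶ W.left := Spec.map P ≫ W.left.isoSpec.inv
  have hev : ∀ i, Spec.map (CommRingCat.ofHom (Family.eval Z i)) ≫ m =
      Spec.map (CommRingCat.ofHom (g i)) ≫ W.left.isoSpec.inv := by
    intro i
    change _ ≫ Spec.map P ≫ _ = _
    rw [← Category.assoc, ← Spec.map_comp]
    rfl
  have hm : Spec.map (CommRingCat.ofHom (Family.eval Z ⟨false⟩)) ≫ m = a.left ∧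
      Spec.map (CommRingCat.ofHom (Family.eval Z ⟨true⟩)) ≫ m = a'.left := by
    constructor
    · rw [hev]; change Spec.map ρ ≫ _ = _
      rw [hρ, Category.assoc, Iso.hom_inv_id, Category.comp_id]
    · rw [hev]; change Spec.map ρ' ≫ _ = _
      rw [hρ', Category.assoc, Iso.hom_inv_id, Category.comp_id]
  have hmk : m ≫ k.left = q.left ≫ (a ≫ k).left := by
    obtain ⟨μ, hμ⟩ := Spec.map_surjective (m ≫ k.left ≫ O.left.isoSpec.hom)
    obtain ⟨ν, hν⟩ := Spec.map_surjective (q.left ≫ (a ≫ k).left ≫ O.left.isoSpec.hom)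
    have key : ∀ i, μ ≫ CommRingCat.ofHom (Family.eval Z i) = ν ≫ CommRingCat.ofHom (Family.eval Z i) := by
      intro i
      apply Spec.map_injective
      rw [Spec.map_comp, Spec.map_comp, hμ, hν]
      have h2 : Spec.map (CommRingCat.ofHom (Family.eval Z i)) ≫ q.left = 𝟙 _ := hc i
      rw [reassoc_of% h2]
      rcases i with ⟨_ | _⟩
      · rw [reassoc_of% hm.1, Over.comp_left, Category.assoc]
      · rw [reassoc_of% hm.2, hk, Over.comp_left, Category.assoc]
    have e : μ = ν := CommRingCat.hom_ext (RingHom.ext fun b => Subtype.ext (funext fun i =>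
      RingHom.congr_fun (congrArg CommRingCat.Hom.hom (key i)) b))
    rw [← cancel_mono O.left.isoSpec.hom]
    exact (Category.assoc _ _ _).trans (hμ.symm.trans ((congrArg Spec.map e).trans
      (hν.trans (Category.assoc _ _ _).symm)))
  let a'' : T ⟶ W := Over.homMk m (by
    rw [← Over.w k, ← Category.assoc, hmk, Category.assoc, Over.w (a ≫ k)]
    rfl)
  refine ⟨T, pr ⟨false⟩, pr ⟨true⟩, q, a'', ?_, ?_, ?_, ?_, ?_, ?_⟩
  · ext1; exact hc _
  · ext1; exact hc _
  · ext1; exact hm.1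
  · ext1; exact hm.2
  · ext1
    change Spec.map _ ≫ Spec.map _ = Spec.map _ ≫ Spec.map _
    rw [← Spec.map_comp, ← Spec.map_comp, ← CommRingCat.ofHom_comp, ← CommRingCat.ofHom_comp]
    exact congrArg (fun f => Spec.map (CommRingCat.ofHom f)) (Family.mk_eval Z (⟨false⟩ : ι) ⟨true⟩)
  · ext1; exact hmk

end Groth.Agent.H14.IsoNat.Fold
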