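import Groth.Agent.H14.IsoNat.Twists

/-!
Twists of a constant object, and their characterisation by restriction to the doubled lines.
-/

set_option autoImplicit false
set_option backward.isDefEq.respectTransparency false
set_option backward.isDefEq.respectTransparency.types false
set_option maxHeartbeats 800000

universe u

open CategoryTheory CategoryTheory.Limits AlgebraicGeometry Groth.Agent.Lib.Fibred.Descent

namespace Groth.Agent.H14.IsoNat.Twists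

open Groth.Agent.Lib.Fibred.StackLemmas (isIso_of_vertical)
open FibCat (IsFibGrpd toSelf inertiaToBase)
open AlgSt (RepByAlgSpWith IsAlgStack)
open Cross (U T L P π πL zero j l₁ l₂ sub subι O₁ O₂)

variable {S : Scheme.{u}} {𝒳 : AlgSt.Cat S} {R : Type u} [CommRing R]
  {str : Spec (CommRingCat.of R) ⟶ S}

/-- The doubled cross. -/
abbrev Doubled (R : Type u) [CommRing R] (str : Spec (CommRingCat.of R) ⟶ S) : Type (u + 1) :=
  Glued₂ (pD R str) (pD R str)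

/-- The doubled line. -/
abbrev DoubledLine (R : Type u) [CommRing R] (str : Spec (CommRingCat.of R) ⟶ S) : Type (u + 1) :=
  Glued₂ (j R str) (j R str)

/-- An object on the doubled cross is the twist of `η` by `s`. -/
def IsTwist (G : Doubled R str) {η ξu : 𝒳.obj} (A : ξu ⟶ η) (s : η ⟶ η) (ξ : 𝒳.obj) : Prop :=
  𝒳.p.obj ξ = G.pt ∧ ∃ (sU : ξu ⟶ ξu) (φa φb : ξu ⟶ ξ), 𝒳.p.IsHomLift (𝟙 (U R str)) sU ∧
    sU ≫ A = A ≫ s ∧ 𝒳.p.IsHomLift G.ja φa ∧ 𝒳.p.IsHomLift G.jb φb ∧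
      Rel (line₁ R str) sU φa φb ∧ Rel (line₂ R str) (𝟙 ξu) φa φb

/-- The restrictions to both doubled lines are constant. -/
def IsLineTrivial (G : Doubled R str) (pX : G.pt ⟶ T R str) (η ξ : 𝒳.obj) : Prop :=
  ∀ ℓ : Line R str, ℓ = line₁ R str ∨ ℓ = line₂ R str →
    ∀ (Y : DoubledLine R str) (f : Y.pt ⟶ G.pt), Y.ja ≫ f = ℓ.l ≫ G.ja → Y.jb ≫ f = ℓ.l ≫ G.jb →
      ∀ (ξY : 𝒳.obj) (PY : ξY ⟶ ξ), 𝒳.p.IsHomLift f PY →
        ∃ g : ξY ⟶ η, 𝒳.p.IsHomLift (f ≫ pX) g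

variable {G : Doubled R str} {η ξu ξ : 𝒳.obj} (A : ξu ⟶ η) [hA : 𝒳.p.IsHomLift (π R str) A]

theorem IsTwist.of_iso {s : η ⟶ η} (ht : IsTwist G A s ξ) {ξ' : 𝒳.obj} (t : ξ ⟶ ξ')
    [h' : 𝒳.p.IsHomLift (𝟙 G.pt) t] : IsTwist G A s ξ' := by
  obtain ⟨hξ, sU, φa, φb, hsU, esU, hφa, hφb, h₁, h₂⟩ := ht
  refine ⟨IsHomLift.codomain_eq 𝒳.p (𝟙 G.pt) t, sU, φa ≫ t, φb ≫ t, hsU, esU,
    IsHomLift.comp_lift_id_right' 𝒳.p G.ja φa G.pt t,
    IsHomLift.comp_lift_id_right' 𝒳.p G.jb φb G.pt t, fun z w hw => ?_, fun z w hw => ?_⟩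
  · rw [← Category.assoc w φb, h₁ w hw, Category.assoc, Category.assoc]
  · rw [← Category.assoc w φb, h₂ w hw, Category.assoc, Category.assoc]

include hA

theorem IsTwist.conj (h : IsFibGrpd 𝒳.p) {s : η ⟶ η} (hs : 𝒳.p.IsHomLift (𝟙 (T R str)) s)
    (ht : IsTwist G A s ξ) (g : η ⟶ η) (hg : 𝒳.p.IsHomLift (𝟙 (T R str)) g) [IsIso g] :
    IsTwist G A (g ≫ s ≫ inv g) ξ := by
  obtain ⟨hξ, sU, φa, φb, hsU, esU, hφa, hφb, h₁, h₂⟩ := ht
  obtain ⟨gU, hgU, egU⟩ := Detect.exists_pull_aut h A hA g hg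
  have := isIso_of_vertical h gU hgU
  refine ⟨hξ, gU ≫ sU ≫ inv gU, gU ≫ φa, gU ≫ φb, inferInstance, ?_,
    IsHomLift.comp_lift_id_left' 𝒳.p (U R str) gU G.ja φa,
    IsHomLift.comp_lift_id_left' 𝒳.p (U R str) gU G.jb φb, fun z w hw => ?_, fun z w hw => ?_⟩
  · have e : inv gU ≫ A = A ≫ inv g := by
      rw [IsIso.inv_comp_eq, reassoc_of% egU, IsIso.hom_inv_id, Category.comp_id]
    rw [Category.assoc, Category.assoc, e, reassoc_of% esU, reassoc_of% egU]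
  · have := h₁ (w ≫ gU) inferInstance
    simp only [Category.assoc] at this ⊢
    rw [this, IsIso.inv_hom_id_assoc]
  · have := h₂ (w ≫ gU) inferInstance
    simp only [Category.assoc, Category.id_comp] at this ⊢
    exact this

omit hA in
/-- An automorphism of the common open subscheme equal to `sU` on the first line and trivial on the second. -/
theorem exists_sigma (h : IsAlgStack Scheme.fppfPrecoverage 𝒳) {sU : ξu ⟶ ξu}
    (hsU : 𝒳.p.IsHomLift (𝟙 (U R str)) sU) {ξd : 𝒳.obj} (pd : ξd ⟶ ξu)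
    (hpd : 𝒳.p.IsHomLift (pD R str) pd) :
    ∃ σ : ξd ⟶ ξd, 𝒳.p.IsHomLift (𝟙 (DO R str)) σ ∧
      ∀ ⦃ζ : 𝒳.obj⦄ (f f' : ξu ⟶ ζ), σ ≫ pd ≫ f = pd ≫ f' →
        Rel (line₁ R str) sU f f' ∧ Rel (line₂ R str) (𝟙 ξu) f f' := by
  have hG := h.isStack.1
  have hξd : 𝒳.p.obj ξd = Cross.sub R str (O₁ R str ⊔ O₂ R str) := IsHomLift.domain_eq 𝒳.p (pD R str) pd
  let cD : Glue2.Cov (DO R str) := Double.union (O₁ R str) (O₂ R str)
  obtain ⟨sD, hsD, esD⟩ := Detect.exists_pull_aut hG pd hpd sU hsU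
  obtain ⟨ξ₁, q₁, hq₁⟩ := exists_lift hG hξd cD.ia
  obtain ⟨ξ₂, q₂, hq₂⟩ := exists_lift hG hξd cD.ib
  obtain ⟨ξe, re₁, hre₁⟩ := exists_lift hG (IsHomLift.domain_eq 𝒳.p cD.ia q₁) cD.da
  have hre : 𝒳.p.IsHomLift (cD.db ≫ cD.ib) (re₁ ≫ q₁) := by rw [← cD.w]; infer_instance
  have := cart hG q₂ hq₂
  let re₂ := Functor.IsStronglyCartesian.map 𝒳.p cD.ib q₂ (g := cD.db) rfl (re₁ ≫ q₁)
  have hre₂ : 𝒳.p.IsHomLift cD.db re₂ := Functor.IsStronglyCartesian.map_isHomLift _ _ _ _ _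
  have ere : re₂ ≫ q₂ = re₁ ≫ q₁ := Functor.IsStronglyCartesian.fac _ _ _ _ _
  have : IsEmpty ↥cD.D.left := ⟨fun x => by
    have h1 : (x.1 : ↥(U R str).left) ∈ ((O₁ R str ⊓ O₂ R str : (U R str).left.Opens) : Set _) := x.2
    have h2 := congrArg (fun W : (U R str).left.Opens => x.1 ∈ (W : Set _)) (Cross.O₁_inf_O₂ R str)
    exact cast h2 h1⟩
  have hq₁s : 𝒳.p.IsHomLift cD.ia (q₁ ≫ sD) := IsHomLift.comp_lift_id_right' 𝒳.p cD.ia q₁ (DO R str) sD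
  obtain ⟨σ, hσ, eσ₁, eσ₂⟩ := Glue2.exists_desc hG (Detect.stackFor h (Double.union_covers _ _)).2.1 hξd hξd
    hre₁ q₁ q₂ hq₁ hq₂ ere.symm (q₁ ≫ sD) q₂ hq₁s hq₂
    (Detect.eq_of_isEmpty h (f := cD.da ≫ cD.ia) _ _ inferInstance (by rw [cD.w]; infer_instance)) hre₂
  have s1 : cD.ia ≫ pD R str = subι R str (O₁ R str) := by
    ext1; exact Scheme.homOfLE_ι _ le_sup_left
  have s2 : cD.ib ≫ pD R str = subι R str (O₂ R str) := by
    ext1; exact Scheme.homOfLE_ι _ le_sup_right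
  refine ⟨σ, hσ, fun ζ f f' hφ => ⟨fun z w hw => ?_, fun z w hw => ?_⟩⟩
  · have hl : 𝒳.p.IsHomLift (((line₁ R str).e ≫ cD.ia) ≫ pD R str) w := by
      rw [Category.assoc, s1]; exact (line₁ R str).e_fac.symm ▸ hw
    have := cart hG pd hpd
    let w' := Functor.IsStronglyCartesian.map 𝒳.p (pD R str) pd (g := (line₁ R str).e ≫ cD.ia) rfl w
    have hw' : 𝒳.p.IsHomLift ((line₁ R str).e ≫ cD.ia) w' :=
      Functor.IsStronglyCartesian.map_isHomLift _ _ _ _ _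
    have ew : w' ≫ pd = w := Functor.IsStronglyCartesian.fac _ _ _ _ _
    have := cart hG q₁ hq₁
    let θ := Functor.IsStronglyCartesian.map 𝒳.p cD.ia q₁ (g := (line₁ R str).e) rfl w'
    have eθ : θ ≫ q₁ = w' := Functor.IsStronglyCartesian.fac _ _ _ _ _
    rw [← ew, Category.assoc, Category.assoc, ← hφ, ← eθ]
    simp only [Category.assoc]
    rw [reassoc_of% eσ₁, reassoc_of% esD]
  · have hl : 𝒳.p.IsHomLift (((line₂ R str).e ≫ cD.ib) ≫ pD R str) w := by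
      rw [Category.assoc, s2]; exact (line₂ R str).e_fac.symm ▸ hw
    have := cart hG pd hpd
    let w' := Functor.IsStronglyCartesian.map 𝒳.p (pD R str) pd (g := (line₂ R str).e ≫ cD.ib) rfl w
    have hw' : 𝒳.p.IsHomLift ((line₂ R str).e ≫ cD.ib) w' :=
      Functor.IsStronglyCartesian.map_isHomLift _ _ _ _ _
    have ew : w' ≫ pd = w := Functor.IsStronglyCartesian.fac _ _ _ _ _
    have := cart hG q₂ hq₂
    let θ := Functor.IsStronglyCartesian.map 𝒳.p cD.ib q₂ (g := (line₂ R str).e) rfl w'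
    have eθ : θ ≫ q₂ = w' := Functor.IsStronglyCartesian.fac _ _ _ _ _
    rw [Category.id_comp, ← ew, Category.assoc, Category.assoc, ← hφ, ← eθ]
    simp only [Category.assoc]
    rw [reassoc_of% eσ₂]

theorem exists_twist (h : IsAlgStack Scheme.fppfPrecoverage 𝒳) (s : η ⟶ η)
    (hs : 𝒳.p.IsHomLift (𝟙 (T R str)) s) : ∃ ξ : 𝒳.obj, IsTwist G A s ξ := by
  have hG := h.isStack.1
  have hξu : 𝒳.p.obj ξu = U R str := IsHomLift.domain_eq 𝒳.p (π R str) A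
  obtain ⟨sU, hsU, esU⟩ := Detect.exists_pull_aut hG A hA s hs
  obtain ⟨ξd, pd, hpd⟩ := exists_lift hG hξu (pD R str)
  obtain ⟨σ, hσ, hrel⟩ := exists_sigma h hsU pd hpd
  have hσd : 𝒳.p.IsHomLift (pD R str) (σ ≫ pd) :=
    IsHomLift.comp_lift_id_left' 𝒳.p (DO R str) σ (pD R str) pd
  obtain ⟨ξ, φa, φb, hξ, hφa, hφb, hφ⟩ :=
    Glue2.exists_glue (c := G.cov) hG hξu hξu hσd hpd (Detect.stackFor h G.cov_mem).2.2
  have hφa' : 𝒳.p.IsHomLift G.ja φa := hφa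
  have hφb' : 𝒳.p.IsHomLift G.jb φb := hφb
  exact ⟨ξ, hξ, sU, φa, φb, hsU, esU, hφa', hφb', hrel φa φb ((Category.assoc _ _ _).symm.trans hφ)⟩

theorem exists_iso_of_twist (h : IsAlgStack Scheme.fppfPrecoverage 𝒳) {s : η ⟶ η} {ξ' : 𝒳.obj}
    (ht : IsTwist G A s ξ) (ht' : IsTwist G A s ξ') :
    ∃ t : ξ ⟶ ξ', 𝒳.p.IsHomLift (𝟙 G.pt) t := by
  obtain ⟨hξ, sU, φa, φb, hsU, esU, hφa, hφb, h₁, h₂⟩ := ht
  obtain ⟨hξ', sU', ψa, ψb, hsU', esU', hψa, hψb, h₁', h₂'⟩ := ht'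
  have hξu : 𝒳.p.obj ξu = U R str := IsHomLift.domain_eq 𝒳.p (π R str) A
  obtain rfl : sU = sU' := ext_lift h.isStack.1 A hA hsU hsU' (esU.trans esU'.symm)
  obtain ⟨t, ht, -, -⟩ := exists_desc_of_rel h hξu G hξ hξ' φa φb ψa ψb hφa hφb hψa hψb sU (𝟙 ξu) hsU
    (IsHomLift.id hξu) h₁ h₂ h₁' h₂'
  exact ⟨t, ht⟩

/-- The twisting automorphism is determined up to conjugacy. -/
theorem exists_conj_of_iso (h : IsAlgStack Scheme.fppfPrecoverage 𝒳)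
    (hi : RepByAlgSpWith AlgSp.IsSeparatedMor (inertiaToBase (toSelf 𝒳)))
    {s s' : η ⟶ η} {ξ' : 𝒳.obj} (ht : IsTwist G A s ξ)
    (ht' : IsTwist G A s' ξ') (t : ξ ⟶ ξ') (htl : 𝒳.p.IsHomLift (𝟙 G.pt) t) :
    ∃ g : η ⟶ η, 𝒳.p.IsHomLift (𝟙 (T R str)) g ∧ g ≫ s' = s ≫ g := by
  have hG := h.isStack.1
  obtain ⟨hξ, sU, φa, φb, hsU, esU, hφa, hφb, h₁, h₂⟩ := ht
  obtain ⟨hξ', sU', ψa, ψb, hsU', esU', hψa, hψb, h₁', h₂'⟩ := ht'
  obtain ⟨ga, hga, ega⟩ := exists_factor hG ψa hψa (φa ≫ t)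
    (IsHomLift.comp_lift_id_right' 𝒳.p G.ja φa G.pt t)
  obtain ⟨gb, hgb, egb⟩ := exists_factor hG ψb hψb (φb ≫ t)
    (IsHomLift.comp_lift_id_right' 𝒳.p G.jb φb G.pt t)
  obtain ⟨o, ho, eo⟩ := exists_origin (R := R) (str := str) A hG
  have key : ∀ (ℓ : Line R str) (m m' : ξu ⟶ ξu), 𝒳.p.IsHomLift (𝟙 (U R str)) m →
      𝒳.p.IsHomLift (𝟙 (U R str)) m' → Rel ℓ m φa φb → Rel ℓ m' ψa ψb →
      o ≫ gb ≫ m' = o ≫ m ≫ ga := by
    intro ℓ m m' hm hm' hr hr'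
    refine eq_at_origin A hG hi ℓ ho (gb ≫ m') (m ≫ ga) inferInstance inferInstance fun z w hw => ?_
    refine ext_lift hG ψa hψa (g := j R str ≫ ℓ.l) inferInstance inferInstance ?_
    have e1 := hr w hw
    have e2 := hr' (w ≫ gb) inferInstance
    simp only [Category.assoc] at e2 ⊢
    rw [← e2, egb, ega, reassoc_of% e1]
  have hξu : 𝒳.p.obj ξu = U R str := IsHomLift.domain_eq 𝒳.p (π R str) A
  have L1 := key _ sU sU' hsU hsU' h₁ h₁'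
  have L2 := key _ (𝟙 ξu) (𝟙 ξu) (IsHomLift.id hξu) (IsHomLift.id hξu) h₂ h₂'
  rw [Category.id_comp, Category.comp_id] at L2
  obtain ⟨hg, eg⟩ := origin_comp A hG ho eo ga hga
  refine ⟨o ≫ ga ≫ A, hg, ?_⟩
  have e3 := congrArg (fun m => m ≫ A) L1
  simp only [Category.assoc] at e3
  rw [esU', reassoc_of% L2] at e3
  obtain ⟨-, es⟩ := origin_comp A hG ho eo sU hsU
  have e4 : o ≫ sU ≫ A = s := by rw [esU, reassoc_of% eo]
  rw [e4] at es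
  rw [Category.assoc, Category.assoc, e3, reassoc_of% es]

theorem IsTwist.exists_hom_of_one (h : IsAlgStack Scheme.fppfPrecoverage 𝒳) {pX : G.pt ⟶ T R str}
    (hpa : G.ja ≫ pX = π R str) (hpb : G.jb ≫ pX = π R str) (ht : IsTwist G A (𝟙 η) ξ) :
    ∃ t : ξ ⟶ η, 𝒳.p.IsHomLift pX t := by
  have hG := h.isStack.1
  have hη : 𝒳.p.obj η = T R str := IsHomLift.codomain_eq 𝒳.p (π R str) A
  obtain ⟨ξ', Q, hQ⟩ := exists_lift hG hη pX
  have := cart hG Q hQ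
  let ψa := Functor.IsStronglyCartesian.map 𝒳.p pX Q (g := G.ja) hpa.symm A
  let ψb := Functor.IsStronglyCartesian.map 𝒳.p pX Q (g := G.jb) hpb.symm A
  have hψa : 𝒳.p.IsHomLift G.ja ψa := Functor.IsStronglyCartesian.map_isHomLift _ _ _ _ _
  have hψb : 𝒳.p.IsHomLift G.jb ψb := Functor.IsStronglyCartesian.map_isHomLift _ _ _ _ _
  have hξu : 𝒳.p.obj ξu = U R str := IsHomLift.domain_eq 𝒳.p (π R str) A
  have hrel : ∀ ℓ : Line R str, ℓ = line₁ R str ∨ ℓ = line₂ R str → Rel ℓ (𝟙 ξu) ψa ψb := by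
    intro ℓ hℓ z w hw
    have hj : (j R str ≫ ℓ.l) ≫ G.ja = (j R str ≫ ℓ.l) ≫ G.jb := by
      rcases hℓ with rfl | rfl
      · rw [← (line₁ R str).e_fac, Category.assoc, Category.assoc]
        congr 1
        change subι R str (O₁ R str) ≫ G.ja = subι R str (O₁ R str) ≫ G.jb
        have e : (Double.union (O₁ R str) (O₂ R str)).ia ≫ pD R str = subι R str (O₁ R str) := by
          ext1; exact Scheme.homOfLE_ι _ le_sup_left
        rw [← e, Category.assoc, Category.assoc, G.isPB.w]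
      · rw [← (line₂ R str).e_fac, Category.assoc, Category.assoc]
        congr 1
        change subι R str (O₂ R str) ≫ G.ja = subι R str (O₂ R str) ≫ G.jb
        have e : (Double.union (O₁ R str) (O₂ R str)).ib ≫ pD R str = subι R str (O₂ R str) := by
          ext1; exact Scheme.homOfLE_ι _ le_sup_right
        rw [← e, Category.assoc, Category.assoc, G.isPB.w]
    refine ext_lift hG Q hQ (g := (j R str ≫ ℓ.l) ≫ G.jb) inferInstance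
      (by rw [← hj]; simp only [Category.id_comp]; infer_instance) ?_
    simp only [ψa, ψb, Category.assoc, Category.id_comp, Functor.IsStronglyCartesian.fac]
  have hξ' : IsTwist G A (𝟙 η) ξ' :=
    ⟨IsHomLift.domain_eq 𝒳.p pX Q, 𝟙 ξu, ψa, ψb, IsHomLift.id hξu, by simp, hψa, hψb,
      hrel _ (Or.inl rfl), hrel _ (Or.inr rfl)⟩
  obtain ⟨t, htl⟩ := exists_iso_of_twist A h ht hξ'
  exact ⟨t ≫ Q, inferInstance⟩

/-- An object whose gluing extends to both lines is the twist by the quotient of the values at the origin. -/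
theorem isTwist_of_rel (h : IsAlgStack Scheme.fppfPrecoverage 𝒳) (hξ : 𝒳.p.obj ξ = G.pt)
    (φa φb : ξu ⟶ ξ) (hφa : 𝒳.p.IsHomLift G.ja φa) (hφb : 𝒳.p.IsHomLift G.jb φb)
    {o : η ⟶ ξu} (ho : 𝒳.p.IsHomLift (zero R str ≫ l₁ R str) o) (eo : o ≫ A = 𝟙 η)
    (m₁ m₂ : ξu ⟶ ξu) (hm₁ : 𝒳.p.IsHomLift (𝟙 (U R str)) m₁) (hm₂ : 𝒳.p.IsHomLift (𝟙 (U R str)) m₂)
    [hi2 : IsIso m₂] (h₁ : Rel (line₁ R str) m₁ φa φb) (h₂ : Rel (line₂ R str) m₂ φa φb) :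
    IsTwist G A (o ≫ m₁ ≫ inv m₂ ≫ A) ξ := by
  have hG := h.isStack.1
  let m := m₁ ≫ inv m₂
  have hm : 𝒳.p.IsHomLift (𝟙 (U R str)) m := inferInstance
  obtain ⟨ξL, uL, Rm, huL, hRm, eu, eA, huA⟩ := exists_lift_one A hG (line₁ R str)
  obtain ⟨κ, hκ, eκ⟩ := Detect.exists_pull_aut hG uL huL m hm
  obtain ⟨m', hm', eu', eA'⟩ := exists_spread A hG (line₁ R str) huL hRm eu huA κ hκ
  obtain ⟨hs, -⟩ := origin_comp A hG ho eo m' hm'
  obtain ⟨cU, hcU, ecU⟩ := Detect.exists_pull_aut hG A hA (o ≫ m' ≫ A) hs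
  have := isIso_of_vertical hG cU hcU
  let n := inv cU ≫ m'
  have hn : 𝒳.p.IsHomLift (𝟙 (U R str)) n := inferInstance
  have hn2 : 𝒳.p.IsHomLift G.ja ((n ≫ m₂) ≫ φa) :=
    IsHomLift.comp_lift_id_left' 𝒳.p (U R str) (n ≫ m₂) G.ja φa
  have hξu : 𝒳.p.obj ξu = U R str := IsHomLift.domain_eq 𝒳.p (π R str) A
  have := cart hG uL huL
  have hol : 𝒳.p.IsHomLift (zero R str ≫ (line₁ R str).l) o := ho
  let z0 := Functor.IsStronglyCartesian.map 𝒳.p (line₁ R str).l uL (g := zero R str) rfl o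
  have ez0 : z0 ≫ uL = o := Functor.IsStronglyCartesian.fac _ _ _ _ _
  have eval : o ≫ m₁ ≫ inv m₂ ≫ A = o ≫ m' ≫ A := by
    rw [← ez0, Category.assoc z0 uL (m' ≫ A), reassoc_of% eu', reassoc_of% eκ, Category.assoc]
    simp only [m, Category.assoc]
  rw [eval]
  refine ⟨hξ, cU, (n ≫ m₂) ≫ φa, φb, hcU, ecU, hn2, hφb, fun z w hw => ?_,
    fun z w hw => ?_⟩
  · -- on the first line
    have := cart hG uL huL
    let v := Functor.IsStronglyCartesian.map 𝒳.p (line₁ R str).l uL (g := j R str) rfl w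
    have ev : v ≫ uL = w := Functor.IsStronglyCartesian.fac _ _ _ _ _
    have e : w ≫ m' = w ≫ m := by
      rw [← ev, Category.assoc, Category.assoc, eu', ← eκ]
    simp only [n, Category.assoc, IsIso.hom_inv_id_assoc]
    rw [reassoc_of% e, h₁ w hw]
    simp [m]
  · -- on the second line
    have hw' : 𝒳.p.IsHomLift (j R str ≫ (line₂ R str).l) (w ≫ inv cU) := inferInstance
    have e : (w ≫ inv cU) ≫ m' = (w ≫ inv cU) ≫ cU :=
      spread_const A hG ho eo huL hRm eA κ m' cU hκ hm' eA' eu' hcU ecU (w ≫ inv cU) hw'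
    simp only [Category.assoc, IsIso.inv_hom_id, Category.comp_id] at e
    simp only [n, Category.assoc, Category.id_comp]
    rw [reassoc_of% e, h₂ w hw]

/-- An object with constant restrictions to the doubled lines is a twist. -/
theorem exists_isTwist (h : IsAlgStack Scheme.fppfPrecoverage 𝒳) (hξ : 𝒳.p.obj ξ = G.pt)
    (φa φb : ξu ⟶ ξ) (hφa : 𝒳.p.IsHomLift G.ja φa) (hφb : 𝒳.p.IsHomLift G.jb φb)
    (hY : ∀ ℓ : Line R str, ℓ = line₁ R str ∨ ℓ = line₂ R str →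
      ∃ m : ξu ⟶ ξu, 𝒳.p.IsHomLift (𝟙 (U R str)) m ∧ Rel ℓ m φa φb) :
    ∃ s : η ⟶ η, 𝒳.p.IsHomLift (𝟙 (T R str)) s ∧ IsTwist G A s ξ := by
  obtain ⟨m₁, hm₁, h₁⟩ := hY _ (Or.inl rfl)
  obtain ⟨m₂, hm₂, h₂⟩ := hY _ (Or.inr rfl)
  have hG := h.isStack.1
  have := isIso_of_vertical hG m₂ hm₂
  obtain ⟨o, ho, eo⟩ := exists_origin (R := R) (str := str) A hG
  exact ⟨_, (origin_comp A hG ho eo (m₁ ≫ inv m₂) inferInstance).1,
    by simpa only [Category.assoc] using isTwist_of_rel A h hξ φa φb hφa hφb ho eo m₁ m₂ hm₁ hm₂ h₁ h₂⟩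

/-- Constant restriction to a doubled line gives an extension of the gluing to the line. -/
theorem exists_rel_of_lineTrivial (h : IsAlgStack Scheme.fppfPrecoverage 𝒳) {pX : G.pt ⟶ T R str}
    (hpa : G.ja ≫ pX = π R str) (hpb : G.jb ≫ pX = π R str) (hξ : 𝒳.p.obj ξ = G.pt)
    (φa φb : ξu ⟶ ξ) (hφa : 𝒳.p.IsHomLift G.ja φa) (hφb : 𝒳.p.IsHomLift G.jb φb)
    (hlt : IsLineTrivial G pX η ξ) (ℓ : Line R str) (hℓ : ℓ = line₁ R str ∨ ℓ = line₂ R str)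
    (Y : DoubledLine R str) (f : Y.pt ⟶ G.pt) (hfa : Y.ja ≫ f = ℓ.l ≫ G.ja)
    (hfb : Y.jb ≫ f = ℓ.l ≫ G.jb) :
    ∃ m : ξu ⟶ ξu, 𝒳.p.IsHomLift (𝟙 (U R str)) m ∧ Rel ℓ m φa φb := by
  have hG := h.isStack.1
  obtain ⟨ξL, uL, Rm, huL, hRm, eu, eA, huA⟩ := exists_lift_one A hG ℓ
  obtain ⟨ξY, PY, hPY⟩ := exists_lift hG hξ f
  obtain ⟨g, hg⟩ := hlt ℓ hℓ Y f hfa hfb ξY PY hPY
  have la : 𝒳.p.IsHomLift (Y.ja ≫ f) (uL ≫ φa) := by rw [hfa]; infer_instance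
  have lb : 𝒳.p.IsHomLift (Y.jb ≫ f) (uL ≫ φb) := by rw [hfb]; infer_instance
  have := cart hG PY hPY
  let θa := Functor.IsStronglyCartesian.map 𝒳.p f PY (g := Y.ja) rfl (uL ≫ φa)
  let θb := Functor.IsStronglyCartesian.map 𝒳.p f PY (g := Y.jb) rfl (uL ≫ φb)
  have hθa : 𝒳.p.IsHomLift Y.ja θa := Functor.IsStronglyCartesian.map_isHomLift _ _ _ _ _
  have hθb : 𝒳.p.IsHomLift Y.jb θb := Functor.IsStronglyCartesian.map_isHomLift _ _ _ _ _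
  have eθa : θa ≫ PY = uL ≫ φa := Functor.IsStronglyCartesian.fac _ _ _ _ _
  have eθb : θb ≫ PY = uL ≫ φb := Functor.IsStronglyCartesian.fac _ _ _ _ _
  have ha : Y.ja ≫ f ≫ pX = πL R str := by rw [reassoc_of% hfa, hpa, ℓ.l_π]
  have hb : Y.jb ≫ f ≫ pX = πL R str := by rw [reassoc_of% hfb, hpb, ℓ.l_π]
  have lga : 𝒳.p.IsHomLift (πL R str) (θa ≫ g) := by rw [← ha]; infer_instance
  have lgb : 𝒳.p.IsHomLift (πL R str) (θb ≫ g) := by rw [← hb]; infer_instance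
  obtain ⟨κ, hκ, eκ⟩ := exists_factor hG (θa ≫ g) lga (θb ≫ g) lgb
  obtain ⟨m, hm, eum, -⟩ := exists_spread A hG ℓ huL hRm eu huA κ hκ
  refine ⟨m, hm, fun z w hw => ?_⟩
  have := cart hG uL huL
  let v := Functor.IsStronglyCartesian.map 𝒳.p ℓ.l uL (g := j R str) rfl w
  have hv : 𝒳.p.IsHomLift (j R str) v := Functor.IsStronglyCartesian.map_isHomLift _ _ _ _ _
  have ev : v ≫ uL = w := Functor.IsStronglyCartesian.fac _ _ _ _ _
  have hj : j R str ≫ Y.ja = j R str ≫ Y.jb := Y.isPB.w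
  have l1 : 𝒳.p.IsHomLift (j R str ≫ Y.ja) (v ≫ θb) := by rw [hj]; infer_instance
  have l2 : 𝒳.p.IsHomLift (j R str ≫ Y.ja) (v ≫ κ ≫ θa) := inferInstance
  have e : v ≫ θb = v ≫ κ ≫ θa := ext_lift hG g hg l1 l2 (by simp only [Category.assoc]; rw [eκ])
  rw [← ev, Category.assoc, Category.assoc, reassoc_of% eum, ← eθb, ← eθa, ← Category.assoc v θb, e]
  simp only [Category.assoc]

/-- The restrictions of a twist to the doubled lines are constant. -/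
theorem IsTwist.isLineTrivial (h : IsAlgStack Scheme.fppfPrecoverage 𝒳) {pX : G.pt ⟶ T R str}
    (hpa : G.ja ≫ pX = π R str) (hpb : G.jb ≫ pX = π R str) {s : η ⟶ η} (ht : IsTwist G A s ξ) :
    IsLineTrivial G pX η ξ := by
  intro ℓ hℓ Y f hfa hfb ξY PY hPY
  have hG := h.isStack.1
  obtain ⟨hξ, sU, φa, φb, hsU, esU, hφa, hφb, h₁, h₂⟩ := ht
  have hξu : 𝒳.p.obj ξu = U R str := IsHomLift.domain_eq 𝒳.p (π R str) A
  obtain ⟨m, hm, hr⟩ : ∃ m : ξu ⟶ ξu, 𝒳.p.IsHomLift (𝟙 (U R str)) m ∧ Rel ℓ m φa φb := by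
    rcases hℓ with rfl | rfl
    · exact ⟨sU, hsU, h₁⟩
    · exact ⟨𝟙 ξu, IsHomLift.id hξu, h₂⟩
  obtain ⟨ξL, uL, Rm, huL, hRm, eu, eA, huA⟩ := exists_lift_one A hG ℓ
  obtain ⟨κ, hκ, eκ⟩ := Detect.exists_pull_aut hG uL huL m hm
  have := isIso_of_vertical hG κ hκ
  have la : 𝒳.p.IsHomLift (Y.ja ≫ f) (uL ≫ φa) := by rw [hfa]; infer_instance
  have lb : 𝒳.p.IsHomLift (Y.jb ≫ f) (uL ≫ φb) := by rw [hfb]; infer_instance
  have := cart hG PY hPY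
  let θa := Functor.IsStronglyCartesian.map 𝒳.p f PY (g := Y.ja) rfl (uL ≫ φa)
  let θb := Functor.IsStronglyCartesian.map 𝒳.p f PY (g := Y.jb) rfl (uL ≫ φb)
  have hθa : 𝒳.p.IsHomLift Y.ja θa := Functor.IsStronglyCartesian.map_isHomLift _ _ _ _ _
  have hθb : 𝒳.p.IsHomLift Y.jb θb := Functor.IsStronglyCartesian.map_isHomLift _ _ _ _ _
  have eθa : θa ≫ PY = uL ≫ φa := Functor.IsStronglyCartesian.fac _ _ _ _ _
  have eθb : θb ≫ PY = uL ≫ φb := Functor.IsStronglyCartesian.fac _ _ _ _ _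
  have hη : 𝒳.p.obj η = T R str := IsHomLift.codomain_eq 𝒳.p (π R str) A
  obtain ⟨ζ, Q, hQ⟩ := exists_lift hG hη (f ≫ pX)
  have := cart hG Q hQ
  have ha : Y.ja ≫ f ≫ pX = πL R str := by rw [reassoc_of% hfa, hpa, ℓ.l_π]
  have hb : Y.jb ≫ f ≫ pX = πL R str := by rw [reassoc_of% hfb, hpb, ℓ.l_π]
  have k1 : 𝒳.p.IsHomLift (πL R str) (inv κ ≫ uL ≫ A) := inferInstance
  let ψa := Functor.IsStronglyCartesian.map 𝒳.p (f ≫ pX) Q (g := Y.ja) ha.symm (inv κ ≫ uL ≫ A)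
  let ψb := Functor.IsStronglyCartesian.map 𝒳.p (f ≫ pX) Q (g := Y.jb) hb.symm (uL ≫ A)
  have hψa : 𝒳.p.IsHomLift Y.ja ψa := Functor.IsStronglyCartesian.map_isHomLift _ _ _ _ _
  have hψb : 𝒳.p.IsHomLift Y.jb ψb := Functor.IsStronglyCartesian.map_isHomLift _ _ _ _ _
  obtain ⟨ξP, v, hv⟩ := exists_lift hG (IsHomLift.domain_eq 𝒳.p ℓ.l uL) (j R str)
  have hvk : 𝒳.p.IsHomLift (j R str) (v ≫ κ) :=
    IsHomLift.comp_lift_id_right' 𝒳.p (j R str) v (L R str) κ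
  have hj : j R str ≫ Y.ja = j R str ≫ Y.jb := Y.isPB.w
  have l1 : 𝒳.p.IsHomLift (j R str ≫ Y.ja) (v ≫ θb) := by rw [hj]; infer_instance
  have l2 : 𝒳.p.IsHomLift (j R str ≫ Y.ja) (v ≫ ψb) := by rw [hj]; infer_instance
  have e1 : (v ≫ κ) ≫ θa = v ≫ θb := by
    refine ext_lift hG PY hPY (g := j R str ≫ Y.ja) inferInstance l1 ?_
    have e0 := hr (v ≫ uL) inferInstance
    simp only [Category.assoc] at e0 ⊢
    rw [eθa, eθb, e0, reassoc_of% eκ]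
  have e2 : (v ≫ κ) ≫ ψa = v ≫ ψb := by
    refine ext_lift hG Q hQ (g := j R str ≫ Y.ja) inferInstance l2 ?_
    simp only [ψa, ψb, Category.assoc, Functor.IsStronglyCartesian.fac, IsIso.hom_inv_id_assoc]
  obtain ⟨t, htl, -, -⟩ := Glue2.exists_desc (c := Y.cov) (pa := v ≫ κ) (pb := v) hG
    (Detect.stackFor h Y.cov_mem).2.1 (IsHomLift.domain_eq 𝒳.p f PY)
    (IsHomLift.domain_eq 𝒳.p (f ≫ pX) Q) hvk θa θb hθa hθb e1 ψa ψb hψa hψb e2 hv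
  exact ⟨t ≫ Q, IsHomLift.comp_lift_id_left' 𝒳.p Y.pt t (f ≫ pX) Q⟩

end Groth.Agent.H14.IsoNat.Twists
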