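import Groth.Agent.H14.IsoNat.InDict

/-!
Twisting a point of a 2-fibre product by an automorphism.
-/

set_option autoImplicit false
set_option backward.isDefEq.respectTransparency false
set_option backward.isDefEq.respectTransparency.types false

universe u

open CategoryTheory CategoryTheory.Limits AlgebraicGeometry Opposite

namespace Groth.Agent.H14.IsoNat.Twist

open Groth.Agent.Lib.AlgStack
open FibCat (IsFibGrpd overCat)
open AlgSt (overMap)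

variable {S : Scheme.{u}} {𝒴 : AlgSt.Cat S} {U V D : Over S} {v : overCat V ⥤ᵇ 𝒴} {y : overCat U ⥤ᵇ 𝒴}

/-- The chart under a point of a 2-fibre product. -/
abbrev chart (t : Dict.Tri v y D) : overCat D ⥤ᵇ 𝒴 := BasedFunctor.comp (overMap t.r) y

theorem exists_θ (h : IsFibGrpd 𝒴.p) (t : Dict.Tri v y D) {T : Over S} (m : T ⟶ D) :
    ∃ θ : v.obj (Over.mk (m ≫ t.s)) ⟶ y.obj (Over.mk (m ≫ t.r)), ∃ hθ : 𝒴.p.IsHomLift (𝟙 T) θ,
      Dict.IsPull m t ⟨m ≫ t.s, m ≫ t.r, θ, hθ⟩ := by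
  obtain ⟨⟨s', r', θ, hθ⟩, hp⟩ := Dict.exists_pull h m t
  obtain rfl := hp.s
  obtain rfl := hp.r
  exact ⟨θ, hθ, hp⟩

/-- The pullback of the 2-morphism. -/
noncomputable def pullθ (h : IsFibGrpd 𝒴.p) (t : Dict.Tri v y D) {T : Over S} (m : T ⟶ D) :
    v.obj (Over.mk (m ≫ t.s)) ⟶ y.obj (Over.mk (m ≫ t.r)) :=
  (exists_θ h t m).choose

theorem pullθ_lift (h : IsFibGrpd 𝒴.p) (t : Dict.Tri v y D) {T : Over S} (m : T ⟶ D) :
    𝒴.p.IsHomLift (𝟙 T) (pullθ h t m) :=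
  (exists_θ h t m).choose_spec.choose

theorem pullθ_spec (h : IsFibGrpd 𝒴.p) (t : Dict.Tri v y D) {T : Over S} (m : T ⟶ D) :
    Dict.IsPull m t ⟨m ≫ t.s, m ≫ t.r, pullθ h t m, pullθ_lift h t m⟩ :=
  (exists_θ h t m).choose_spec.choose_spec

theorem pullθ_comp (h : IsFibGrpd 𝒴.p) (t : Dict.Tri v y D) {T' T : Over S} (k : T' ⟶ T) {m : T ⟶ D}
    {m' : T' ⟶ D} (hm : m' = k ≫ m) :
    v.map (Over.homMk k (by simp [hm]) : Over.mk (m' ≫ t.s) ⟶ Over.mk (m ≫ t.s)) ≫ pullθ h t m =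
      pullθ h t m' ≫
        y.map (Over.homMk k (by simp [hm]) : Over.mk (m' ≫ t.r) ⟶ Over.mk (m ≫ t.r)) := by
  subst hm
  let ms : Over.mk ((k ≫ m) ≫ t.s) ⟶ Over.mk (m ≫ t.s) := Over.homMk k (Category.assoc _ _ _).symm
  let mr : Over.mk ((k ≫ m) ≫ t.r) ⟶ Over.mk (m ≫ t.r) := Over.homMk k (Category.assoc _ _ _).symm
  let as' : Over.mk (m ≫ t.s) ⟶ Over.mk t.s := Over.homMk m rfl
  let ar : Over.mk (m ≫ t.r) ⟶ Over.mk t.r := Over.homMk m rfl
  change v.map ms ≫ pullθ h t m = pullθ h t (k ≫ m) ≫ y.map mr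
  have := pullθ_lift h t m
  have := pullθ_lift h t (k ≫ m)
  have h0 : 𝒴.p.IsHomLift m (y.map ar) := Yoneda.map_isHomLift y ar
  have := Yoneda.stronglyCartesian h m (y.map ar)
  have h1 : 𝒴.p.IsHomLift k (v.map ms) := Yoneda.map_isHomLift v ms
  have h2 : 𝒴.p.IsHomLift k (y.map mr) := Yoneda.map_isHomLift y mr
  have h3 : 𝒴.p.IsHomLift k (v.map ms ≫ pullθ h t m) :=
    IsHomLift.comp_lift_id_right' 𝒴.p k _ T _
  have h4 : 𝒴.p.IsHomLift k (pullθ h t (k ≫ m) ≫ y.map mr) :=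
    IsHomLift.comp_lift_id_left' 𝒴.p T' _ k _
  refine Functor.IsStronglyCartesian.ext 𝒴.p m (y.map ar) k ?_
  have e1 : v.map as' ≫ t.θ = pullθ h t m ≫ y.map ar := (pullθ_spec h t m).θ
  have e2 : v.map (ms ≫ as') ≫ t.θ = pullθ h t (k ≫ m) ≫ y.map (mr ≫ ar) := (pullθ_spec h t (k ≫ m)).θ
  have e3 : v.map (ms ≫ as') = v.map ms ≫ v.map as' := v.toFunctor.map_comp ms as'
  have e4 : y.map (mr ≫ ar) = y.map mr ≫ y.map ar := y.toFunctor.map_comp mr ar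
  exact (Category.assoc _ _ _).trans ((congrArg (fun w => v.map ms ≫ w) e1.symm).trans
    ((Category.assoc _ _ _).symm.trans ((congrArg (fun w => w ≫ t.θ) e3.symm).trans
      (e2.trans ((congrArg (fun w => pullθ h t (k ≫ m) ≫ w) e4).trans (Category.assoc _ _ _).symm)))))

/-- The point twisted by an automorphism. -/
noncomputable def twist (h : IsFibGrpd 𝒴.p) (t : Dict.Tri v y D) {T : Over S}
    (q : InDict.AutTri (chart t) T) : Dict.Tri v y T :=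
  ⟨q.m ≫ t.s, q.m ≫ t.r, pullθ h t q.m ≫ q.a,
    haveI := pullθ_lift h t q.m
    haveI := q.lift
    IsHomLift.comp_lift_id_right' 𝒴.p (𝟙 T) (pullθ h t q.m) T q.a⟩

theorem twist_s (h : IsFibGrpd 𝒴.p) (t : Dict.Tri v y D) {T : Over S}
    (q : InDict.AutTri (chart t) T) : (twist h t q).s = q.m ≫ t.s := rfl

theorem twist_r (h : IsFibGrpd 𝒴.p) (t : Dict.Tri v y D) {T : Over S}
    (q : InDict.AutTri (chart t) T) : (twist h t q).r = q.m ≫ t.r := rfl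

theorem twist_isPull (h : IsFibGrpd 𝒴.p) (t : Dict.Tri v y D) {T' T : Over S} {k : T' ⟶ T}
    {q : InDict.AutTri (chart t) T} {q' : InDict.AutTri (chart t) T'} (hq : InDict.IsPull k q q') :
    Dict.IsPull k (twist h t q) (twist h t q') := by
  have hs : q'.m ≫ t.s = k ≫ q.m ≫ t.s := by rw [hq.m, Category.assoc]
  have hr : q'.m ≫ t.r = k ≫ q.m ≫ t.r := by rw [hq.m, Category.assoc]
  refine ⟨hs, hr, ?_⟩
  let ms : Over.mk (q'.m ≫ t.s) ⟶ Over.mk (q.m ≫ t.s) := Over.homMk k hs.symm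
  let mr : Over.mk (q'.m ≫ t.r) ⟶ Over.mk (q.m ≫ t.r) := Over.homMk k hr.symm
  change v.map ms ≫ pullθ h t q.m ≫ q.a = (pullθ h t q'.m ≫ q'.a) ≫ y.map mr
  have e : y.map mr ≫ q.a = q'.a ≫ y.map mr := hq.a
  rw [← Category.assoc, show v.map ms ≫ pullθ h t q.m = pullθ h t q'.m ≫ y.map mr from
    pullθ_comp h t k hq.m, Category.assoc, Category.assoc, e]

theorem exists_aut_of_eq (h : IsFibGrpd 𝒴.p) (t : Dict.Tri v y D) {T : Over S} (u : Dict.Tri v y T)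
    (m : T ⟶ D) (hs : u.s = m ≫ t.s) (hr : u.r = m ≫ t.r) :
    ∃ q : InDict.AutTri (chart t) T, q.m = m ∧ twist h t q = u := by
  obtain ⟨s, r, θ, hθ⟩ := u
  obtain rfl : s = m ≫ t.s := hs
  obtain rfl : r = m ≫ t.r := hr
  have := pullθ_lift h t m
  have := hθ
  have := BasedBasic.isIso_of_isHomLift_id h (R := T) (pullθ h t m)
  let a : (chart t).obj (Over.mk m) ⟶ (chart t).obj (Over.mk m) := inv (pullθ h t m) ≫ θ
  have ha : 𝒴.p.IsHomLift (𝟙 T) a := IsHomLift.comp_lift_id_right' 𝒴.p (𝟙 T) _ T θ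
  refine ⟨⟨m, a, ha⟩, rfl, ?_⟩
  have : pullθ h t m ≫ a = θ := IsIso.hom_inv_id_assoc _ _
  simp only [twist]
  congr 1

end Groth.Agent.H14.IsoNat.Twist
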