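import Groth.Agent.H14.IsoNat.Corr
import Groth.Agent.H14.IsoNat.Twist
import Groth.Agent.H14.Chart.LocQ2
import Groth.Agent.Lib.AlgSpMor.Cancel

/-!
Being locally of finite presentation is seen by isomorphism classes.
-/

set_option autoImplicit false
set_option backward.isDefEq.respectTransparency false
set_option backward.isDefEq.respectTransparency.types false

universe u

open CategoryTheory CategoryTheory.Limits AlgebraicGeometry Opposite

namespace Groth.Agent.H14.IsoNat.Lfp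

open Groth.Agent.Lib.AlgStack
open FibCat (IsEquivOver fp fpFst overCat IsFibGrpd toSelf inertiaToBase)
open AlgSt (ofSp spMapOfOver RepByAlgSpWith)
open AlgSp (Sp yon IsAlgSpace LocP RepWith)

variable {S : Scheme.{u}}

/-- A retract of something locally of finite presentation is locally of finite presentation. -/
theorem lfp_of_retract {P C V : Scheme.{u}} (i : P ⟶ C) (r : C ⟶ P) (f : P ⟶ V) (hir : i ≫ r = 𝟙 P)
    [hC : LocallyOfFinitePresentation (r ≫ f)] : LocallyOfFinitePresentation f := by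
  have : LocallyOfFiniteType r := locallyOfFiniteType_of_comp r f
  have : LocallyOfFinitePresentation i :=
    Lib.AlgSpMor.Cancel.locallyOfFinitePresentation_of_comp (g := r) (by rw [hir]; infer_instance)
      inferInstance
  rw [show f = i ≫ r ≫ f by rw [reassoc_of% hir]]
  infer_instance

/-- In the space of a 2-fibre product, the structure of a scheme chart. -/
theorem lfp_of_chart {V : Over S} {G : Sp S} {b : G ⟶ (yon S).obj V}
    (hb : LocP @LocallyOfFinitePresentation b) {D : Over S} {d : (yon S).obj D ⟶ G}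
    (hd : RepWith @Etale d) {s : D ⟶ V} (hs : d ≫ b = (yon S).map s) :
    LocallyOfFinitePresentation s.left :=
  hb d (𝟙 _) s hd (AlgSp.repWith_id _ _) (by rw [Category.comp_id]; exact hs)

variable {𝒳 𝒴 : AlgSt.Cat S} {φ : _root_.IsoNat.FIso 𝒳 𝒴} {U V : Over S} {x : overCat U ⥤ᵇ 𝒳}
  {y : overCat U ⥤ᵇ 𝒴} {w : overCat V ⥤ᵇ 𝒳} {v : overCat V ⥤ᵇ 𝒴}

theorem locP_lfp (h𝒳 : IsFibGrpd 𝒳.p) (h𝒴 : IsFibGrpd 𝒴.p) (hw : Corr φ w v) (hc : Corr φ x y)
    (hi : RepByAlgSpWith (LocP @LocallyOfFinitePresentation) (inertiaToBase (toSelf 𝒴)))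
    (hx : RepByAlgSpWith (LocP @LocallyOfFinitePresentation) x)
    {G : AlgSp.Space S} (e : ofSp G.obj ⥤ᵇ fp v y) (he : IsEquivOver e) :
    LocP @LocallyOfFinitePresentation (spMapOfOver (BasedFunctor.comp e (fpFst v y))) := by
  obtain ⟨P, p, hp, hps⟩ := G.property.atlas
  obtain ⟨t, ht⟩ := Dict.exists_tri (e := e) h𝒴 p
  obtain ⟨Gx, ex, hex, hGx⟩ := hx V w
  obtain ⟨tx, htxs, htxr⟩ := Corr.exists_tri_symm hw hc h𝒳 h𝒴 t
  obtain ⟨gx, hgx⟩ := Dict.exists_map h𝒳 hex tx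
  obtain ⟨D, d, hd, hds⟩ := Gx.property.atlas
  obtain ⟨tD, htD⟩ := Dict.exists_tri (e := ex) h𝒳 d
  have hsD : LocallyOfFinitePresentation tD.s.left := lfp_of_chart hGx hd (Dict.comp_fst h𝒳 htD)
  obtain ⟨tD', htDs, htDr⟩ := Corr.exists_tri hw hc h𝒳 h𝒴 tD
  -- lift the atlas to the scheme `D`
  obtain ⟨P₁, k, m, sq₁⟩ := Lib.AlgSpace.exists_isPullback_yon Gx.property.diag gx d
  have hk : Etale k.left := Lib.AlgSpace.repWith_property hd sq₁.flip
  have hks : Surjective k.left := Lib.AlgSpace.repWith_property hds sq₁.flip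
  obtain ⟨tk, htk⟩ := Dict.exists_pull h𝒳 k tx
  obtain ⟨tm, htm⟩ := Dict.exists_pull h𝒳 m tD
  have hgk := Dict.rel_comp h𝒳 hgx htk
  rw [sq₁.w] at hgk
  have htkm := Dict.tri_unique h𝒳 hgk (Dict.rel_comp h𝒳 htD htm)
  obtain ⟨u₁, hu₁⟩ := Dict.exists_pull h𝒴 k t
  have hg₁ := Dict.rel_comp h𝒴 ht hu₁
  obtain ⟨q, hqm, hq⟩ := Twist.exists_aut_of_eq h𝒴 tD' u₁ m
    (by rw [hu₁.s, ← htxs, ← htk.s, htkm, htm.s, htDs])
    (by rw [hu₁.r, ← htxr, ← htk.r, htkm, htm.r, htDr])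
  -- lift to the scheme of automorphisms
  obtain ⟨E, eE, heE, hE⟩ := hi D (Twist.chart tD')
  obtain ⟨gE, hgE⟩ := InDict.exists_map h𝒴 heE q
  obtain ⟨D₂, d₂, hd₂, hd₂s⟩ := E.property.atlas
  obtain ⟨q₂, hq₂⟩ := InDict.exists_aut (e := eE) h𝒴 d₂
  have hm₂ : LocallyOfFinitePresentation q₂.m.left := lfp_of_chart hE hd₂ (InDict.comp_fst h𝒴 hq₂)
  obtain ⟨g₂, hg₂⟩ := Dict.exists_map h𝒴 he (Twist.twist h𝒴 tD' q₂)
  obtain ⟨P₂, l, n, sq₂⟩ := Lib.AlgSpace.exists_isPullback_yon E.property.diag gE d₂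
  have hl : Etale l.left := Lib.AlgSpace.repWith_property hd₂ sq₂.flip
  have hls : Surjective l.left := Lib.AlgSpace.repWith_property hd₂s sq₂.flip
  obtain ⟨ql, hql⟩ := InDict.exists_pull h𝒴 l q
  obtain ⟨qn, hqn⟩ := InDict.exists_pull h𝒴 n q₂
  have hgl := InDict.rel_comp h𝒴 hgE hql
  rw [sq₂.w] at hgl
  obtain rfl := InDict.aut_unique h𝒴 hgl (InDict.rel_comp h𝒴 hq₂ hqn)
  rw [← hq] at hg₁
  have hA := Dict.rel_comp h𝒴 hg₁ (Twist.twist_isPull h𝒴 tD' hql)
  have hB := Dict.rel_comp h𝒴 hg₂ (Twist.twist_isPull h𝒴 tD' hqn)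
  have heq := Dict.map_unique h𝒴 he hA hB
  -- the refined atlas
  let j : P₂ ⟶ P := l ≫ k
  let p' := (yon S).map j ≫ p
  have hje : Etale j.left := inferInstanceAs (Etale (l.left ≫ k.left))
  have hjs : Surjective j.left := inferInstanceAs (Surjective (l.left ≫ k.left))
  have hp' : RepWith @Etale p' := Lib.AlgSpMor.LocP.repWith_etale_comp j hp
  have hps' : RepWith @Surjective p' := Lib.AlgSpMor.LocP.repWith_surjective_comp j hps
  have hnp : (yon S).map n ≫ g₂ = p' := by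
    rw [← heq]
    simp only [p', j, Functor.map_comp, Category.assoc]
  have hbp : p' ≫ spMapOfOver (BasedFunctor.comp e (fpFst v y)) = (yon S).map (j ≫ t.s) := by
    rw [Functor.map_comp, Category.assoc, Dict.comp_fst h𝒴 ht]
  refine Lib.AlgSpMor.LocP.locP_of_chart Lib.SourceDescent.Scheme.locallyOfFinitePresentation
    G.property.diag (IsAlgSpace.yon_obj V).diag hp' hps' (b := 𝟙 _) (h := j ≫ t.s)
    (AlgSp.repWith_id _ _) (by rw [Category.comp_id]; exact hbp) ?_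
  obtain ⟨C, c₁, c₂, sqC⟩ := Lib.AlgSpace.exists_isPullback_yon G.property.diag p' g₂
  have hc₂ : Etale c₂.left := Lib.AlgSpace.repWith_property hp' sqC
  let iy := sqC.lift (𝟙 _) ((yon S).map n) (by rw [hnp]; exact Category.id_comp _)
  obtain ⟨i, hi'⟩ := (yon S).map_surjective iy
  have hi₁ : i ≫ c₁ = 𝟙 P₂ := (yon S).map_injective (by
    rw [Functor.map_comp, hi', sqC.lift_fst, CategoryTheory.Functor.map_id])
  have hcs : c₁ ≫ j ≫ t.s = c₂ ≫ q₂.m ≫ tD'.s := (yon S).map_injective (by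
    have h2 := Dict.comp_fst h𝒴 hg₂
    rw [Twist.twist_s] at h2
    rw [(yon S).map_comp c₁, ← hbp, ← Category.assoc, sqC.w, Category.assoc, h2, ← Functor.map_comp])
  have : LocallyOfFinitePresentation tD'.s.left := by rw [htDs]; exact hsD
  have : LocallyOfFinitePresentation (c₁.left ≫ (j ≫ t.s).left) := by
    rw [← Over.comp_left, hcs, Over.comp_left, Over.comp_left]
    infer_instance
  exact lfp_of_retract i.left c₁.left (j ≫ t.s).left (by rw [← Over.comp_left, hi₁]; rfl)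

end Groth.Agent.H14.IsoNat.Lfp
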