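import Groth.Agent.H14.IsoNat.LiftsCorr
import Groth.Agent.H14.IsoNat.Lfp
import Groth.Agent.H14.Sep.SpProps2
import Groth.Agent.H14.Chart.Basic
import Groth.Agent.H14.Chart.LocQ

/-!
Smoothness is seen by isomorphism classes.
-/

set_option autoImplicit false
set_option backward.isDefEq.respectTransparency false
set_option backward.isDefEq.respectTransparency.types false
set_option maxHeartbeats 800000

universe u

open CategoryTheory CategoryTheory.Limits AlgebraicGeometry Opposite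

namespace Groth.Agent.H14.IsoNat.SmoothCorr

open Groth.Agent.Lib.AlgStack
open Groth.Agent.H14.Chart
open FibCat (IsEquivOver fp fpFst overCat IsFibGrpd)
open AlgSt (ofSp spMapOfOver RepByAlgSpWith overMap)
open AlgSp (Sp yon IsAlgSpace LocP RepWith)

variable {S : Scheme.{u}} {𝒳 𝒴 : AlgSt.Cat S} {φ : _root_.IsoNat.FIso 𝒳 𝒴} {U V : Over S}
  {x : overCat U ⥤ᵇ 𝒳} {y : overCat U ⥤ᵇ 𝒴} {v : overCat V ⥤ᵇ 𝒴}

theorem formallySmooth_restrict (h𝒳 : IsFibGrpd 𝒳.p) (h𝒴 : IsFibGrpd 𝒴.p) (hc : Corr φ x y)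
    (hx : Lifts x) (hv : RepByAlgSpWith (LocP @Smooth) v) {G : AlgSp.Space S}
    {e : ofSp G.obj ⥤ᵇ fp v y} (he : IsEquivOver e) {W O : Over S} [IsAffine O.left]
    (i : O ⟶ V) [IsOpenImmersion i.left] {p : (yon S).obj W ⟶ G.obj} (hp : RepWith @Etale p)
    {t : Dict.Tri v y W} (ht : Dict.Rel e h𝒴 p t) (k : W ⟶ O) (hk : k ≫ i = t.s) :
    MoreMor.IsFormallySmoothHom k.left := by
  have hvO : RepByAlgSpWith (LocP @Smooth) (BasedFunctor.comp (overMap i) v) :=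
    IsAlgFp.comp_locP LocQ.smoothST (Yoneda.isFibGrpd_overCat _) (Yoneda.isFibGrpd_overCat _)
      (Basic.rep_overMap_locP i LocQ.smoothST (inferInstanceAs (Smooth i.left))) hv
  refine (Lib.SmoothLift.Formal.isFormallySmoothMor_yon_map_iff k).1 fun sq => ?_
  let Z : Thick S := ⟨sq.A, sq.I, sq.sq_zero, sq.str⟩
  obtain ⟨a, ha⟩ := (yon S).map_surjective (X := Z.pt₀) sq.top
  obtain ⟨sO, hsO⟩ := (yon S).map_surjective (X := Z.pt) sq.bot
  obtain ⟨⟨s₀, r₀, θ₀, hθ₀⟩, ht₀⟩ := Dict.exists_pull h𝒴 a t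
  have hg₀ := Dict.rel_comp h𝒴 ht ht₀
  have hak : a ≫ k = Z.j ≫ sO := (yon S).map_injective (by
    rw [Functor.map_comp, Functor.map_comp, ha, hsO]; exact sq.comm)
  have hjs : Z.j ≫ (sO ≫ i) = s₀ := by
    rw [← Category.assoc, ← hak, Category.assoc, hk]; exact ht₀.s.symm
  have := hθ₀
  have := BasedBasic.isIso_of_isHomLift_id h𝒴 (R := Z.pt₀) θ₀
  let ms : Over.mk s₀ ⟶ Over.mk (sO ≫ i) := Over.homMk Z.j hjs
  have h1 : 𝒴.p.IsHomLift Z.j (v.map ms) := Yoneda.map_isHomLift v ms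
  have h2 : 𝒴.p.IsHomLift Z.j (inv θ₀ ≫ v.map ms) :=
    IsHomLift.comp_lift_id_left' 𝒴.p Z.pt₀ _ Z.j _
  obtain ⟨r, hr, β, hβ, hβj⟩ := LiftsCorr.exists_lift (v := BasedFunctor.comp (overMap i) v) h𝒳 h𝒴
    hc hx (Lifts.of_smooth h𝒴 hvO) Z r₀ sO (inv θ₀ ≫ v.map ms) (hα := h2)
  have := BasedBasic.isIso_of_isHomLift_id h𝒴 (R := Z.pt) β
  let tl : Dict.Tri v y Z.pt := ⟨sO ≫ i, r, inv β,
    (inferInstance : 𝒴.p.IsHomLift (𝟙 Z.pt) (inv β))⟩
  obtain ⟨l, hl⟩ := Dict.exists_map h𝒴 he tl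
  have hjl : (yon S).map Z.j ≫ l = (yon S).map a ≫ p := by
    refine Dict.map_unique h𝒴 he (Dict.rel_comp h𝒴 hl ?_) hg₀
    refine ⟨hjs.symm, hr.symm, ?_⟩
    let mr : Over.mk r₀ ⟶ Over.mk r := Over.homMk Z.j hr
    change v.map ms ≫ inv β = θ₀ ≫ y.map mr
    rw [IsIso.comp_inv_eq, Category.assoc, show y.map mr ≫ β = inv θ₀ ≫ v.map ms from hβj,
      IsIso.hom_inv_id_assoc]
  let sq' : AlgSp.InfSq p := ⟨sq.A, sq.I, sq.sq_zero, sq.str, (yon S).map a, l, hjl.symm⟩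
  obtain ⟨l', ⟨hl'₁, hl'₂⟩, -⟩ := Lib.AlgSpFormal.Yon.isFormallyEtaleMor_of_etale hp sq'
  refine ⟨l', hl'₁.trans ha, ?_⟩
  obtain ⟨l'', rfl⟩ := (yon S).map_surjective l'
  rw [← Functor.map_comp, ← hsO]
  have : Mono i := (Over.forget S).mono_of_mono_map (inferInstanceAs (Mono i.left))
  congr 1
  rw [← cancel_mono i]
  apply (yon S).map_injective
  rw [Category.assoc, hk, Functor.map_comp, ← Dict.comp_fst h𝒴 ht, ← Category.assoc, hl'₂,
    Dict.comp_fst h𝒴 hl]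

theorem locP_smooth (h𝒳 : IsFibGrpd 𝒳.p) (h𝒴 : IsFibGrpd 𝒴.p) (hc : Corr φ x y) (hx : Lifts x)
    (hv : RepByAlgSpWith (LocP @Smooth) v) {G : AlgSp.Space S} {e : ofSp G.obj ⥤ᵇ fp v y}
    (he : IsEquivOver e)
    (hfp : LocP @LocallyOfFinitePresentation (spMapOfOver (BasedFunctor.comp e (fpFst v y)))) :
    LocP @Smooth (spMapOfOver (BasedFunctor.comp e (fpFst v y))) := by
  obtain ⟨P, p, hp, hps⟩ := G.property.atlas
  obtain ⟨t, ht⟩ := Dict.exists_tri (e := e) h𝒴 p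
  have hlfp : LocallyOfFinitePresentation t.s.left := Lfp.lfp_of_chart hfp hp (Dict.comp_fst h𝒴 ht)
  refine Lib.AlgSpMor.LocP.locP_of_chart LocQ.smoothST G.property.diag (IsAlgSpace.yon_obj V).diag
    hp hps (b := 𝟙 _) (h := t.s) (AlgSp.repWith_id _ _)
    (by rw [Category.comp_id]; exact Dict.comp_fst h𝒴 ht) ?_
  let 𝒰 : V.left.affineOpens → P.left.Opens := fun O => t.s.left ⁻¹ᵁ O.1
  refine (IsZariskiLocalAtSource.iff_of_iSup_eq_top (P := @Smooth) 𝒰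
    (t.s.left.iSup_preimage_eq_top (iSup_affineOpens_eq_top V.left))).2 fun O => ?_
  let W' : Over S := Over.mk ((t.s.left ⁻¹ᵁ O.1).ι ≫ P.hom)
  let O' : Over S := Over.mk (O.1.ι ≫ V.hom)
  have : IsAffine O'.left := O.2
  let i : O' ⟶ V := Over.homMk O.1.ι rfl
  have : IsOpenImmersion i.left := inferInstanceAs (IsOpenImmersion O.1.ι)
  let iW : W' ⟶ P := Over.homMk (t.s.left ⁻¹ᵁ O.1).ι rfl
  let k : W' ⟶ O' := Over.homMk (t.s.left ∣_ O.1) (by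
    change (t.s.left ∣_ O.1) ≫ O.1.ι ≫ V.hom = _ ≫ P.hom
    rw [morphismRestrict_ι_assoc, Over.w t.s])
  have hiW : Etale iW.left := inferInstanceAs (Etale (t.s.left ⁻¹ᵁ O.1).ι)
  obtain ⟨tW, htW⟩ := Dict.exists_pull h𝒴 iW t
  have hk : k ≫ i = tW.s := by
    rw [htW.s]; ext : 1; exact morphismRestrict_ι t.s.left O.1
  have hfs := formallySmooth_restrict h𝒳 h𝒴 hc hx hv he i
    (Lib.AlgSpMor.LocP.repWith_etale_comp iW hp) (Dict.rel_comp h𝒴 ht htW) k hk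
  have : LocallyOfFinitePresentation k.left :=
    inferInstanceAs (LocallyOfFinitePresentation (t.s.left ∣_ O.1))
  have : Smooth (t.s.left ∣_ O.1) := (Groth.Agent.S1488.result k.left).2 ⟨this, hfs⟩
  rw [← morphismRestrict_ι]
  infer_instance

end Groth.Agent.H14.IsoNat.SmoothCorr
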