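import Groth.Agent.H14.IsoNat.UnramConst
import Groth.Agent.H14.IsoNat.Fold
import Groth.Agent.H14.IsoNat.SmoothCorr
import Groth.Agent.Lib.AlgSpFormal.Yon

/-!
Lifts are unique on a chart corresponding to an unramified one.
-/

set_option autoImplicit false
set_option backward.isDefEq.respectTransparency false
set_option backward.isDefEq.respectTransparency.types false
set_option maxHeartbeats 800000

universe u

open CategoryTheory CategoryTheory.Limits AlgebraicGeometry Groth.Agent.Lib.Fibred.Descent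

namespace Groth.Agent.H14.IsoNat.UnramCorr

open Groth.Agent.Lib.AlgStack
open Groth.Agent.Lib.Fibred.StackLemmas (isIso_of_vertical)
open FibCat (IsEquivOver fp fpFst overCat IsFibGrpd)
open AlgSt (ofSp spMapOfOver RepByAlgSpWith)
open AlgSp (Sp yon LocP RepWith)

variable {S : Scheme.{u}} {𝒳 𝒴 : AlgSt.Cat S}

/-- Automorphisms trivial on a square-zero subscheme are trivial. -/
def KerTrivial {U : Over S} (y : overCat U ⥤ᵇ 𝒴) : Prop :=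
  ∀ (Z : Thick S) (r : Z.pt ⟶ U) (k : y.obj (Over.mk r) ⟶ y.obj (Over.mk r)),
    𝒴.p.IsHomLift (𝟙 Z.pt) k → Unram.EqAlong k (𝟙 (y.obj (Over.mk r))) Z.j → k = 𝟙 _

variable {U : Over S} {x : overCat U ⥤ᵇ 𝒳} {y : overCat U ⥤ᵇ 𝒴}

/-- Triples over a thickening are determined by their restrictions, for an unramified chart. -/
theorem tri_eq_of_thick (h : IsFibGrpd 𝒳.p)
    (hx : RepByAlgSpWith (LocP (@LocallyOfFiniteType ⊓ @FormallyUnramified)) x) {D : Over S}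
    {c : overCat D ⥤ᵇ 𝒳} (Z : Thick S) (t t' : Dict.Tri c x Z.pt) (hs : t.s = t'.s)
    (t₀ : Dict.Tri c x Z.pt₀) (h₀ : Dict.IsPull Z.j t t₀) (h₀' : Dict.IsPull Z.j t' t₀) : t = t' := by
  obtain ⟨G, eG, heG, hG⟩ := hx D c
  obtain ⟨g, hg⟩ := Dict.exists_map h heG t
  obtain ⟨g', hg'⟩ := Dict.exists_map h heG t'
  have hd := (Groth.Agent.S10262.result (X := G) (Y := ⟨(yon S).obj D, AlgSp.IsAlgSpace.yon_obj D⟩)
    (ObjectProperty.homMk (spMapOfOver (BasedFunctor.comp eG (fpFst c x))))).1 hG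
  obtain ⟨W, co, hco, hcg, huniv⟩ := Unram.exists_equalizer (P := @IsOpenImmersion) hd g g'
    ((Dict.comp_fst h hg).trans ((congrArg _ hs).trans (Dict.comp_fst h hg').symm))
  obtain ⟨l, hl⟩ := huniv Z.j
    (Dict.map_unique h heG (Dict.rel_comp h hg h₀) (Dict.rel_comp h hg' h₀'))
  have : Surjective co.left := ⟨fun p => by
    have h1 : p ∈ Set.range (PrimeSpectrum.comap (Ideal.Quotient.mk Z.I)) := by
      rw [range_comap_of_surjective _ _ Ideal.Quotient.mk_surjective, Ideal.mk_ker]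
      intro a ha
      exact p.isPrime.mem_of_pow_mem 2 (by
        have := Ideal.pow_mem_pow ha 2
        rw [Z.sq_zero, Ideal.mem_bot] at this
        rw [this]; exact p.asIdeal.zero_mem)
    obtain ⟨q, rfl⟩ := h1
    exact ⟨l.left q, congrArg (fun m : Z.pt₀ ⟶ Z.pt => m.left q) hl⟩⟩
  have : IsIso co.left := (isIso_iff_isOpenImmersion_and_surjective _).2 ⟨hco, this⟩
  have : IsIso ((Over.forget S).map co) := this
  have := isIso_of_reflects_iso co (Over.forget S)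
  obtain rfl := (cancel_epi ((yon S).map co)).1 hcg
  exact Dict.tri_unique h hg hg'

/-- A vertical morphism between objects of an unramified chart, trivial on a thickening. -/
theorem eq_of_thick (h : IsFibGrpd 𝒳.p)
    (hx : RepByAlgSpWith (LocP (@LocallyOfFiniteType ⊓ @FormallyUnramified)) x) (Z : Thick S)
    {r₀ : Z.pt₀ ⟶ U} {r r' : Z.pt ⟶ U} (hr : Z.j ≫ r = r₀) (hr' : Z.j ≫ r' = r₀)
    (l : x.obj (Over.mk r') ⟶ x.obj (Over.mk r)) (hl : 𝒳.p.IsHomLift (𝟙 Z.pt) l)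
    (e : x.map (Over.homMk Z.j hr' : Over.mk r₀ ⟶ Over.mk r') ≫ l =
      x.map (Over.homMk Z.j hr : Over.mk r₀ ⟶ Over.mk r)) : r = r' := by
  have hη : 𝒳.p.obj (x.obj (Over.mk r)) = Z.pt := x.w_obj _
  obtain ⟨ε, hε⟩ := Yoneda.exists_fromObj_iso h hη
  let c : overCat Z.pt ⥤ᵇ 𝒳 := Yoneda.fromObj h hη
  have := isIso_of_vertical h l hl
  let t : Dict.Tri c x Z.pt := ⟨𝟙 _, r, ε.hom, hε⟩
  let t' : Dict.Tri c x Z.pt := ⟨𝟙 _, r', ε.hom ≫ inv l, inferInstance⟩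
  obtain ⟨t₀, ht₀⟩ := Dict.exists_pull h Z.j t
  obtain ⟨s₀, q₀, θ₀, hθ₀⟩ := t₀
  obtain rfl := ht₀.s
  obtain rfl : q₀ = r₀ := ht₀.r.trans hr
  have h₀' : Dict.IsPull Z.j t' ⟨Z.j ≫ 𝟙 _, q₀, θ₀, hθ₀⟩ := by
    refine ⟨rfl, hr'.symm, ?_⟩
    let mk' : Over.mk (Z.j ≫ 𝟙 Z.pt) ⟶ Over.mk (𝟙 Z.pt) := Over.homMk Z.j rfl
    have e1 : c.map mk' ≫ ε.hom = θ₀ ≫ x.map (Over.homMk Z.j hr : Over.mk q₀ ⟶ Over.mk r) := ht₀.θ
    change c.map mk' ≫ ε.hom ≫ inv l = θ₀ ≫ x.map (Over.homMk Z.j hr' : Over.mk q₀ ⟶ Over.mk r')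
    rw [← cancel_mono l, Category.assoc, Category.assoc, IsIso.inv_hom_id]
    refine (congrArg (fun m => c.map mk' ≫ m) (Category.comp_id ε.hom)).trans ?_
    rw [e1, Category.assoc, e]
  have h3 := congrArg Dict.Tri.r (tri_eq_of_thick h hx Z t t' rfl _ ht₀ h₀')
  exact h3

variable {φ : _root_.IsoNat.FIso 𝒳 𝒴} {V : Over S} {v : overCat V ⥤ᵇ 𝒴}

theorem formallyUnramified_restrict (h𝒳 : IsFibGrpd 𝒳.p) (h𝒴 : IsFibGrpd 𝒴.p) (hc : Corr φ x y)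
    (hx : RepByAlgSpWith (LocP (@LocallyOfFiniteType ⊓ @FormallyUnramified)) x)
    (hk : KerTrivial y) {G : AlgSp.Space S} {e : ofSp G.obj ⥤ᵇ fp v y} (he : IsEquivOver e)
    {W O : Over S} [IsAffine W.left] [IsAffine O.left] (i : O ⟶ V) {p : (yon S).obj W ⟶ G.obj}
    (hp : RepWith @Etale p) {t : Dict.Tri v y W} (ht : Dict.Rel e h𝒴 p t) (k : W ⟶ O)
    (hki : k ≫ i = t.s) : FormallyUnramified k.left := by
  refine (Lib.AlgSpFormal.Yon.isFormallyUnramifiedMor_yon_map_iff k).1 fun sq l l' h1 h2 h3 h4 => ?_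
  let Z : Thick S := ⟨sq.A, sq.I, sq.sq_zero, sq.str⟩
  obtain ⟨a, rfl⟩ := (yon S).map_surjective (X := Z.pt) l
  obtain ⟨a', rfl⟩ := (yon S).map_surjective (X := Z.pt) l'
  have h₀ : Z.j ≫ a = Z.j ≫ a' := (yon S).map_injective (by
    rw [Functor.map_comp, Functor.map_comp]; exact h1.trans h3.symm)
  have hak : a ≫ k = a' ≫ k := (yon S).map_injective (by
    rw [Functor.map_comp, Functor.map_comp]; exact h2.trans h4.symm)
  obtain ⟨T, pr, pr', q, a'', hq, hq', ha, ha', hJ, hka⟩ := Fold.exists_fold Z k a a' h₀ hak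
  obtain ⟨⟨s, r, θ, hθ⟩, htZ⟩ := Dict.exists_pull h𝒴 a t
  obtain rfl : s = a ≫ t.s := htZ.s
  obtain rfl : r = a ≫ t.r := htZ.r
  obtain ⟨⟨s', r', θ', hθ'⟩, htZ'⟩ := Dict.exists_pull h𝒴 a' t
  obtain rfl : s' = a' ≫ t.s := htZ'.s
  obtain rfl : r' = a' ≫ t.r := htZ'.r
  obtain ⟨⟨s'', r'', θ'', hθ''⟩, htT⟩ := Dict.exists_pull h𝒴 a'' t
  obtain rfl : s'' = a'' ≫ t.s := htT.s
  obtain rfl : r'' = a'' ≫ t.r := htT.r
  have hss : a' ≫ t.s = a ≫ t.s := by rw [← hki, ← Category.assoc, ← hak, Category.assoc]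
  have hsT : a'' ≫ t.s = q ≫ a ≫ t.s := by
    rw [← hki, ← Category.assoc, hka, Category.assoc, Category.assoc]
  -- the folded object in `𝒳`
  let Y : 𝒴.p.Fiber Z.pt := ⟨y.obj (Over.mk (a ≫ t.r)), y.w_obj _⟩
  let mq : Over.mk (a'' ≫ t.s) ⟶ Over.mk (a ≫ t.s) := Over.homMk q hsT.symm
  have hmq : 𝒴.p.IsHomLift q (v.map mq) := Yoneda.map_isHomLift v mq
  have := hθ
  have := hθ''
  have := BasedBasic.isIso_of_isHomLift_id h𝒴 (R := T) θ''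
  obtain ⟨β, hβ⟩ := Cls.exists_hom_symm φ h𝒳 h𝒴
    (x' := ⟨x.obj (Over.mk (a'' ≫ t.r)), x.w_obj _⟩) (x := ⟨x.obj (Over.mk (a ≫ t.r)), x.w_obj _⟩)
    (y' := ⟨y.obj (Over.mk (a'' ≫ t.r)), y.w_obj _⟩) (y := Y)
    (b := inv θ'' ≫ v.map mq ≫ θ) (g := q) inferInstance
    (hc.cls_obj h𝒴 (Over.mk (a'' ≫ t.r))) (hc.cls_obj h𝒴 (Over.mk (a ≫ t.r)))
  let m₁ : Over.mk (a ≫ t.r) ⟶ Over.mk (a'' ≫ t.r) := Over.homMk pr
    (by change pr ≫ a'' ≫ t.r = a ≫ t.r; rw [← ha, Category.assoc])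
  let m₂ : Over.mk (a' ≫ t.r) ⟶ Over.mk (a'' ≫ t.r) := Over.homMk pr'
    (by change pr' ≫ a'' ≫ t.r = a' ≫ t.r; rw [← ha', Category.assoc])
  let j₁ : Over.mk (Z.j ≫ a ≫ t.r) ⟶ Over.mk (a ≫ t.r) := Over.homMk Z.j rfl
  let j₂ : Over.mk (Z.j ≫ a ≫ t.r) ⟶ Over.mk (a' ≫ t.r) := Over.homMk Z.j (by
    change Z.j ≫ a' ≫ t.r = Z.j ≫ a ≫ t.r
    rw [← Category.assoc, ← h₀, Category.assoc])
  have hm₁ : 𝒳.p.IsHomLift pr (x.map m₁) := Yoneda.map_isHomLift x m₁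
  have hm₂ : 𝒳.p.IsHomLift pr' (x.map m₂) := Yoneda.map_isHomLift x m₂
  have l₁ : 𝒳.p.IsHomLift (𝟙 Z.pt) (x.map m₁ ≫ β) := by rw [← hq]; infer_instance
  have l₂ : 𝒳.p.IsHomLift (𝟙 Z.pt) (x.map m₂ ≫ β) := by rw [← hq']; infer_instance
  have := isIso_of_vertical h𝒳 (x.map m₁ ≫ β) l₁
  have ej : x.map j₂ ≫ x.map m₂ = x.map j₁ ≫ x.map m₁ := by
    rw [← x.toFunctor.map_comp, ← x.toFunctor.map_comp]
    congr 1
    exact Over.OverMorphism.ext hJ.symm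
  have hr : a ≫ t.r = a' ≫ t.r := by
    refine eq_of_thick h𝒳 hx Z (r₀ := Z.j ≫ a ≫ t.r) rfl (Over.w j₂)
      ((x.map m₂ ≫ β) ≫ inv (x.map m₁ ≫ β)) inferInstance ?_
    change x.map j₂ ≫ (x.map m₂ ≫ β) ≫ inv (x.map m₁ ≫ β) = x.map j₁
    have e4 := congrArg (fun m => m ≫ β ≫ inv (x.map m₁ ≫ β)) ej
    simp only [Category.assoc] at e4
    rw [Category.assoc, e4, ← Category.assoc (x.map m₁), IsIso.hom_inv_id]
    exact Category.comp_id _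
  -- the automorphism
  let ms : Over.mk (a' ≫ t.s) ⟶ Over.mk (a ≫ t.s) := Over.homMk (𝟙 _) (by simp [hss])
  let mr : Over.mk (a' ≫ t.r) ⟶ Over.mk (a ≫ t.r) := Over.homMk (𝟙 _) (by simp [hr])
  have hms : 𝒴.p.IsHomLift (𝟙 Z.pt) (v.map ms) := Yoneda.map_isHomLift v ms
  have hmr : 𝒴.p.IsHomLift (𝟙 Z.pt) (y.map mr) := Yoneda.map_isHomLift y mr
  have := hθ'
  have := BasedBasic.isIso_of_isHomLift_id h𝒴 (R := Z.pt) θ'
  have := isIso_of_vertical h𝒴 (y.map mr) hmr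
  let kk : y.obj (Over.mk (a ≫ t.r)) ⟶ y.obj (Over.mk (a ≫ t.r)) :=
    inv (y.map mr) ≫ inv θ' ≫ v.map ms ≫ θ
  have hkk : 𝒴.p.IsHomLift (𝟙 Z.pt) kk := inferInstance
  obtain ⟨⟨s₀, r₀, θ₀, hθ₀⟩, ht₀⟩ := Dict.exists_pull h𝒴 Z.j
    (⟨a ≫ t.s, a ≫ t.r, θ, hθ⟩ : Dict.Tri v y Z.pt)
  obtain rfl : s₀ = Z.j ≫ a ≫ t.s := ht₀.s
  obtain rfl : r₀ = Z.j ≫ a ≫ t.r := ht₀.r
  obtain ⟨t₀', ht₀'⟩ := Dict.exists_pull h𝒴 Z.j (⟨a' ≫ t.s, a' ≫ t.r, θ', hθ'⟩ : Dict.Tri v y Z.pt)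
  have hg := Dict.rel_comp h𝒴 ht htZ
  have hg' := Dict.rel_comp h𝒴 ht htZ'
  have hgg := Dict.rel_comp h𝒴 hg ht₀
  rw [← Category.assoc, ← Functor.map_comp, h₀, Functor.map_comp, Category.assoc] at hgg
  obtain rfl := Dict.tri_unique h𝒴 (Dict.rel_comp h𝒴 hg' ht₀') hgg
  let n₁ : Over.mk (Z.j ≫ a ≫ t.s) ⟶ Over.mk (a ≫ t.s) := Over.homMk Z.j rfl
  let n₂ : Over.mk (Z.j ≫ a ≫ t.s) ⟶ Over.mk (a' ≫ t.s) := Over.homMk Z.j ht₀'.s.symm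
  let o₁ : Over.mk (Z.j ≫ a ≫ t.r) ⟶ Over.mk (a ≫ t.r) := Over.homMk Z.j rfl
  let o₂ : Over.mk (Z.j ≫ a ≫ t.r) ⟶ Over.mk (a' ≫ t.r) := Over.homMk Z.j ht₀'.r.symm
  have e₁ : v.map n₁ ≫ θ = θ₀ ≫ y.map o₁ := ht₀.θ
  have e₂ : v.map n₂ ≫ θ' = θ₀ ≫ y.map o₂ := ht₀'.θ
  have en : v.map n₂ ≫ v.map ms = v.map n₁ := by
    rw [← v.toFunctor.map_comp]; congr 1
  have eo : y.map o₂ ≫ y.map mr = y.map o₁ := by
    rw [← y.toFunctor.map_comp]; congr 1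
  have ho₁ : 𝒴.p.IsHomLift Z.j (y.map o₁) := Yoneda.map_isHomLift y o₁
  have hkey : Unram.EqAlong kk (𝟙 _) Z.j := by
    refine Unram.eqAlong_of_one h𝒴 (y.map o₁) ho₁ ?_
    have hθ₀' := hθ₀
    have := BasedBasic.isIso_of_isHomLift_id h𝒴 (R := Z.pt₀) θ₀
    have e3 : y.map o₂ ≫ inv θ' = inv θ₀ ≫ v.map n₂ := by
      rw [IsIso.comp_inv_eq, Category.assoc, e₂, IsIso.inv_hom_id_assoc]
    rw [Category.comp_id, ← eo]
    simp only [kk, Category.assoc, IsIso.hom_inv_id_assoc]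
    rw [reassoc_of% e3, reassoc_of% en, e₁, IsIso.inv_hom_id_assoc, eo]
  have hone := hk Z _ kk hkk hkey
  have hθeq : v.map ms ≫ θ = θ' ≫ y.map mr := by
    rw [← cancel_epi (inv θ'), ← cancel_epi (inv (y.map mr))]
    exact hone.trans (by simp)
  have hp2 : Dict.IsPull (𝟙 Z.pt) (⟨a ≫ t.s, a ≫ t.r, θ, hθ⟩ : Dict.Tri v y Z.pt)
      ⟨a' ≫ t.s, a' ≫ t.r, θ', hθ'⟩ :=
    ⟨by simp [hss], by simp [hr], hθeq⟩
  have hgp : (yon S).map a ≫ p = (yon S).map a' ≫ p := by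
    have h2 := Dict.rel_comp h𝒴 hg hp2
    rw [CategoryTheory.Functor.map_id, Category.id_comp] at h2
    exact Dict.map_unique h𝒴 he h2 hg'
  let sq' : AlgSp.InfSq p := ⟨sq.A, sq.I, sq.sq_zero, sq.str, (yon S).map (Z.j ≫ a),
    (yon S).map a ≫ p, by rw [Functor.map_comp, Category.assoc]⟩
  obtain ⟨l₀, -, huniq⟩ := Lib.AlgSpFormal.Yon.isFormallyEtaleMor_of_etale hp sq'
  exact (huniq _ ⟨(Functor.map_comp _ _ _).symm, rfl⟩).trans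
    (huniq _ ⟨(Functor.map_comp _ _ _).symm.trans (congrArg _ h₀.symm), hgp.symm⟩).symm

end Groth.Agent.H14.IsoNat.UnramCorr
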