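import Groth.Agent.H14.IsoNat.DetectKer
import Groth.Agent.H14.IsoNat.UnramCorr
import Groth.Agent.H14.IsoNat.CrossMap
import Groth.Agent.H14.IsoNat.Clean

/-!
Automorphisms of corresponding charts, trivial on a thickened subscheme, are trivial.
-/

set_option autoImplicit false
set_option backward.isDefEq.respectTransparency false
set_option backward.isDefEq.respectTransparency.types false
set_option maxHeartbeats 800000

universe u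

open CategoryTheory CategoryTheory.Limits AlgebraicGeometry Groth.Agent.Lib.Fibred.Descent

namespace Groth.Agent.H14.IsoNat.KerTriv

open Groth.Agent.Lib.Fibred.StackLemmas (isIso_of_vertical)
open FibCat (IsFibGrpd overCat toSelf inertiaToBase)
open AlgSt (RepByAlgSpWith IsAlgStack)
open AlgSp (LocP)

variable {S : Scheme.{u}} {𝒳 : AlgSt.Cat S} (Z : Thick S)

/-- The closed subscheme seen through the cross. -/
noncomputable abbrev ιT₀ : Cross.T (Z.A ⧸ Z.I) (Spec.map (CommRingCat.ofHom (Ideal.Quotient.mk Z.I)) ≫ Z.str) ⟶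
    Cross.T Z.A Z.str := Cross.ιT Z.str (Ideal.Quotient.mk Z.I)

variable {U : Over S} {x : overCat U ⥤ᵇ 𝒳}

/-- The gluing on one punctured line is constant, and its value is read at the origin. -/
theorem line_const (h : IsFibGrpd 𝒳.p)
    (hi : RepByAlgSpWith AlgSp.IsSeparatedMor (inertiaToBase (toSelf 𝒳)))
    (hx : RepByAlgSpWith (LocP (@LocallyOfFiniteType ⊓ @FormallyUnramified)) x)
    (r : Z.pt ⟶ U) {η : 𝒳.obj} (ε : η ⟶ x.obj (Over.mk r)) (hε : 𝒳.p.IsHomLift (𝟙 Z.pt) ε)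
    {ζu ζ : 𝒳.obj} (A : ζu ⟶ η) (hA : 𝒳.p.IsHomLift (Cross.π Z.A Z.str) A)
    {X : Over S} (ia ib : Cross.U Z.A Z.str ⟶ X) (φa φb : ζu ⟶ ζ) (hφa : 𝒳.p.IsHomLift ia φa)
    (hφb : 𝒳.p.IsHomLift ib φb) (pX : X ⟶ Cross.T Z.A Z.str) (hpa : ia ≫ pX = Cross.π Z.A Z.str)
    (hpb : ib ≫ pX = Cross.π Z.A Z.str)
    (l : Cross.L Z.A Z.str ⟶ Cross.U Z.A Z.str) (hl : l ≫ Cross.π Z.A Z.str = Cross.πL Z.A Z.str)
    {O : (Cross.U Z.A Z.str).left.Opens} (g : Cross.P Z.A Z.str ⟶ Cross.sub Z.A Z.str O) [IsIso g]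
    (hg : g ≫ Cross.subι Z.A Z.str O = Cross.j Z.A Z.str ≫ l)
    (hO : Cross.subι Z.A Z.str O ≫ ia = Cross.subι Z.A Z.str O ≫ ib) :
    ∃ c : η ⟶ η, 𝒳.p.IsHomLift (𝟙 Z.pt) c ∧
      (∀ (cU : ζu ⟶ ζu), 𝒳.p.IsHomLift (𝟙 (Cross.U Z.A Z.str)) cU → cU ≫ A = A ≫ c →
        ∀ {zO : 𝒳.obj} (wO : zO ⟶ ζu), 𝒳.p.IsHomLift (Cross.subι Z.A Z.str O) wO →
          wO ≫ cU ≫ φa = wO ≫ φb) ∧
      ∀ (X₀ : Over S) (f₀ : X₀ ⟶ X) (v : X₀ ⟶ Z.pt₀), IsPullback f₀ v pX (ιT₀ Z) →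
        ∀ {ζ₀ : 𝒳.obj} (P₀ : ζ₀ ⟶ ζ) (hP₀ : 𝒳.p.IsHomLift f₀ P₀) (G₀ : ζ₀ ⟶ η)
          (hG₀ : 𝒳.p.IsHomLift (f₀ ≫ pX) G₀) {η₀ : 𝒳.obj} (ma mb : Z.pt₀ ⟶ X₀) (o : η₀ ⟶ ζu)
          (θa θb : η₀ ⟶ ζ₀) (c₀ : η₀ ⟶ η₀),
          ma ≫ f₀ = (ιT₀ Z ≫ Cross.zero Z.A Z.str ≫ l) ≫ ia →
          mb ≫ f₀ = (ιT₀ Z ≫ Cross.zero Z.A Z.str ≫ l) ≫ ib →
          𝒳.p.IsHomLift (ιT₀ Z ≫ Cross.zero Z.A Z.str ≫ l) o →
          𝒳.p.IsHomLift ma θa → 𝒳.p.IsHomLift mb θb → θa ≫ P₀ = o ≫ φa → θb ≫ P₀ = o ≫ φb →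
          𝒳.p.IsHomLift (𝟙 Z.pt₀) c₀ → c₀ ≫ o ≫ A = o ≫ A ≫ c →
          θb ≫ G₀ = c₀ ≫ θa ≫ G₀ := by
  let R := Z.A
  let str := Z.str
  have hζu : 𝒳.p.obj ζu = Cross.U R str := IsHomLift.domain_eq 𝒳.p (Cross.π R str) A
  have hη : 𝒳.p.obj η = Cross.T R str := IsHomLift.codomain_eq 𝒳.p (Cross.π R str) A
  obtain ⟨ξL, uL, huL⟩ := exists_lift h hζu l
  have hξL : 𝒳.p.obj ξL = Cross.L R str := IsHomLift.domain_eq 𝒳.p l uL
  obtain ⟨ξP, vP, hvP⟩ := exists_lift h hξL (Cross.j R str)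
  have hξP : 𝒳.p.obj ξP = Cross.P R str := IsHomLift.domain_eq 𝒳.p (Cross.j R str) vP
  let u := vP ≫ uL
  have hu : 𝒳.p.IsHomLift (Cross.j R str ≫ l) u := inferInstance
  have hjl : (Cross.j R str ≫ l) ≫ ib = (Cross.j R str ≫ l) ≫ ia := by
    rw [← hg, Category.assoc, Category.assoc, hO]
  have hub : 𝒳.p.IsHomLift ((Cross.j R str ≫ l) ≫ ia) (u ≫ φb) := by rw [← hjl]; infer_instance
  obtain ⟨δ, hδ, eδ⟩ := exists_factor (f := (Cross.j R str ≫ l) ≫ ia) h (u ≫ φa) inferInstance (u ≫ φb) hub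
  let b := (Cross.j R str ≫ l) ≫ Cross.π R str
  have huA : 𝒳.p.IsHomLift b (u ≫ A) := inferInstance
  -- the value at one
  have hone : Unram.one R str ≫ b = 𝟙 _ := by
    change Unram.one R str ≫ (Cross.j R str ≫ l) ≫ Cross.π R str = _
    rw [Category.assoc, hl]
    ext1
    change Spec.map _ ≫ Spec.map _ ≫ Spec.map _ = 𝟙 _
    rw [← Spec.map_comp, ← Spec.map_comp, ← CommRingCat.ofHom_comp, ← CommRingCat.ofHom_comp,
      show (Unram.oneHom R).comp ((algebraMap (Polynomial R)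
        (Localization.Away (Polynomial.X : Polynomial R))).comp Polynomial.C) = RingHom.id R from
        RingHom.ext fun a => by simp [Unram.oneHom]]
    exact Spec.map_id _
  have := cart h (u ≫ A) huA
  have h1 : 𝒳.p.IsHomLift (Unram.one R str ≫ b) (𝟙 η) := by rw [hone]; exact IsHomLift.id hη
  let o₁ := Functor.IsStronglyCartesian.map 𝒳.p b (u ≫ A) (g := Unram.one R str) rfl (𝟙 η)
  have ho₁ : 𝒳.p.IsHomLift (Unram.one R str) o₁ := Functor.IsStronglyCartesian.map_isHomLift _ _ _ _ _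
  have eo₁ : o₁ ≫ u ≫ A = 𝟙 η := Functor.IsStronglyCartesian.fac _ _ _ _ _
  let c : η ⟶ η := o₁ ≫ δ ≫ u ≫ A
  have hc : 𝒳.p.IsHomLift (𝟙 Z.pt) c := by
    change 𝒳.p.IsHomLift (𝟙 (Cross.T R str)) c
    rw [← hone]; infer_instance
  obtain ⟨k, hk, ek⟩ := Detect.exists_pull_aut h (u ≫ A) huA c hc
  -- constancy
  have hδk : δ = k := by
    let mr : Over.mk (b ≫ r) ⟶ Over.mk r := Over.homMk b rfl
    have hmr : 𝒳.p.IsHomLift b (x.map mr) := Lib.AlgStack.Yoneda.map_isHomLift x mr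
    have huε : 𝒳.p.IsHomLift b ((u ≫ A) ≫ ε) :=
      IsHomLift.comp_lift_id_right' 𝒳.p b (u ≫ A) Z.pt ε
    obtain ⟨εP, hεP, -⟩ := exists_factor h (x.map mr) hmr ((u ≫ A) ≫ ε) huε
    refine Unram.eq_of_one R str h hi hx hξP (b ≫ r) εP hεP δ k hδ hk
      (Unram.eqAlong_of_one h o₁ ho₁ ?_)
    refine ext_lift h (u ≫ A) huA (g := Unram.one R str) inferInstance inferInstance ?_
    simp only [u, Category.assoc] at ek eo₁ ⊢
    rw [ek, reassoc_of% eo₁]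
    simp only [c, u, Category.assoc]
  subst hδk
  refine ⟨c, hc, fun cU hcU ecU {zO} wO hwO => ?_, ?_⟩
  · have hgu : 𝒳.p.IsHomLift (g ≫ Cross.subι Z.A Z.str O) u := by rw [hg]; infer_instance
    have := cart h wO hwO
    let w := Functor.IsStronglyCartesian.map 𝒳.p (Cross.subι Z.A Z.str O) wO (g := g) rfl u
    have hw : 𝒳.p.IsHomLift g w := Functor.IsStronglyCartesian.map_isHomLift _ _ _ _ _
    have ew : w ≫ wO = u := Functor.IsStronglyCartesian.fac _ _ _ _ _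
    have := cart h w hw
    have : IsIso w := Functor.IsStronglyCartesian.isIso_of_base_isIso 𝒳.p g w
    rw [← cancel_epi w, ← Category.assoc, ew, ← Category.assoc w wO φb, ew, ← eδ]
    simp only [← Category.assoc]
    congr 1
    refine ext_lift h A hA (g := Cross.j R str ≫ l) inferInstance inferInstance ?_
    simp only [Category.assoc]
    rw [ecU, ek]
    simp only [u, Category.assoc]
  intro X₀ f₀ v hX₀ ζ₀ P₀ hP₀ G₀ hG₀ η₀ ma mb o θa θb c₀ hma hmb ho hθa hθb eθa eθb hc₀ ec₀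
  let R' := Z.A ⧸ Z.I
  let str' := Spec.map (CommRingCat.ofHom (Ideal.Quotient.mk Z.I)) ≫ Z.str
  let κ := Cross.ιL Z.str (Ideal.Quotient.mk Z.I)
  have hκ : κ ≫ Cross.πL R str = Cross.πL R' str' ≫ ιT₀ Z := Cross.ιL_πL _ _
  have hq : ∀ (i : Cross.U R str ⟶ X), i ≫ pX = Cross.π R str →
      ((κ ≫ l) ≫ i) ≫ pX = Cross.πL R' str' ≫ ιT₀ Z := by
    intro i hi'
    rw [Category.assoc, hi', Category.assoc, hl, hκ]
  let la : Cross.L R' str' ⟶ X₀ := hX₀.lift ((κ ≫ l) ≫ ia) (Cross.πL R' str') (hq ia hpa)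
  let lb : Cross.L R' str' ⟶ X₀ := hX₀.lift ((κ ≫ l) ≫ ib) (Cross.πL R' str') (hq ib hpb)
  have hla : la ≫ f₀ = (κ ≫ l) ≫ ia := hX₀.lift_fst _ _ _
  have hlb : lb ≫ f₀ = (κ ≫ l) ≫ ib := hX₀.lift_fst _ _ _
  have hla' : la ≫ v = Cross.πL R' str' := hX₀.lift_snd _ _ _
  have hlb' : lb ≫ v = Cross.πL R' str' := hX₀.lift_snd _ _ _
  obtain ⟨zL, ρ, hρ⟩ := exists_lift h hξL κ
  have hzL : 𝒳.p.obj zL = Cross.L R' str' := IsHomLift.domain_eq 𝒳.p κ ρ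
  obtain ⟨zP, vz, hvz⟩ := exists_lift h hzL (Cross.j R' str')
  let wa := ρ ≫ uL
  have hwa : 𝒳.p.IsHomLift (κ ≫ l) wa := inferInstance
  have hwaA : 𝒳.p.IsHomLift ((κ ≫ l) ≫ Cross.π R str) (wa ≫ A) := inferInstance
  obtain ⟨kz, hkz, ekz⟩ := Detect.exists_pull_aut h (wa ≫ A) hwaA c hc
  have := cart h P₀ hP₀
  have la1 : 𝒳.p.IsHomLift (la ≫ f₀) (wa ≫ φa) := by rw [hla]; infer_instance
  have lb1 : 𝒳.p.IsHomLift (lb ≫ f₀) (wa ≫ φb) := by rw [hlb]; infer_instance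
  let Θa := Functor.IsStronglyCartesian.map 𝒳.p f₀ P₀ (g := la) rfl (wa ≫ φa)
  let Θb := Functor.IsStronglyCartesian.map 𝒳.p f₀ P₀ (g := lb) rfl (wa ≫ φb)
  have hΘa : 𝒳.p.IsHomLift la Θa := Functor.IsStronglyCartesian.map_isHomLift _ _ _ _ _
  have hΘb : 𝒳.p.IsHomLift lb Θb := Functor.IsStronglyCartesian.map_isHomLift _ _ _ _ _
  have eΘa : Θa ≫ P₀ = wa ≫ φa := Functor.IsStronglyCartesian.fac _ _ _ _ _
  have eΘb : Θb ≫ P₀ = wa ≫ φb := Functor.IsStronglyCartesian.fac _ _ _ _ _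
  have hbase : lb ≫ f₀ ≫ pX = la ≫ f₀ ≫ pX := by rw [hX₀.w, reassoc_of% hla', reassoc_of% hlb']
  have hBa : 𝒳.p.IsHomLift (la ≫ f₀ ≫ pX) (kz ≫ Θa ≫ G₀) := inferInstance
  have hBb : 𝒳.p.IsHomLift (la ≫ f₀ ≫ pX) (Θb ≫ G₀) := by rw [← hbase]; infer_instance
  -- equality on the punctured line
  have hP : vz ≫ kz ≫ Θa = vz ≫ Θb := by
    have hjla : Cross.j R' str' ≫ la = Cross.j R' str' ≫ lb := by
      apply hX₀.hom_ext
      · rw [Category.assoc, Category.assoc, hla, hlb]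
        have e := congrArg (fun m => Cross.ιP Z.str (Ideal.Quotient.mk Z.I) ≫ m) hjl
        have hPj : Cross.ιP Z.str (Ideal.Quotient.mk Z.I) ≫ Cross.j R str = Cross.j R' str' ≫ κ :=
          Cross.ιP_j _ _
        simp only [← Category.assoc, hPj] at e
        simp only [← Category.assoc]
        exact e.symm
      · rw [Category.assoc, Category.assoc, hla', hlb']
    have hl1 : 𝒳.p.IsHomLift (Cross.j R' str' ≫ la) (vz ≫ kz ≫ Θa) := inferInstance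
    have hl2 : 𝒳.p.IsHomLift (Cross.j R' str' ≫ la) (vz ≫ Θb) := by rw [hjla]; infer_instance
    refine ext_lift h P₀ hP₀ hl1 hl2 ?_
    simp only [Category.assoc]
    rw [eΘa, eΘb]
    have hwP : 𝒳.p.IsHomLift (Cross.ιP Z.str (Ideal.Quotient.mk Z.I) ≫ Cross.j R str) (vz ≫ ρ) := by
      rw [Cross.ιP_j]
      exact (inferInstance : 𝒳.p.IsHomLift (Cross.j R' str' ≫ κ) (vz ≫ ρ))
    have := cart h vP hvP
    let wP := Functor.IsStronglyCartesian.map 𝒳.p (Cross.j R str) vP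
      (g := Cross.ιP Z.str (Ideal.Quotient.mk Z.I)) rfl (vz ≫ ρ)
    have hwP' : 𝒳.p.IsHomLift (Cross.ιP Z.str (Ideal.Quotient.mk Z.I)) wP :=
      Functor.IsStronglyCartesian.map_isHomLift _ _ _ _ _
    have ewP : wP ≫ vP = vz ≫ ρ := Functor.IsStronglyCartesian.fac _ _ _ _ _
    have e1 : vz ≫ kz ≫ wa = wP ≫ δ ≫ u := by
      have l1 : 𝒳.p.IsHomLift (Cross.j R' str' ≫ κ ≫ l) (vz ≫ kz ≫ wa) := inferInstance
      have l2 : 𝒳.p.IsHomLift (Cross.j R' str' ≫ κ ≫ l) (wP ≫ δ ≫ u) := by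
        rw [← Category.assoc, ← Cross.ιP_j, Category.assoc]; infer_instance
      refine ext_lift h A hA l1 l2 ?_
      simp only [Category.assoc]
      rw [ekz, ek]
      simp only [Category.assoc, u, wa, reassoc_of% ewP]
    rw [reassoc_of% e1, eδ]
    simp only [u, wa, Category.assoc, reassoc_of% ewP]
  have hext : kz ≫ Θa ≫ G₀ = Θb ≫ G₀ := by
    obtain ⟨θ, hθ, eθ⟩ := exists_factor h (kz ≫ Θa ≫ G₀) hBa (Θb ≫ G₀) hBb
    have hvθ : vz ≫ θ = vz ≫ 𝟙 zL := by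
      refine ext_lift h (kz ≫ Θa ≫ G₀) hBa (g := Cross.j R' str')
        inferInstance (by rw [Category.comp_id]; exact hvz) ?_
      simp only [Category.assoc]
      rw [eθ, Category.id_comp, reassoc_of% hP]
    rw [← eθ, AutExt.vert_ext h hi R' str' hzL θ (𝟙 zL) hθ (IsHomLift.id hzL) vz hvz hvθ,
      Category.id_comp]
  -- at the origin
  have hmono : Mono (ιT₀ Z) := (Over.forget S).mono_of_mono_map
    (show Mono (Spec.map (CommRingCat.ofHom (Ideal.Quotient.mk Z.I))) from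
      have := IsClosedImmersion.spec_of_surjective (CommRingCat.ofHom (Ideal.Quotient.mk Z.I))
        Ideal.Quotient.mk_surjective
      inferInstance)
  have hzero : Cross.zero R' str' ≫ κ ≫ l = ιT₀ Z ≫ Cross.zero R str ≫ l := by
    rw [← Category.assoc, Cross.zero_ιL, Category.assoc]
  have hoo : 𝒳.p.IsHomLift (Cross.zero R' str' ≫ κ ≫ l) o := by rw [hzero]; exact ho
  have := cart h wa hwa
  let z := Functor.IsStronglyCartesian.map 𝒳.p (κ ≫ l) wa (g := Cross.zero R' str') rfl o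
  have hz : 𝒳.p.IsHomLift (Cross.zero R' str') z := Functor.IsStronglyCartesian.map_isHomLift _ _ _ _ _
  have ez : z ≫ wa = o := Functor.IsStronglyCartesian.fac _ _ _ _ _
  have hma' : ma = Cross.zero R' str' ≫ la := by
    apply hX₀.hom_ext
    · rw [hma, Category.assoc (Cross.zero R' str'), hla, ← hzero]
      simp only [Category.assoc]
    · rw [Category.assoc, hla', Cross.zero_πL]
      apply (cancel_mono (ιT₀ Z)).1
      rw [Category.assoc, ← hX₀.w, reassoc_of% hma, hpa, hl, Cross.zero_πL, Category.comp_id,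
        Category.id_comp]
  have hmb' : mb = Cross.zero R' str' ≫ lb := by
    apply hX₀.hom_ext
    · rw [hmb, Category.assoc (Cross.zero R' str'), hlb, ← hzero]
      simp only [Category.assoc]
    · rw [Category.assoc, hlb', Cross.zero_πL]
      apply (cancel_mono (ιT₀ Z)).1
      rw [Category.assoc, ← hX₀.w, reassoc_of% hmb, hpb, hl, Cross.zero_πL, Category.comp_id,
        Category.id_comp]
  have ea : θa = z ≫ Θa := ext_lift h P₀ hP₀ hθa (by rw [hma']; infer_instance)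
    (by rw [eθa, Category.assoc, eΘa, reassoc_of% ez])
  have eb : θb = z ≫ Θb := ext_lift h P₀ hP₀ hθb (by rw [hmb']; infer_instance)
    (by rw [eθb, Category.assoc, eΘb, reassoc_of% ez])
  have ekc : z ≫ kz = c₀ ≫ z := by
    refine ext_lift h (wa ≫ A) hwaA (g := Cross.zero R' str') inferInstance
      (IsHomLift.comp_lift_id_left' 𝒳.p Z.pt₀ c₀ (Cross.zero R' str') z) ?_
    simp only [Category.assoc] at ekz ⊢
    rw [ekz, reassoc_of% ez, reassoc_of% ez, ec₀]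
  rw [ea, eb, Category.assoc, ← hext, reassoc_of% ekc, Category.assoc]

/-- Objects on the doubled cross trivial on the closed subscheme are trivial. -/
theorem exists_trivial (h : IsAlgStack Scheme.fppfPrecoverage 𝒳)
    (hi : RepByAlgSpWith AlgSp.IsSeparatedMor (inertiaToBase (toSelf 𝒳)))
    (hx : RepByAlgSpWith (LocP (@LocallyOfFiniteType ⊓ @FormallyUnramified)) x)
    (r : Z.pt ⟶ U) {η : 𝒳.obj} (ε : η ⟶ x.obj (Over.mk r)) (hε : 𝒳.p.IsHomLift (𝟙 Z.pt) ε)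
    {ζu ζ : 𝒳.obj} (A : ζu ⟶ η) (hA : 𝒳.p.IsHomLift (Cross.π Z.A Z.str) A)
    {X : Over S} (ia ib : Cross.U Z.A Z.str ⟶ X) (hia : IsOpenImmersion ia.left)
    (hib : IsOpenImmersion ib.left) (hcov : ∀ x : ↥X.left, x ∈ Set.range ia.left ∨ x ∈ Set.range ib.left)
    (hpB : IsPullback (Cross.subι Z.A Z.str (Cross.O₁ Z.A Z.str ⊔ Cross.O₂ Z.A Z.str))
      (Cross.subι Z.A Z.str (Cross.O₁ Z.A Z.str ⊔ Cross.O₂ Z.A Z.str)) ia ib)
    (pX : X ⟶ Cross.T Z.A Z.str) (hpa : ia ≫ pX = Cross.π Z.A Z.str)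
    (hpb : ib ≫ pX = Cross.π Z.A Z.str) (φa φb : ζu ⟶ ζ) (hζ : 𝒳.p.obj ζ = X)
    (hφa : 𝒳.p.IsHomLift ia φa) (hφb : 𝒳.p.IsHomLift ib φb)
    (hG₀ : ∀ (X₀ : Over S) (f₀ : X₀ ⟶ X) (v : X₀ ⟶ Z.pt₀), f₀ ≫ pX = v ≫ ιT₀ Z →
      ∀ (ζ₀ : 𝒳.obj) (P₀ : ζ₀ ⟶ ζ), 𝒳.p.IsHomLift f₀ P₀ →
        ∃ G₀ : ζ₀ ⟶ η, 𝒳.p.IsHomLift (f₀ ≫ pX) G₀) :
    ∃ t : ζ ⟶ η, 𝒳.p.IsHomLift pX t := by
  let R := Z.A
  let str := Z.str
  have hg := h.isStack.1
  have hζu : 𝒳.p.obj ζu = Cross.U R str := IsHomLift.domain_eq 𝒳.p (Cross.π R str) A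
  have hη : 𝒳.p.obj η = Cross.T R str := IsHomLift.codomain_eq 𝒳.p (Cross.π R str) A
  obtain ⟨g₁, _, eg₁⟩ := Cross.exists_isIso₁ R str
  obtain ⟨g₂, _, eg₂⟩ := Cross.exists_isIso₂ R str
  let cD : Glue2.Cov (Cross.sub R str (Cross.O₁ R str ⊔ Cross.O₂ R str)) :=
    Double.union (Cross.O₁ R str) (Cross.O₂ R str)
  let pD := Cross.subι R str (Cross.O₁ R str ⊔ Cross.O₂ R str)
  have s1 : cD.ia ≫ pD = Cross.subι R str (Cross.O₁ R str) := by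
    ext1; exact Scheme.homOfLE_ι _ le_sup_left
  have s2 : cD.ib ≫ pD = Cross.subι R str (Cross.O₂ R str) := by
    ext1; exact Scheme.homOfLE_ι _ le_sup_right
  have hab : pD ≫ ia = pD ≫ ib := hpB.w
  have hO₁ : Cross.subι R str (Cross.O₁ R str) ≫ ia = Cross.subι R str (Cross.O₁ R str) ≫ ib := by
    rw [← s1, Category.assoc, Category.assoc, hab]
  have hO₂ : Cross.subι R str (Cross.O₂ R str) ≫ ia = Cross.subι R str (Cross.O₂ R str) ≫ ib := by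
    rw [← s2, Category.assoc, Category.assoc, hab]
  obtain ⟨c₁, hc₁, hw₁, ho₁⟩ := line_const Z hg hi hx r ε hε A hA ia ib φa φb hφa hφb pX hpa hpb
    (Cross.l₁ R str) (Cross.l₁_π R str) g₁ eg₁ hO₁
  obtain ⟨c₂, hc₂, hw₂, ho₂⟩ := line_const Z hg hi hx r ε hε A hA ia ib φa φb hφa hφb pX hpa hpb
    (Cross.l₂ R str) (Cross.l₂_π R str) g₂ eg₂ hO₂
  -- the values agree on the closed subscheme
  have hpull := IsPullback.of_hasPullback pX (ιT₀ Z)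
  let X₀ := pullback pX (ιT₀ Z)
  let f₀ : X₀ ⟶ X := pullback.fst _ _
  obtain ⟨ζ₀, P₀, hP₀⟩ := exists_lift hg hζ f₀
  obtain ⟨G₀, hG⟩ := hG₀ X₀ f₀ _ hpull.w ζ₀ P₀ hP₀
  obtain ⟨η₀, ψ₀, hψ₀⟩ := exists_lift hg hη (ιT₀ Z)
  let b₀ := ιT₀ Z ≫ Cross.zero R str ≫ Cross.l₁ R str
  have hb₀ : b₀ ≫ Cross.π R str = ιT₀ Z := by
    simp only [b₀, Category.assoc, Cross.l₁_π, Cross.zero_πL]
    exact Category.comp_id _
  have hb₂ : ιT₀ Z ≫ Cross.zero R str ≫ Cross.l₂ R str = b₀ := by rw [Cross.zero_l₂]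
  have hψ₀' : 𝒳.p.IsHomLift (b₀ ≫ Cross.π R str) ψ₀ := by rw [hb₀]; exact hψ₀
  have := cart hg A hA
  let o := Functor.IsStronglyCartesian.map 𝒳.p (Cross.π R str) A (g := b₀) rfl ψ₀
  have ho : 𝒳.p.IsHomLift b₀ o := Functor.IsStronglyCartesian.map_isHomLift _ _ _ _ _
  have eo : o ≫ A = ψ₀ := Functor.IsStronglyCartesian.fac _ _ _ _ _
  have hwa : (b₀ ≫ ia) ≫ pX = 𝟙 _ ≫ ιT₀ Z := by rw [Category.assoc, hpa, hb₀, Category.id_comp]
  have hwb : (b₀ ≫ ib) ≫ pX = 𝟙 _ ≫ ιT₀ Z := by rw [Category.assoc, hpb, hb₀, Category.id_comp]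
  let ma : Z.pt₀ ⟶ X₀ := hpull.lift (b₀ ≫ ia) (𝟙 _) hwa
  let mb : Z.pt₀ ⟶ X₀ := hpull.lift (b₀ ≫ ib) (𝟙 _) hwb
  have hma : ma ≫ f₀ = b₀ ≫ ia := hpull.lift_fst _ _ _
  have hmb : mb ≫ f₀ = b₀ ≫ ib := hpull.lift_fst _ _ _
  have := cart hg P₀ hP₀
  have la : 𝒳.p.IsHomLift (ma ≫ f₀) (o ≫ φa) := by rw [hma]; infer_instance
  have lb : 𝒳.p.IsHomLift (mb ≫ f₀) (o ≫ φb) := by rw [hmb]; infer_instance
  let θa := Functor.IsStronglyCartesian.map 𝒳.p f₀ P₀ (g := ma) rfl (o ≫ φa)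
  let θb := Functor.IsStronglyCartesian.map 𝒳.p f₀ P₀ (g := mb) rfl (o ≫ φb)
  have hθa : 𝒳.p.IsHomLift ma θa := Functor.IsStronglyCartesian.map_isHomLift _ _ _ _ _
  have hθb : 𝒳.p.IsHomLift mb θb := Functor.IsStronglyCartesian.map_isHomLift _ _ _ _ _
  have eθa : θa ≫ P₀ = o ≫ φa := Functor.IsStronglyCartesian.fac _ _ _ _ _
  have eθb : θb ≫ P₀ = o ≫ φb := Functor.IsStronglyCartesian.fac _ _ _ _ _
  obtain ⟨d₁, hd₁, ed₁⟩ := Detect.exists_pull_aut hg ψ₀ hψ₀ c₁ hc₁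
  obtain ⟨d₂, hd₂, ed₂⟩ := Detect.exists_pull_aut hg ψ₀ hψ₀ c₂ hc₂
  have e₁ := ho₁ X₀ f₀ _ hpull P₀ hP₀ G₀ hG ma mb o θa θb d₁ hma hmb ho hθa hθb eθa eθb hd₁
    (by rw [eo, ed₁, reassoc_of% eo])
  have e₂ := ho₂ X₀ f₀ _ hpull P₀ hP₀ G₀ hG ma mb o θa θb d₂ (by rw [hb₂]; exact hma)
    (by rw [hb₂]; exact hmb) (by rw [hb₂]; exact ho) hθa hθb eθa eθb hd₂
    (by rw [eo, ed₂, reassoc_of% eo])
  have hd : d₁ = d₂ := ext_lift hg (θa ≫ G₀) (f := ma ≫ f₀ ≫ pX) inferInstance (g := 𝟙 Z.pt₀) hd₁ hd₂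
    (e₁.symm.trans e₂)
  have hcc : c₁ = c₂ := Unram.eq_of_thick hg hx Z hη r ε hε c₁ c₂ hc₁ hc₂
    (Unram.eqAlong_of_one hg ψ₀ hψ₀ (by rw [← ed₁, ← ed₂, hd]))
  subst hcc
  -- gluing
  obtain ⟨cU, hcU, ecU⟩ := Detect.exists_pull_aut hg A hA c₁ hc₁
  obtain ⟨ξd, pd, hpd⟩ := exists_lift hg hζu pD
  have hξd : 𝒳.p.obj ξd = _ := IsHomLift.domain_eq 𝒳.p pD pd
  have hla : 𝒳.p.IsHomLift (pD ≫ ia) (pd ≫ cU ≫ φa) := inferInstance
  have hlb : 𝒳.p.IsHomLift (pD ≫ ia) (pd ≫ φb) := by rw [hab]; infer_instance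
  have hcompat : pd ≫ cU ≫ φa = pd ≫ φb := by
    obtain ⟨ν, hν, eν⟩ := exists_factor hg (pd ≫ cU ≫ φa) hla (pd ≫ φb) hlb
    have hν1 : ν = 𝟙 ξd := by
      refine (Detect.stackFor h (Double.union_covers _ _)).1 ν (𝟙 ξd) hν (IsHomLift.id hξd)
        fun V g hg' z ρ hρ => ?_
      refine ext_lift hg (pd ≫ cU ≫ φa) hla (g := g) inferInstance inferInstance ?_
      simp only [Category.assoc, Category.id_comp]
      rw [eν]
      rcases hg' with ⟨ka, rfl⟩ | ⟨kb, rfl⟩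
      · obtain ⟨z₁, q₁, hq₁⟩ := exists_lift hg hξd cD.ia
        have := cart hg q₁ hq₁
        let θ := Functor.IsStronglyCartesian.map 𝒳.p cD.ia q₁ (g := ka) rfl ρ
        have eθ : θ ≫ q₁ = ρ := Functor.IsStronglyCartesian.fac _ _ _ _ _
        have hl : 𝒳.p.IsHomLift (Cross.subι R str (Cross.O₁ R str)) (q₁ ≫ pd) := by
          rw [← s1]; infer_instance
        have e := hw₁ cU hcU ecU (q₁ ≫ pd) hl
        simp only [Category.assoc] at e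
        rw [← eθ, Category.assoc, Category.assoc, e]
      · obtain ⟨z₂, q₂, hq₂⟩ := exists_lift hg hξd cD.ib
        have := cart hg q₂ hq₂
        let θ := Functor.IsStronglyCartesian.map 𝒳.p cD.ib q₂ (g := kb) rfl ρ
        have eθ : θ ≫ q₂ = ρ := Functor.IsStronglyCartesian.fac _ _ _ _ _
        have hl : 𝒳.p.IsHomLift (Cross.subι R str (Cross.O₂ R str)) (q₂ ≫ pd) := by
          rw [← s2]; infer_instance
        have e := hw₂ cU hcU ecU (q₂ ≫ pd) hl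
        simp only [Category.assoc] at e
        rw [← eθ, Category.assoc, Category.assoc, e]
    rw [← eν, hν1, Category.id_comp]
  obtain ⟨ζ', Q, hQ⟩ := exists_lift hg hη pX
  have := cart hg Q hQ
  let ψa := Functor.IsStronglyCartesian.map 𝒳.p pX Q (g := ia) hpa.symm A
  let ψb := Functor.IsStronglyCartesian.map 𝒳.p pX Q (g := ib) hpb.symm A
  have hψa : 𝒳.p.IsHomLift ia ψa := Functor.IsStronglyCartesian.map_isHomLift _ _ _ _ _
  have hψb : 𝒳.p.IsHomLift ib ψb := Functor.IsStronglyCartesian.map_isHomLift _ _ _ _ _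
  let cX : Glue2.Cov X := ⟨_, _, _, ia, ib, pD, pD,
    (Over.forget S).mono_of_mono_map (inferInstanceAs (Mono ia.left)),
    (Over.forget S).mono_of_mono_map (inferInstanceAs (Mono ib.left)), hpB⟩
  obtain ⟨t, ht, -, -⟩ := Glue2.exists_desc (c := cX) (pa := pd) (pb := pd) hg
    (Detect.stackFor h (Double.sieve_mem cX hia hib hcov)).2.1 hζ
    (IsHomLift.domain_eq 𝒳.p pX Q) hpd (cU ≫ φa) φb
    (IsHomLift.comp_lift_id_left' 𝒳.p (Cross.U R str) cU ia φa) hφb hcompat ψa ψb hψa hψb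
    (ext_lift hg Q hQ (g := pD ≫ ia) inferInstance (by rw [hab]; infer_instance) (by
      rw [Category.assoc, Category.assoc]
      simp only [ψa, ψb, Functor.IsStronglyCartesian.fac])) hpd
  exact ⟨t ≫ Q, inferInstance⟩

variable {𝒴 : AlgSt.Cat S} {φ : _root_.IsoNat.FIso 𝒳 𝒴} {y : overCat U ⥤ᵇ 𝒴}

theorem kerTrivial_of_corr (h𝒳 : IsAlgStack Scheme.fppfPrecoverage 𝒳)
    (h𝒴 : IsAlgStack Scheme.fppfPrecoverage 𝒴)
    (hi : RepByAlgSpWith AlgSp.IsSeparatedMor (inertiaToBase (toSelf 𝒳)))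
    (hi' : RepByAlgSpWith AlgSp.IsSeparatedMor (inertiaToBase (toSelf 𝒴)))
    (hc : Corr φ x y) (hx : RepByAlgSpWith (LocP (@LocallyOfFiniteType ⊓ @FormallyUnramified)) x) :
    UnramCorr.KerTrivial y := by
  intro Z r k hk hk₀
  have g𝒳 := h𝒳.isStack.1
  have g𝒴 := h𝒴.isStack.1
  let ηx : 𝒳.p.Fiber Z.pt := ⟨x.obj (Over.mk r), x.w_obj _⟩
  let ηy : 𝒴.p.Fiber Z.pt := ⟨y.obj (Over.mk r), y.w_obj _⟩
  have hη : φ.toEquiv Z.pt (_root_.IsoNat.cls ηx) = _root_.IsoNat.cls ηy := hc.cls_obj g𝒴 (Over.mk r)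
  obtain ⟨ζu, A, hA⟩ := Cls.exists_pullback g𝒳 (Cross.π Z.A Z.str) ηx
  obtain ⟨ξu, hξu⟩ := Cls.exists_cls (φ.toEquiv _ (_root_.IsoNat.cls ζu))
  obtain ⟨Pu, hPu⟩ := Cls.exists_hom φ hA hξu.symm hη
  obtain ⟨X, ia, ib, hia, hib, hcov, hpB, hd⟩ :=
    Double.exists_double' (Cross.U Z.A Z.str) (Cross.O₁ Z.A Z.str ⊔ Cross.O₂ Z.A Z.str)
  obtain ⟨pX, hpa, hpb⟩ := hd _ (Cross.π Z.A Z.str)
  refine Detect.eq_id_of_twist Z.A Z.str h𝒴 hi' Pu hPu ia ib hia hib hcov hpB pX hpa hpb (ιT₀ Z)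
    (fun ξ φa φb hξ hφa hφb hG₀ => ?_) k hk hk₀
  obtain ⟨ζ, hζ⟩ := Cls.exists_cls ((φ.toEquiv X).symm (_root_.IsoNat.cls ⟨ξ, hξ⟩))
  have e : φ.toEquiv X (_root_.IsoNat.cls ζ) = _root_.IsoNat.cls ⟨ξ, hξ⟩ := by
    rw [hζ, Equiv.apply_symm_apply]
  obtain ⟨a, ha⟩ := Cls.exists_hom_symm φ g𝒳 g𝒴 (y := ⟨ξ, hξ⟩) hφa hξu.symm e
  obtain ⟨b, hb⟩ := Cls.exists_hom_symm φ g𝒳 g𝒴 (y := ⟨ξ, hξ⟩) hφb hξu.symm e
  obtain ⟨t, ht⟩ := exists_trivial Z h𝒳 hi hx r (𝟙 ηx.1) (IsHomLift.id ηx.2) A hA ia ib hia hib hcov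
    hpB pX hpa hpb a b ζ.2 ha hb fun X₀ f₀ v hv ζ₀ P₀ hP₀ => by
      have hζ₀ : 𝒳.p.obj ζ₀ = X₀ := IsHomLift.domain_eq 𝒳.p f₀ P₀
      obtain ⟨ξ₀, hξ₀⟩ := Cls.exists_cls (φ.toEquiv X₀ (_root_.IsoNat.cls ⟨ζ₀, hζ₀⟩))
      obtain ⟨P', hP'⟩ := Cls.exists_hom φ (x' := ⟨ζ₀, hζ₀⟩) (x := ζ) (y := ⟨ξ, hξ⟩) hP₀ hξ₀.symm e
      obtain ⟨G₀, hG⟩ := hG₀ X₀ f₀ v hv ξ₀.1 P' hP'
      exact Cls.exists_hom_symm φ g𝒳 g𝒴 (y' := ξ₀) (y := ηy) (x' := ⟨ζ₀, hζ₀⟩) (x := ηx) hG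
        hξ₀.symm hη
  exact Cls.exists_hom φ (x' := ζ) (x := ηx) (y' := ⟨ξ, hξ⟩) (y := ηy) ht e hη

end Groth.Agent.H14.IsoNat.KerTriv
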