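import Groth.Agent.H14.IsoNat.Dict
import Groth.Agent.Lib.SmoothLift.Space
import Groth.Agent.S1488

/-!
Infinitesimal lifting for charts, and smoothness.
-/

set_option autoImplicit false
set_option backward.isDefEq.respectTransparency false
set_option backward.isDefEq.respectTransparency.types false

universe u

set_option maxHeartbeats 400000

open CategoryTheory CategoryTheory.Limits AlgebraicGeometry Opposite

namespace Groth.Agent.H14.IsoNat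

open Groth.Agent.Lib.AlgStack
open FibCat (IsEquivOver fp fpFst overCat IsFibGrpd)
open AlgSt (ofSp spMapOfOver RepByAlgSpWith)
open AlgSp (Sp yon IsAlgSpace LocP)

/-- A square-zero thickening of affine schemes over the base. -/
structure Thick (S : Scheme.{u}) : Type (u + 1) where
  A : Type u
  [commRing : CommRing A]
  I : Ideal A
  sq_zero : I ^ 2 = ⊥
  str : Spec (.of A) ⟶ S

namespace Thick

variable {S : Scheme.{u}} (Z : Thick S)

instance : CommRing Z.A := Z.commRing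

/-- The thickened scheme. -/
noncomputable abbrev pt : Over S := Over.mk Z.str

/-- The closed subscheme. -/
noncomputable abbrev pt₀ : Over S :=
  Over.mk (Spec.map (CommRingCat.ofHom (Ideal.Quotient.mk Z.I)) ≫ Z.str)

/-- The inclusion. -/
noncomputable abbrev j : Z.pt₀ ⟶ Z.pt :=
  Over.homMk (Spec.map (CommRingCat.ofHom (Ideal.Quotient.mk Z.I))) rfl

end Thick

variable {S : Scheme.{u}} {𝒳 : AlgSt.Cat S}

/-- A chart lifts along square-zero thickenings. -/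
def Lifts {U : Over S} (x : overCat U ⥤ᵇ 𝒳) : Prop :=
  ∀ (Z : Thick S) (u₀ : Z.pt₀ ⟶ U) (η : 𝒳.obj) (α : x.obj (Over.mk u₀) ⟶ η),
    𝒳.p.IsHomLift Z.j α →
      ∃ (u : Z.pt ⟶ U) (hu : Z.j ≫ u = u₀) (β : x.obj (Over.mk u) ⟶ η),
        𝒳.p.IsHomLift (𝟙 Z.pt) β ∧ x.map (Over.homMk Z.j hu : Over.mk u₀ ⟶ Over.mk u) ≫ β = α

namespace Lifts

theorem of_smooth (h : IsFibGrpd 𝒳.p) {U : Over S} {x : overCat U ⥤ᵇ 𝒳}
    (hx : RepByAlgSpWith (LocP @Smooth) x) : Lifts x := by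
  intro Z u₀ η α hα
  have hη : 𝒳.p.obj η = Z.pt := IsHomLift.codomain_eq 𝒳.p Z.j α
  let z := Yoneda.fromObj h hη
  obtain ⟨ε, hε⟩ := Yoneda.exists_fromObj_iso h hη
  obtain ⟨G, e, he, hG⟩ := hx Z.pt z
  let toT : Over.mk Z.j ⟶ Over.mk (𝟙 Z.pt) := Over.homMk Z.j (Category.comp_id _)
  have h1 : 𝒳.p.IsHomLift Z.j (z.map toT) := Yoneda.map_isHomLift z toT
  have h2 : 𝒳.p.IsHomLift Z.j (z.map toT ≫ ε.hom) :=
    IsHomLift.comp_lift_id_right' 𝒳.p Z.j _ Z.pt ε.hom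
  have := Yoneda.stronglyCartesian h Z.j (z.map toT ≫ ε.hom)
  let ψ := Functor.IsStronglyCartesian.map 𝒳.p Z.j (z.map toT ≫ ε.hom) (g := 𝟙 Z.pt₀)
    (Category.id_comp Z.j).symm α
  have hψ : 𝒳.p.IsHomLift (𝟙 Z.pt₀) ψ := Functor.IsStronglyCartesian.map_isHomLift _ _ _ _ _
  have := BasedBasic.isIso_of_isHomLift_id h (R := Z.pt₀) ψ
  have hψf : ψ ≫ z.map toT ≫ ε.hom = α := Functor.IsStronglyCartesian.fac _ _ _ _ _
  let t₀ : Dict.Tri z x Z.pt₀ := ⟨Z.j, u₀, inv ψ, inferInstance⟩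
  obtain ⟨g₀, hg₀⟩ := Dict.exists_map h he t₀
  let F : Sp S := (yon S).obj Z.pt
  let b : G.obj ⟶ F := spMapOfOver (BasedFunctor.comp e (fpFst z x))
  have hbfs : AlgSp.IsFormallySmoothMor b := by
    refine (Lib.SmoothLift.Space.formallySmooth_iff G.property (IsAlgSpace.yon_obj Z.pt) b).2 ?_
    intro U' V' a c k ha hc w
    exact ((Groth.Agent.S1488.result _).1 (hG a c k ha hc w)).2
  have hgb : g₀ ≫ b = (yon S).map Z.j := Dict.comp_fst (e := e) (t := t₀) h hg₀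
  let sq : AlgSp.InfSq b := ⟨Z.A, Z.I, Z.sq_zero, Z.str, g₀, 𝟙 _, hgb.trans (Category.comp_id _).symm⟩
  obtain ⟨l, hl₀, hl₁⟩ := hbfs sq
  obtain ⟨⟨s, r, θ, hθ⟩, ht⟩ := Dict.exists_tri (e := e) h l
  obtain rfl : s = 𝟙 Z.pt := (yon S).map_injective (by
    rw [CategoryTheory.Functor.map_id]; exact (Dict.comp_fst h ht).symm.trans hl₁)
  obtain ⟨t₁, ht₁⟩ := Dict.exists_pull h Z.j (⟨𝟙 _, r, θ, hθ⟩ : Dict.Tri z x Z.pt)
  have hg₁ := Dict.rel_comp h ht ht₁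
  rw [show (yon S).map Z.j ≫ l = g₀ from hl₀] at hg₁
  obtain rfl := Dict.tri_unique h hg₁ hg₀
  have := hθ
  have := BasedBasic.isIso_of_isHomLift_id h (R := Z.pt) θ
  refine ⟨r, ht₁.r.symm, inv θ ≫ ε.hom,
    IsHomLift.comp_lift_id_right' 𝒳.p (𝟙 Z.pt) (inv θ) Z.pt ε.hom, ?_⟩
  let mr : Over.mk u₀ ⟶ Over.mk r := Over.homMk Z.j ht₁.r.symm
  have e1 : z.map toT ≫ θ = inv ψ ≫ x.map mr := ht₁.θ
  change x.map mr ≫ inv θ ≫ ε.hom = α
  rw [← hψf, ← Category.assoc, show x.map mr ≫ inv θ = ψ ≫ z.map toT by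
    rw [IsIso.comp_inv_eq, Category.assoc, e1, IsIso.hom_inv_id_assoc], Category.assoc]

variable {U V : Over S} {v : overCat V ⥤ᵇ 𝒳} {y : overCat U ⥤ᵇ 𝒳}

theorem formallySmooth (h : IsFibGrpd 𝒳.p) (hy : Lifts y) {G : Sp S} {e : ofSp G ⥤ᵇ fp v y}
    (he : IsEquivOver e) :
    AlgSp.IsFormallySmoothMor (spMapOfOver (BasedFunctor.comp e (fpFst v y))) := fun sq => by
  let Z : Thick S := ⟨sq.A, sq.I, sq.sq_zero, sq.str⟩
  obtain ⟨⟨s₀, r₀, θ₀, hθ₀⟩, ht₀⟩ := Dict.exists_tri (e := e) (T := Z.pt₀) h sq.top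
  obtain ⟨s, hs⟩ := (yon S).map_surjective sq.bot
  have hjs : Z.j ≫ s = s₀ := (yon S).map_injective (by
    rw [Functor.map_comp, hs]; exact sq.comm.symm.trans (Dict.comp_fst h ht₀))
  have := hθ₀
  have := BasedBasic.isIso_of_isHomLift_id h (R := Z.pt₀) θ₀
  let ms : Over.mk s₀ ⟶ Over.mk s := Over.homMk Z.j hjs
  have h1 : 𝒳.p.IsHomLift Z.j (v.map ms) := Yoneda.map_isHomLift v ms
  have h2 : 𝒳.p.IsHomLift Z.j (inv θ₀ ≫ v.map ms) :=
    IsHomLift.comp_lift_id_left' 𝒳.p Z.pt₀ _ Z.j _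
  obtain ⟨r, hr, β, hβ, hβj⟩ := hy Z r₀ _ (inv θ₀ ≫ v.map ms) h2
  have := BasedBasic.isIso_of_isHomLift_id h (R := Z.pt) β
  let t : Dict.Tri v y Z.pt := ⟨s, r, inv β, inferInstance⟩
  obtain ⟨l, hl⟩ := Dict.exists_map h he t
  refine ⟨l, Dict.map_unique h he (Dict.rel_comp h hl ?_) ht₀, (Dict.comp_fst h hl).trans hs⟩
  refine ⟨hjs.symm, hr.symm, ?_⟩
  let mr : Over.mk r₀ ⟶ Over.mk r := Over.homMk Z.j hr
  change v.map ms ≫ inv β = θ₀ ≫ y.map mr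
  rw [IsIso.comp_inv_eq, Category.assoc, show y.map mr ≫ β = inv θ₀ ≫ v.map ms from hβj,
    IsIso.hom_inv_id_assoc]

theorem locP_smooth (h : IsFibGrpd 𝒳.p) (hy : Lifts y) {G : AlgSp.Space S}
    {e : ofSp G.obj ⥤ᵇ fp v y} (he : IsEquivOver e)
    (hfp : LocP @LocallyOfFinitePresentation (spMapOfOver (BasedFunctor.comp e (fpFst v y)))) :
    LocP @Smooth (spMapOfOver (BasedFunctor.comp e (fpFst v y))) := by
  have hfs := (Lib.SmoothLift.Space.formallySmooth_iff G.property (IsAlgSpace.yon_obj V) _).1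
    (formallySmooth h hy he)
  intro U' V' a c k ha hc w
  exact (Groth.Agent.S1488.result _).2 ⟨hfp a c k ha hc w, hfs a c k ha hc w⟩

end Lifts

end Groth.Agent.H14.IsoNat
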