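import Groth.Agent.H14.IsoNat.Corr
import Groth.Agent.H14.IsoNat.Family

/-!
Infinitesimal lifting is seen by isomorphism classes.
-/

set_option autoImplicit false
set_option backward.isDefEq.respectTransparency false
set_option backward.isDefEq.respectTransparency.types false
set_option maxHeartbeats 800000

universe u

open CategoryTheory CategoryTheory.Limits AlgebraicGeometry Opposite

namespace Groth.Agent.H14.IsoNat.LiftsCorr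

open Groth.Agent.Lib.AlgStack
open FibCat (overCat IsFibGrpd)

variable {S : Scheme.{u}} {𝒳 𝒴 : AlgSt.Cat S}

theorem map_comp_eq {U : Over S} (y : overCat U ⥤ᵇ 𝒴) {a b c : Over U} (p : a ⟶ b) (q : b ⟶ c)
    (r : a ⟶ c) (h : p.left ≫ q.left = r.left) : y.map p ≫ y.map q = y.map r := by
  rw [show r = p ≫ q from Over.OverMorphism.ext h.symm]
  exact (y.toFunctor.map_comp p q).symm

variable {φ : _root_.IsoNat.FIso 𝒳 𝒴} {U V : Over S} {x : overCat U ⥤ᵇ 𝒳} {y : overCat U ⥤ᵇ 𝒴}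
  {v : overCat V ⥤ᵇ 𝒴}

theorem exists_lift (h𝒳 : IsFibGrpd 𝒳.p) (h𝒴 : IsFibGrpd 𝒴.p) (hc : Corr φ x y) (hx : Lifts x)
    [IsAffine V.left] (hv : Lifts v) (Z : Thick S) (u₀ : Z.pt₀ ⟶ U) (s : Z.pt ⟶ V)
    (α : y.obj (Over.mk u₀) ⟶ v.obj (Over.mk s)) [hα : 𝒴.p.IsHomLift Z.j α] :
    ∃ (u : Z.pt ⟶ U) (hu : Z.j ≫ u = u₀) (β : y.obj (Over.mk u) ⟶ v.obj (Over.mk s)),
      𝒴.p.IsHomLift (𝟙 Z.pt) β ∧ y.map (Over.homMk Z.j hu : Over.mk u₀ ⟶ Over.mk u) ≫ β = α := by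
  let v₀ : Z.pt₀ ⟶ V := Z.j ≫ s
  let ι := {g : v.obj (Over.mk v₀) ⟶ v.obj (Over.mk s) // 𝒴.p.IsHomLift Z.j g}
  let ms : Over.mk v₀ ⟶ Over.mk s := Over.homMk Z.j rfl
  have hms : 𝒴.p.IsHomLift Z.j (v.map ms) := Yoneda.map_isHomLift v ms
  let i₀ : ι := ⟨v.map ms, hms⟩
  choose w hw βw hβw hβw' using fun i : ι => hv Z v₀ (v.obj (Over.mk s)) i.1 i.2
  obtain ⟨Z', pr, e, v', hpr, he⟩ := Family.exists_glue Z i₀ v₀ w hw
  let J : Z.pt₀ ⟶ Z'.pt := e.hom ≫ Z'.j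
  have hJv : J ≫ v' = v₀ := by rw [← hw i₀, ← hpr i₀, ← Category.assoc, he i₀]
  let m₀ : Over.mk v₀ ⟶ Over.mk v' := Over.homMk J hJv
  have hm₀ : 𝒴.p.IsHomLift J (v.map m₀) := Yoneda.map_isHomLift v m₀
  -- a morphism to the glued object
  have := Yoneda.stronglyCartesian h𝒴 Z.j (v.map ms)
  let ψ := Functor.IsStronglyCartesian.map 𝒴.p Z.j (v.map ms) (g := 𝟙 Z.pt₀)
    (Category.id_comp Z.j).symm α
  have hψ : 𝒴.p.IsHomLift (𝟙 Z.pt₀) ψ := Functor.IsStronglyCartesian.map_isHomLift _ _ _ _ _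
  have hb₀ : 𝒴.p.IsHomLift J (ψ ≫ v.map m₀) := IsHomLift.comp_lift_id_left' 𝒴.p Z.pt₀ ψ J _
  obtain ⟨ηh, hηh⟩ := Cls.exists_cls ((φ.toEquiv Z'.pt).symm
    (_root_.IsoNat.cls ⟨v.obj (Over.mk v'), v.w_obj (Over.mk v')⟩))
  have hη : φ.toEquiv Z'.pt (_root_.IsoNat.cls ηh) =
      _root_.IsoNat.cls ⟨v.obj (Over.mk v'), v.w_obj (Over.mk v')⟩ := by
    rw [hηh, Equiv.apply_symm_apply]
  obtain ⟨αh, hαh⟩ := Cls.exists_hom_symm φ h𝒳 h𝒴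
    (x' := ⟨x.obj (Over.mk u₀), x.w_obj (Over.mk u₀)⟩) (x := ηh) hb₀ (hc.cls_obj h𝒴 (Over.mk u₀)) hη
  -- lift in `𝒳`
  let me : Over.mk (e.inv ≫ u₀) ⟶ Over.mk u₀ := Over.homMk e.inv rfl
  have hme : 𝒳.p.IsHomLift e.inv (x.map me) := Yoneda.map_isHomLift x me
  have hα' : 𝒳.p.IsHomLift Z'.j (x.map me ≫ αh) := by
    rw [show Z'.j = e.inv ≫ J by simp [J]]
    exact inferInstance
  obtain ⟨u', hu', βh, hβh, -⟩ := hx Z' (e.inv ≫ u₀) ηh.1 (x.map me ≫ αh) hα'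
  have hJu : J ≫ u' = u₀ := by simp [J, hu']
  obtain ⟨H, hH⟩ := Cls.exists_hom φ (x' := ⟨x.obj (Over.mk u'), x.w_obj (Over.mk u')⟩) hβh
    (hc.cls_obj h𝒴 (Over.mk u')) hη
  -- the defect
  let mJ : Over.mk u₀ ⟶ Over.mk u' := Over.homMk J hJu
  have hmJ : 𝒴.p.IsHomLift J (y.map mJ) := Yoneda.map_isHomLift y mJ
  have ha : 𝒴.p.IsHomLift J (y.map mJ ≫ H) := IsHomLift.comp_lift_id_right' 𝒴.p J _ Z'.pt H
  have := Yoneda.stronglyCartesian h𝒴 J (v.map m₀)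
  let a' := Functor.IsStronglyCartesian.map 𝒴.p J (v.map m₀) (g := 𝟙 Z.pt₀)
    (Category.id_comp J).symm (y.map mJ ≫ H)
  have ha' : 𝒴.p.IsHomLift (𝟙 Z.pt₀) a' := Functor.IsStronglyCartesian.map_isHomLift _ _ _ _ _
  have ha'f : a' ≫ v.map m₀ = y.map mJ ≫ H := Functor.IsStronglyCartesian.fac _ _ _ _ _
  have := BasedBasic.isIso_of_isHomLift_id h𝒴 (R := Z.pt₀) a'
  let i : ι := ⟨inv a' ≫ α, IsHomLift.comp_lift_id_left' 𝒴.p Z.pt₀ (inv a') Z.j α⟩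
  have hu : Z.j ≫ pr i ≫ u' = u₀ := by rw [← Category.assoc, he i]; exact hJu
  let mp : Over.mk (w i) ⟶ Over.mk v' := Over.homMk (pr i) (hpr i)
  let my : Over.mk (pr i ≫ u') ⟶ Over.mk u' := Over.homMk (pr i) rfl
  have hmp : 𝒴.p.IsHomLift (pr i) (v.map mp) := Yoneda.map_isHomLift v mp
  have hmy : 𝒴.p.IsHomLift (pr i) (y.map my) := Yoneda.map_isHomLift y my
  have hmH : 𝒴.p.IsHomLift (pr i) (y.map my ≫ H) :=
    IsHomLift.comp_lift_id_right' 𝒴.p (pr i) _ Z'.pt H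
  have := Yoneda.stronglyCartesian h𝒴 (pr i) (v.map mp)
  let Hg := Functor.IsStronglyCartesian.map 𝒴.p (pr i) (v.map mp) (g := 𝟙 Z.pt)
    (Category.id_comp (pr i)).symm (y.map my ≫ H)
  have hHg : 𝒴.p.IsHomLift (𝟙 Z.pt) Hg := Functor.IsStronglyCartesian.map_isHomLift _ _ _ _ _
  have hHgf : Hg ≫ v.map mp = y.map my ≫ H := Functor.IsStronglyCartesian.fac _ _ _ _ _
  have hβi := hβw i
  refine ⟨pr i ≫ u', hu, Hg ≫ βw i, IsHomLift.comp_lift_id_right' 𝒴.p (𝟙 Z.pt) Hg Z.pt _, ?_⟩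
  let mj : Over.mk u₀ ⟶ Over.mk (pr i ≫ u') := Over.homMk Z.j hu
  let mw : Over.mk v₀ ⟶ Over.mk (w i) := Over.homMk Z.j (hw i)
  have hmj : 𝒴.p.IsHomLift Z.j (y.map mj) := Yoneda.map_isHomLift y mj
  have hmw : 𝒴.p.IsHomLift Z.j (v.map mw) := Yoneda.map_isHomLift v mw
  have key : y.map mj ≫ Hg = a' ≫ v.map mw := by
    have : 𝒴.p.IsHomLift Z.j (y.map mj ≫ Hg) := IsHomLift.comp_lift_id_right' 𝒴.p Z.j _ Z.pt Hg
    have : 𝒴.p.IsHomLift Z.j (a' ≫ v.map mw) := IsHomLift.comp_lift_id_left' 𝒴.p Z.pt₀ a' Z.j _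
    refine Functor.IsStronglyCartesian.ext 𝒴.p (pr i) (v.map mp) Z.j ?_
    rw [Category.assoc, hHgf, ← Category.assoc, map_comp_eq y mj my mJ (he i), Category.assoc,
      map_comp_eq v mw mp m₀ (he i), ha'f]
  change y.map mj ≫ Hg ≫ βw i = α
  have hwi : v.map mw ≫ βw i = inv a' ≫ α := hβw' i
  rw [← Category.assoc, key, Category.assoc, hwi, IsIso.hom_inv_id_assoc]

end Groth.Agent.H14.IsoNat.LiftsCorr
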