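import Groth.Agent.H14.IsoNat.IsTwist
import Groth.Agent.H14.IsoNat.Clean
import Groth.Agent.H14.IsoNat.Corr

/-!
The correspondence of automorphisms induced by an isomorphism of presheaves of isomorphism classes.
-/

set_option autoImplicit false
set_option backward.isDefEq.respectTransparency false
set_option backward.isDefEq.respectTransparency.types false
set_option maxHeartbeats 800000

universe u

open CategoryTheory CategoryTheory.Limits AlgebraicGeometry Groth.Agent.Lib.Fibred.Descent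

namespace Groth.Agent.H14.IsoNat.Twists

open FibCat (IsFibGrpd toSelf inertiaToBase)
open AlgSt (RepByAlgSpWith IsAlgStack)
open Cross (U T L P π πL zero j l₁ l₂ sub subι O₁ O₂)

variable {S : Scheme.{u}} {𝒳 𝒴 : AlgSt.Cat S} {R : Type u} [CommRing R]
  {str : Spec (CommRingCat.of R) ⟶ S}

theorem exists_doubledLine (G : Doubled R str) (ℓ : Line R str) (hℓ : ℓ = line₁ R str ∨ ℓ = line₂ R str) :
    ∃ (Y : DoubledLine R str) (f : Y.pt ⟶ G.pt), Y.ja ≫ f = ℓ.l ≫ G.ja ∧ Y.jb ≫ f = ℓ.l ≫ G.jb := by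
  have : IsOpenImmersion (j R str).left :=
    IsOpenImmersion.of_isLocalization (R := CommRingCat.of (Polynomial R))
      (S := Localization.Away (Polynomial.X : Polynomial R)) (Polynomial.X : Polynomial R)
  obtain ⟨Y⟩ := Glued₂.exists_glued (j R str) (j R str)
  have hj : j R str ≫ ℓ.l ≫ G.ja = j R str ≫ ℓ.l ≫ G.jb := by
    rw [← Category.assoc, ← Category.assoc, ← ℓ.e_fac, Category.assoc, Category.assoc]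
    congr 1
    rcases hℓ with rfl | rfl
    · have e : (Double.union (O₁ R str) (O₂ R str)).ia ≫ pD R str = subι R str (O₁ R str) := by
        ext1; exact Scheme.homOfLE_ι _ le_sup_left
      change subι R str (O₁ R str) ≫ G.ja = subι R str (O₁ R str) ≫ G.jb
      rw [← e, Category.assoc, Category.assoc, G.isPB.w]
    · have e : (Double.union (O₁ R str) (O₂ R str)).ib ≫ pD R str = subι R str (O₂ R str) := by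
        ext1; exact Scheme.homOfLE_ι _ le_sup_right
      change subι R str (O₂ R str) ≫ G.ja = subι R str (O₂ R str) ≫ G.jb
      rw [← e, Category.assoc, Category.assoc, G.isPB.w]
  obtain ⟨f, h1, h2⟩ := Y.exists_desc _ _ hj
  exact ⟨Y, f, h1, h2⟩

variable (φ : _root_.IsoNat.FIso 𝒳 𝒴) {ηx : 𝒳.p.Fiber (T R str)} {ηy : 𝒴.p.Fiber (T R str)}
  {ζu : 𝒳.obj} {ξu : 𝒴.obj} (A : ζu ⟶ ηx.1) [hA : 𝒳.p.IsHomLift (π R str) A]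
  (B : ξu ⟶ ηy.1) [hB : 𝒴.p.IsHomLift (π R str) B]

/-- Objects of the two categories correspond. -/
def ClsEq (X : Over S) (ζ : 𝒳.obj) (ξ : 𝒴.obj) : Prop :=
  ∃ (hζ : 𝒳.p.obj ζ = X) (hξ : 𝒴.p.obj ξ = X),
    φ.toEquiv X (_root_.IsoNat.cls ⟨ζ, hζ⟩) = _root_.IsoNat.cls ⟨ξ, hξ⟩

/-- Automorphisms correspond when their twists do. -/
def Matches (G : Doubled R str) (s : ηx.1 ⟶ ηx.1) (a : ηy.1 ⟶ ηy.1) : Prop :=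
  ∃ (ζ : 𝒳.obj) (ξ : 𝒴.obj), IsTwist G A s ζ ∧ IsTwist G B a ξ ∧ ClsEq φ G.pt ζ ξ

variable {φ}

theorem exists_pt (h𝒳 : IsFibGrpd 𝒳.p) {X : Over S} (f : X ⟶ T R str) :
    ∃ (ζ : 𝒳.p.Fiber X) (Q : ζ.1 ⟶ ηx.1), 𝒳.p.IsHomLift f Q :=
  Cls.exists_pullback h𝒳 f ηx

include hA hB

theorem clsEq_pullback (h𝒳 : IsFibGrpd 𝒳.p) (h𝒴 : IsFibGrpd 𝒴.p)
    (hη : φ.toEquiv (T R str) (_root_.IsoNat.cls ηx) = _root_.IsoNat.cls ηy) :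
    ∃ (hζ : 𝒳.p.obj ζu = U R str) (hξ : 𝒴.p.obj ξu = U R str),
      φ.toEquiv (U R str) (_root_.IsoNat.cls ⟨ζu, hζ⟩) = _root_.IsoNat.cls ⟨ξu, hξ⟩ := by
  refine ⟨IsHomLift.domain_eq 𝒳.p (π R str) A, IsHomLift.domain_eq 𝒴.p (π R str) B, ?_⟩
  obtain ⟨y, hy⟩ := Cls.exists_cls (φ.toEquiv (U R str)
    (_root_.IsoNat.cls (⟨ζu, IsHomLift.domain_eq 𝒳.p (π R str) A⟩ : 𝒳.p.Fiber (U R str))))
  obtain ⟨b, hb⟩ := Cls.exists_hom φ (x' := ⟨ζu, IsHomLift.domain_eq 𝒳.p (π R str) A⟩) (x := ηx)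
    hA hy.symm hη
  exact hy.symm.trans (Cls.cls_eq_of_homLift h𝒴 (x₂ := ⟨ξu, _⟩) (a₂ := B) hb hB)

theorem exists_match (h𝒳 : IsAlgStack Scheme.fppfPrecoverage 𝒳)
    (h𝒴 : IsAlgStack Scheme.fppfPrecoverage 𝒴)
    (hη : φ.toEquiv (T R str) (_root_.IsoNat.cls ηx) = _root_.IsoNat.cls ηy)
    (G : Doubled R str) {pX : G.pt ⟶ T R str} (hpa : G.ja ≫ pX = π R str) (hpb : G.jb ≫ pX = π R str)
    (s : ηx.1 ⟶ ηx.1) (hs : 𝒳.p.IsHomLift (𝟙 (T R str)) s) :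
    ∃ a : ηy.1 ⟶ ηy.1, 𝒴.p.IsHomLift (𝟙 (T R str)) a ∧ Matches φ A B G s a := by
  have g𝒳 := h𝒳.isStack.1
  have g𝒴 := h𝒴.isStack.1
  obtain ⟨hζu, hξu, hu⟩ := clsEq_pullback A B g𝒳 g𝒴 hη
  obtain ⟨ζ, hζt⟩ := exists_twist (G := G) A h𝒳 s hs
  have hlt := hζt.isLineTrivial A h𝒳 hpa hpb
  have hζt' := hζt
  obtain ⟨hζ, sU, φa, φb, -, -, hφa, hφb, -, -⟩ := hζt'
  obtain ⟨ξ, hξ⟩ := Cls.exists_cls (φ.toEquiv G.pt (_root_.IsoNat.cls ⟨ζ, hζ⟩))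
  obtain ⟨ψa, hψa⟩ := Cls.exists_hom φ (x' := ⟨ζu, hζu⟩) (x := ⟨ζ, hζ⟩) (y' := ⟨ξu, hξu⟩) hφa hu hξ.symm
  obtain ⟨ψb, hψb⟩ := Cls.exists_hom φ (x' := ⟨ζu, hζu⟩) (x := ⟨ζ, hζ⟩) (y' := ⟨ξu, hξu⟩) hφb hu hξ.symm
  have hlt' : IsLineTrivial G pX ηy.1 ξ.1 := by
    intro ℓ hℓ Y f hfa hfb ξY PY hPY
    obtain ⟨ζY, PY', hPY'⟩ := Cls.exists_pullback g𝒳 f ⟨ζ, hζ⟩
    obtain ⟨g, hg⟩ := hlt ℓ hℓ Y f hfa hfb ζY.1 PY' hPY'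
    have hξY : 𝒴.p.obj ξY = Y.pt := IsHomLift.domain_eq 𝒴.p f PY
    obtain ⟨y, hy⟩ := Cls.exists_cls (φ.toEquiv Y.pt (_root_.IsoNat.cls ζY))
    obtain ⟨P', hP'⟩ := Cls.exists_hom φ hPY' hy.symm hξ.symm
    have e : φ.toEquiv Y.pt (_root_.IsoNat.cls ζY) = _root_.IsoNat.cls (⟨ξY, hξY⟩ : 𝒴.p.Fiber Y.pt) :=
      hy.symm.trans (Cls.cls_eq_of_homLift g𝒴 (x₂ := ⟨ξY, hξY⟩) (a₂ := PY) hP' hPY)
    exact Cls.exists_hom φ (x' := ζY) (x := ηx) (y' := ⟨ξY, hξY⟩) hg e hη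
  obtain ⟨a, ha, hta⟩ := exists_isTwist B h𝒴 ξ.2 ψa ψb hψa hψb fun ℓ hℓ => by
    obtain ⟨Y, f, hfa, hfb⟩ := exists_doubledLine G ℓ hℓ
    exact exists_rel_of_lineTrivial B h𝒴 hpa hpb ξ.2 ψa ψb hψa hψb hlt' ℓ hℓ Y f hfa hfb
  exact ⟨a, ha, ζ, ξ.1, hζt, hta, hζ, ξ.2, hξ.symm⟩

omit hA hB

theorem Matches.symm (h𝒳 : IsFibGrpd 𝒳.p) (h𝒴 : IsFibGrpd 𝒴.p) {G : Doubled R str}
    {s : ηx.1 ⟶ ηx.1} {a : ηy.1 ⟶ ηy.1} (hm : Matches φ A B G s a) :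
    Matches (Pts.symm φ h𝒳 h𝒴) B A G a s := by
  obtain ⟨ζ, ξ, hs, ha, hζ, hξ, e⟩ := hm
  exact ⟨ξ, ζ, ha, hs, hξ, hζ, (φ.toEquiv G.pt).symm_apply_eq.2 e.symm⟩

omit hA in
theorem exists_hom_of_clsEq (h𝒴 : IsFibGrpd 𝒴.p) {X : Over S} {ζ ζ' : 𝒳.obj} {ξ ξ' : 𝒴.obj}
    (h₁ : ClsEq φ X ζ ξ) (h₂ : ClsEq φ X ζ' ξ') {t : ζ ⟶ ζ'} (ht : 𝒳.p.IsHomLift (𝟙 X) t) :
    ∃ u : ξ ⟶ ξ', 𝒴.p.IsHomLift (𝟙 X) u := by
  obtain ⟨hζ, hξ, e⟩ := h₁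
  obtain ⟨hζ', hξ', e'⟩ := h₂
  exact Cls.exists_hom φ (x' := ⟨ζ, hζ⟩) (x := ⟨ζ', hζ'⟩) (y' := ⟨ξ, hξ⟩) (y := ⟨ξ', hξ'⟩) ht e e'

include hA hB

/-- Two automorphisms matching the same one are conjugate. -/
theorem Matches.conj (h𝒳 : IsAlgStack Scheme.fppfPrecoverage 𝒳)
    (h𝒴 : IsAlgStack Scheme.fppfPrecoverage 𝒴)
    (hi : RepByAlgSpWith AlgSp.IsSeparatedMor (inertiaToBase (toSelf 𝒴)))
    {G : Doubled R str} {s : ηx.1 ⟶ ηx.1} {a a' : ηy.1 ⟶ ηy.1}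
    (hm : Matches φ A B G s a) (hm' : Matches φ A B G s a') :
    ∃ g : ηy.1 ⟶ ηy.1, 𝒴.p.IsHomLift (𝟙 (T R str)) g ∧ g ≫ a' = a ≫ g := by
  obtain ⟨ζ, ξ, hs, ha, e⟩ := hm
  obtain ⟨ζ', ξ', hs', ha', e'⟩ := hm'
  obtain ⟨t, ht⟩ := exists_iso_of_twist A h𝒳 hs hs'
  obtain ⟨u, hu⟩ := exists_hom_of_clsEq h𝒴.isStack.1 e e' ht
  exact exists_conj_of_iso B h𝒴 hi ha ha' u hu

/-- Every automorphism is matched. -/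
theorem exists_match_symm (h𝒳 : IsAlgStack Scheme.fppfPrecoverage 𝒳)
    (h𝒴 : IsAlgStack Scheme.fppfPrecoverage 𝒴)
    (hη : φ.toEquiv (T R str) (_root_.IsoNat.cls ηx) = _root_.IsoNat.cls ηy)
    (G : Doubled R str) {pX : G.pt ⟶ T R str} (hpa : G.ja ≫ pX = π R str) (hpb : G.jb ≫ pX = π R str)
    (a : ηy.1 ⟶ ηy.1) (ha : 𝒴.p.IsHomLift (𝟙 (T R str)) a) :
    ∃ s : ηx.1 ⟶ ηx.1, 𝒳.p.IsHomLift (𝟙 (T R str)) s ∧ Matches φ A B G s a := by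
  obtain ⟨s, hs, hm⟩ := exists_match (φ := Pts.symm φ h𝒳.isStack.1 h𝒴.isStack.1) B A h𝒴 h𝒳
    ((φ.toEquiv _).symm_apply_eq.2 hη.symm) G hpa hpb a ha
  obtain ⟨ξ, ζ, hξ, hζ, h1, h2, e⟩ := hm
  exact ⟨s, hs, ζ, ξ, hζ, hξ, h2, h1, ((φ.toEquiv G.pt).symm_apply_eq.1 e).symm⟩

end Groth.Agent.H14.IsoNat.Twists
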