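import Groth.Agent.H14.IsoNat.Dict
import Groth.Agent.Lib.Fibred.Descent
import Groth.Agent.Lib.Fibred.StackLemmas

/-!
Points of the space representing the base change of a morphism of stacks along a chart are objects
with a morphism to the object of the chart.
-/

set_option autoImplicit false
set_option backward.isDefEq.respectTransparency false
set_option backward.isDefEq.respectTransparency.types false

universe u

open CategoryTheory CategoryTheory.Limits AlgebraicGeometry Opposite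

namespace Groth.Agent.H14.IsoNat.PtDict

open Groth.Agent.Lib.AlgStack
open FibCat (IsEquivOver fp fpFst fpSnd overCat IsFibGrpd)
open AlgSt (ofSp spMapOfOver)
open AlgSp (Sp yon)
open Groth.Agent.Lib.Fibred.Descent

variable {S : Scheme.{u}} {𝒲 𝒵 : AlgSt.Cat S} {D : Over S}

/-- The map of the chart to its tautological object. -/
def toTaut (c : overCat D ⥤ᵇ 𝒵) {T : Over S} (m : T ⟶ D) :
    c.obj (Over.mk m) ⟶ c.obj (Over.mk (𝟙 D)) :=
  c.map (Over.homMk m (Category.comp_id m) : Over.mk m ⟶ Over.mk (𝟙 D))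

theorem toTaut_lift (c : overCat D ⥤ᵇ 𝒵) {T : Over S} (m : T ⟶ D) :
    𝒵.p.IsHomLift m (toTaut c m) :=
  Yoneda.map_isHomLift c (Over.homMk m (Category.comp_id m) : Over.mk m ⟶ Over.mk (𝟙 D))

theorem map_toTaut (c : overCat D ⥤ᵇ 𝒵) {T' T : Over S} (k : T' ⟶ T) (m : T ⟶ D) (m' : T' ⟶ D)
    (hm : m' = k ≫ m) :
    c.map (Over.homMk k hm.symm : Over.mk m' ⟶ Over.mk m) ≫ toTaut c m = toTaut c m' := by
  subst hm
  unfold toTaut
  rw [← c.toFunctor.map_comp]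
  exact congrArg c.map (Over.OverMorphism.ext rfl)

/-- An object over `T` with a morphism to the object of the chart. -/
structure Pt (c : overCat D ⥤ᵇ 𝒵) (d : 𝒲 ⥤ᵇ 𝒵) (T : Over S) where
  m : T ⟶ D
  w : 𝒲.obj
  hw : 𝒲.p.obj w = T
  h : d.obj w ⟶ c.obj (Over.mk (𝟙 D))
  lift : 𝒵.p.IsHomLift m h

variable {c : overCat D ⥤ᵇ 𝒵} {d : 𝒲 ⥤ᵇ 𝒵} {G : Sp S} {e : ofSp G ⥤ᵇ fp c d}

/-- A map from a scheme to the space corresponds to an object with a morphism. -/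
def Rel (e : ofSp G ⥤ᵇ fp c d) {T : Over S} (g : (yon S).obj T ⟶ G) (P : Pt c d T) : Prop :=
  ∃ (i : c.obj (Over.mk P.m) ≅ d.obj P.w) (hi : 𝒵.p.IsHomLift (𝟙 T) i.hom),
    i.hom ≫ P.h = toTaut c P.m ∧
      Dict.ObjRel e g (Lib.Fibred.Fp.mkObj (Over.mk P.m) P.w i hi)

theorem exists_pt {T : Over S} (g : (yon S).obj T ⟶ G) :
    ∃ P : Pt c d T, Rel e g P := by
  have key : ∀ o : (fp c d).obj, (fp c d).p.obj o = T →
      ∃ (P : Pt c d T) (i : c.obj (Over.mk P.m) ≅ d.obj P.w) (hi : 𝒵.p.IsHomLift (𝟙 T) i.hom)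
        (n : o ⟶ Lib.Fibred.Fp.mkObj (Over.mk P.m) P.w i hi),
        i.hom ≫ P.h = toTaut c P.m ∧ (fp c d).p.IsHomLift (𝟙 T) n := by
    rintro ⟨⟨⟨Ta, ⟨⟨⟩⟩, m⟩, w, i⟩, hi⟩ hT
    obtain rfl : Ta = T := hT
    have hi' : 𝒵.p.IsHomLift (𝟙 Ta) i.hom := hi
    have hw : 𝒲.p.obj w = Ta := (d.w_obj w).symm.trans (IsHomLift.codomain_eq 𝒵.p (𝟙 Ta) i.hom)
    have := toTaut_lift c m
    have hinv : 𝒵.p.IsHomLift (𝟙 Ta) i.inv := by
      rw [show i.inv = inv i.hom by simp]; infer_instance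
    let P : Pt c d Ta := ⟨m, w, hw, i.inv ≫ toTaut c m,
      IsHomLift.comp_lift_id_left' 𝒵.p Ta i.inv m (toTaut c m)⟩
    let o : (fp c d).obj := ⟨⟨Over.mk m, w, i⟩, hi⟩
    let n : o ⟶ Lib.Fibred.Fp.mkObj (Over.mk m) w i hi' := 𝟙 o
    exact ⟨P, i, hi', n, Iso.hom_inv_id_assoc i _, IsHomLift.id (p := (fp c d).p) (a := o) rfl⟩
  obtain ⟨P, i, hi, n, e₁, hn⟩ := key _ (Dict.p_obj_objOf g)
  exact ⟨P, i, hi, e₁, n, hn⟩

theorem exists_map (h : IsFibGrpd 𝒵.p) (he : IsEquivOver e) {T : Over S} (P : Pt c d T) :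
    ∃ g : (yon S).obj T ⟶ G, Rel e g P := by
  have := toTaut_lift c P.m
  obtain ⟨θ, hθ, eθ⟩ := exists_factor h P.h P.lift (toTaut c P.m) this
  have := Lib.Fibred.StackLemmas.isIso_of_vertical h θ hθ
  obtain ⟨g, hg⟩ := Dict.exists_map_obj he
    (o := Lib.Fibred.Fp.mkObj (Over.mk P.m) P.w (asIso θ) hθ) rfl
  exact ⟨g, asIso θ, hθ, eθ, hg⟩

theorem map_unique (h : IsFibGrpd 𝒵.p) (h' : IsFibGrpd 𝒲.p) (he : IsEquivOver e) {T : Over S}
    {g g' : (yon S).obj T ⟶ G} {P : Pt c d T} (hg : Rel e g P) (hg' : Rel e g' P) : g = g' := by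
  obtain ⟨i, hi, ei, hg⟩ := hg
  obtain ⟨j, hj, ej, hg'⟩ := hg'
  obtain rfl : i = j := Iso.ext (ext_lift h P.h P.lift hi hj (ei.trans ej.symm))
  exact Dict.map_unique_obj h h' he hg hg'

theorem pt_unique (h : IsFibGrpd 𝒵.p) (h' : IsFibGrpd 𝒲.p) {T : Over S} {g : (yon S).obj T ⟶ G}
    {P P' : Pt c d T} (hg : Rel e g P) (hg' : Rel e g P') :
    P'.m = P.m ∧ ∃ v : P'.w ⟶ P.w, 𝒲.p.IsHomLift (𝟙 T) v ∧ d.map v ≫ P.h = P'.h := by
  obtain ⟨m, w, hw, u, hu⟩ := P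
  obtain ⟨m', w', hw', u', hu'⟩ := P'
  obtain ⟨i, hi, ei, k, hk⟩ := hg
  obtain ⟨i', hi', ei', k', hk'⟩ := hg'
  have hP := Dict.isFibGrpd (v := c) (f := d) h h'
  have := BasedBasic.isIso_of_isHomLift_id hP (R := T) k'
  let n := inv k' ≫ k
  have hn : (fp c d).p.IsHomLift (𝟙 T) n := inferInstance
  have h1 : n.hom.fst.left = 𝟙 T := by
    refine (IsHomLift.fac' (fp c d).p (𝟙 T) n).trans ?_
    simp
    rfl
  obtain rfl : m' = m := by
    have := Over.w n.hom.fst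
    rw [h1] at this
    exact ((Category.id_comp _).symm.trans this).symm
  have hv : 𝒲.p.IsHomLift (𝟙 T) n.hom.snd := Lib.Fibred.Fp.isHomLift_snd n (𝟙 T)
  refine ⟨rfl, n.hom.snd, hv, ?_⟩
  have w1 := Lib.Fibred.Fp.w n
  rw [show n.hom.fst = 𝟙 _ from Over.OverMorphism.ext h1, c.toFunctor.map_id] at w1
  have w2 : i.hom = i'.hom ≫ d.map n.hom.snd := (Category.id_comp _).symm.trans w1
  rw [← cancel_epi i'.hom, ← reassoc_of% w2]
  exact ei.trans ei'.symm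

theorem rel_comp (h : IsFibGrpd 𝒵.p) (h' : IsFibGrpd 𝒲.p) {T' T : Over S} {k : T' ⟶ T}
    {g : (yon S).obj T ⟶ G} {P : Pt c d T} {P' : Pt c d T'} (hg : Rel e g P) (hm : P'.m = k ≫ P.m)
    (v : P'.w ⟶ P.w) (hv : 𝒲.p.IsHomLift k v) (ev : d.map v ≫ P.h = P'.h) :
    Rel e ((yon S).map k ≫ g) P' := by
  obtain ⟨i, hi, ei, hg⟩ := hg
  have := toTaut_lift c P'.m
  obtain ⟨θ, hθ, eθ⟩ := exists_factor h P'.h P'.lift (toTaut c P'.m) this
  have := Lib.Fibred.StackLemmas.isIso_of_vertical h θ hθ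
  refine ⟨asIso θ, hθ, eθ, ?_⟩
  let mk' : Over.mk P'.m ⟶ Over.mk P.m := Over.homMk k hm.symm
  have hc : 𝒵.p.IsHomLift k (c.map mk') := Yoneda.map_isHomLift c mk'
  have hd : 𝒵.p.IsHomLift k (d.map v) := BasedFunctor.preserves_isHomLift d k v
  have l₁ : 𝒵.p.IsHomLift k (c.map mk' ≫ i.hom) :=
    IsHomLift.comp_lift_id_right' 𝒵.p k (c.map mk') T i.hom
  have l₂ : 𝒵.p.IsHomLift k (θ ≫ d.map v) := IsHomLift.comp_lift_id_left' 𝒵.p T' θ k (d.map v)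
  have key : c.map mk' ≫ i.hom = θ ≫ d.map v := by
    refine ext_lift h P.h P.lift l₁ l₂ ?_
    rw [Category.assoc, ei, Category.assoc, ev, eθ]
    exact map_toTaut c k P.m P'.m hm
  let n : Lib.Fibred.Fp.mkObj (F := c) (G := d) (Over.mk P'.m) P'.w (asIso θ) hθ ⟶
      Lib.Fibred.Fp.mkObj (F := c) (G := d) (Over.mk P.m) P.w i hi :=
    Lib.Fibred.Fp.mkHom (F := c) (G := d) mk' v key
  have hn : (fp c d).p.IsHomLift k n :=
    (Lib.Fibred.Fp.isHomLift_iff _ _).2 (IsHomLift.map (overCat D).p mk')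
  exact Dict.objRel_comp h h' hg n

theorem comp_fst {T : Over S} {g : (yon S).obj T ⟶ G} {P : Pt c d T} (hg : Rel e g P) :
    g ≫ spMapOfOver (BasedFunctor.comp e (fpFst c d)) = (yon S).map P.m := by
  obtain ⟨i, hi, -, hg⟩ := hg
  exact Dict.comp_fst_obj hg (s := P.m) rfl (Category.id_comp _).symm

theorem exists_pull (h' : IsFibGrpd 𝒲.p) {T' T : Over S} (k : T' ⟶ T) (P : Pt c d T) :
    ∃ (P' : Pt c d T') (v : P'.w ⟶ P.w),
      P'.m = k ≫ P.m ∧ 𝒲.p.IsHomLift k v ∧ d.map v ≫ P.h = P'.h := by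
  obtain ⟨w', v, hv⟩ := exists_lift h' P.hw k
  have hd : 𝒵.p.IsHomLift k (d.map v) := BasedFunctor.preserves_isHomLift d k v
  have := P.lift
  exact ⟨⟨k ≫ P.m, w', IsHomLift.domain_eq 𝒲.p k v, d.map v ≫ P.h, inferInstance⟩, v, rfl, hv, rfl⟩

end Groth.Agent.H14.IsoNat.PtDict
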