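import Groth.Agent.H14.IsoNat.Double

/-!
Gluing two schemes over the base along a common open subscheme.
-/

set_option autoImplicit false
set_option backward.isDefEq.respectTransparency false
set_option backward.isDefEq.respectTransparency.types false

universe u

open CategoryTheory CategoryTheory.Limits AlgebraicGeometry

namespace Groth.Agent.H14.IsoNat

variable {S : Scheme.{u}}

/-- Two schemes glued along an open subscheme of both. -/
structure Glued₂ {D A B : Over S} (i : D ⟶ A) (i' : D ⟶ B) : Type (u + 1) where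
  pt : Over S
  ja : A ⟶ pt
  jb : B ⟶ pt
  open_ja : IsOpenImmersion ja.left
  open_jb : IsOpenImmersion jb.left
  covers : ∀ x : ↥pt.left, x ∈ Set.range ja.left ∨ x ∈ Set.range jb.left
  isPB : IsPullback i i' ja jb
  exists_desc : ∀ {T : Over S} (f : A ⟶ T) (g : B ⟶ T), i ≫ f = i' ≫ g →
    ∃ h : pt ⟶ T, ja ≫ h = f ∧ jb ≫ h = g

namespace Glued₂

variable {D A B : Over S} {i : D ⟶ A} {i' : D ⟶ B} (G : Glued₂ i i')

/-- The cover of a glued scheme. -/
def cov : Glue2.Cov G.pt :=
  ⟨A, B, D, G.ja, G.jb, i, i',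
    haveI := G.open_ja; (Over.forget S).mono_of_mono_map (inferInstanceAs (Mono G.ja.left)),
    haveI := G.open_jb; (Over.forget S).mono_of_mono_map (inferInstanceAs (Mono G.jb.left)), G.isPB⟩

theorem cov_mem : G.cov.sieve ∈ AlgSp.J S G.pt := Double.sieve_mem G.cov G.open_ja G.open_jb G.covers

theorem hom_ext {T : Over S} {f g : G.pt ⟶ T} (ha : G.ja ≫ f = G.ja ≫ g) (hb : G.jb ≫ f = G.jb ≫ g) :
    f = g := by
  ext1
  have := G.open_ja
  have := G.open_jb
  refine Scheme.hom_ext_of_forall _ _ fun x => ?_
  rcases G.covers x with ⟨y, hy⟩ | ⟨y, hy⟩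
  · refine ⟨G.ja.left.opensRange, ⟨y, hy⟩, ?_⟩
    rw [← cancel_epi G.ja.left.isoOpensRange.hom, Scheme.Hom.isoOpensRange_hom_ι_assoc,
      Scheme.Hom.isoOpensRange_hom_ι_assoc]
    exact congrArg (fun m : A ⟶ T => m.left) ha
  · refine ⟨G.jb.left.opensRange, ⟨y, hy⟩, ?_⟩
    rw [← cancel_epi G.jb.left.isoOpensRange.hom, Scheme.Hom.isoOpensRange_hom_ι_assoc,
      Scheme.Hom.isoOpensRange_hom_ι_assoc]
    exact congrArg (fun m : B ⟶ T => m.left) hb

theorem exists_glued {D A B : Over S} (i : D ⟶ A) (i' : D ⟶ B) [IsOpenImmersion i.left]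
    [IsOpenImmersion i'.left] : Nonempty (Glued₂ i i') := by
  let F := span i.left i'.left
  have hF : ∀ {i j : WalkingSpan} (f : i ⟶ j), IsOpenImmersion (F.map f) := by
    intro k l f
    obtain ⟨_⟩ | ⟨_ | _⟩ := f
    · rw [WidePushoutShape.hom_id, F.map_id]; infer_instance
    · exact inferInstanceAs (IsOpenImmersion i.left)
    · exact inferInstanceAs (IsOpenImmersion i'.left)
  have w : i.left ≫ colimit.ι F .left = i'.left ≫ colimit.ι F .right :=
    (colimit.w F WalkingSpan.Hom.fst).trans (colimit.w F WalkingSpan.Hom.snd).symm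
  let co : Cocone F := PushoutCocone.mk A.hom B.hom (by rw [Over.w i, Over.w i'])
  let s : colimit F ⟶ S := colimit.desc F co
  refine ⟨{ pt := Over.mk s
            ja := Over.homMk (colimit.ι F .left) (colimit.ι_desc co .left)
            jb := Over.homMk (colimit.ι F .right) (colimit.ι_desc co .right)
            open_ja := inferInstanceAs (IsOpenImmersion (colimit.ι F .left))
            open_jb := inferInstanceAs (IsOpenImmersion (colimit.ι F .right))
            covers := fun x => ?_
            isPB := ?_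
            exists_desc := fun {T} f g h => ?_ }⟩
  · obtain ⟨k, xi, hi⟩ := Scheme.IsLocallyDirected.ι_jointly_surjective F x
    match k with
    | .left => exact Or.inl ⟨xi, hi⟩
    | .right => exact Or.inr ⟨xi, hi⟩
    | .zero =>
      refine Or.inl ⟨i.left xi, ?_⟩
      rw [← hi, ← colimit.w F WalkingSpan.Hom.fst]
      rfl
  · refine IsPullback.of_map (Over.forget S) (by ext1; exact w) ?_
    refine IsOpenImmersion.isPullback i.left i'.left (colimit.ι F .left) (colimit.ι F .right) w.symm ?_
    ext y
    change colimit.ι F .right y ∈ Set.range (colimit.ι F .left) ↔ y ∈ Set.range i'.left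
    constructor
    · rintro ⟨z, hz⟩
      obtain ⟨k, fi, fj, x, h1, h2⟩ := (Scheme.IsLocallyDirected.ι_eq_ι_iff F).1 hz.symm
      match k, fi, fj with
      | .zero, .init _, .init _ => exact ⟨x, h1⟩
    · rintro ⟨x, rfl⟩
      exact ⟨i.left x, congrArg (fun m : D.left ⟶ colimit F => m x) w⟩
  · let co' : Cocone F := PushoutCocone.mk f.left g.left (congrArg (fun m : D ⟶ T => m.left) h)
    refine ⟨Over.homMk (colimit.desc F co') ?_, ?_, ?_⟩
    · refine colimit.hom_ext fun k => ?_
      change colimit.ι F k ≫ colimit.desc F co' ≫ T.hom = colimit.ι F k ≫ s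
      rw [colimit.ι_desc_assoc, colimit.ι_desc]
      match k with
      | .left => exact Over.w f
      | .right => exact Over.w g
      | .zero => exact (Category.assoc _ _ _).trans (congrArg _ (Over.w f))
    · ext1; exact colimit.ι_desc co' .left
    · ext1; exact colimit.ι_desc co' .right

end Glued₂

end Groth.Agent.H14.IsoNat
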