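import Groth.Agent.H14.Chart.OpenSub2
import Groth.Agent.H14.Chart.QC2

/-!
Quasi-compact morphisms to quasi-separated stacks are those pulling back compact opens to compact sets.
-/

set_option autoImplicit false
set_option backward.isDefEq.respectTransparency false
set_option backward.isDefEq.respectTransparency.types false

universe u

open CategoryTheory CategoryTheory.Limits AlgebraicGeometry

namespace Groth.Agent.H14.IsoNat.QCOpen

open Groth.Agent.Lib.AlgStack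
open Groth.Agent.H14.Chart
open Groth.Agent.H14.Sep
open FibCat (IsEquivOver fp fpFst fpSnd fpIso overCat IsFibGrpd toSelf)
open AlgSt (IsAlgStack RepByAlgSpWith overMap subIncl fullSub)
open AlgSp (LocP)

variable {S : Scheme.{u}} {𝒳 𝒴 : AlgSt.Cat S}

/-- Separated quasi-compact diagonal gives quasi-separatedness. -/
theorem isQuasiSeparatedOver_of_sepQC
    (h : RepByAlgSpWith (AlgSp.IsSeparatedMor ⊓ AlgSp.IsQuasiCompactMor) (FibCat.diag (toSelf 𝒴))) :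
    AlgSt.IsQuasiSeparatedOver 𝒴 :=
  Rep.repByAlgSpWith_mono h fun _ _ _ _ _ hh =>
    ⟨hh.2, Lib.AlgSpace.repWith_mono hh.1 fun _ _ g (_ : IsClosedImmersion g) =>
      inferInstanceAs (QuasiCompact g)⟩

/-- A compact set of points lies in the compact image of a smooth affine chart. -/
theorem exists_affine_chart (h𝒳 : IsAlgStack Scheme.fppfPrecoverage 𝒳) {K : Set (AlgSt.Points 𝒳)}
    (hK : IsCompact K) : ∃ (U : Over S) (x : overCat U ⥤ᵇ 𝒳), IsAffine U.left ∧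
      RepByAlgSpWith (LocP @Smooth) x ∧ K ⊆ Set.range (AlgSt.Points.ofChart x) := by
  obtain ⟨U, a, ha, has⟩ := h𝒳.atlas
  have hcov : ∀ p : AlgSt.Points 𝒳, ∃ O : U.left.affineOpens,
      p ∈ AlgSt.Points.ofChart a '' (O.1 : Set ↥U.left) := fun p => by
    obtain ⟨v, rfl⟩ := Points.surjective_ofChart h𝒳.isStack.1 has p
    obtain ⟨O, hO, hv, -⟩ := exists_isAffineOpen_mem_and_subset (U := ⊤) (Set.mem_univ v)
    exact ⟨⟨O, hO⟩, v, hv, rfl⟩
  obtain ⟨s, hs⟩ := hK.elim_finite_subcover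
    (fun O : U.left.affineOpens ↦ AlgSt.Points.ofChart a '' (O.1 : Set ↥U.left))
    (fun O ↦ Points.isOpenMap_ofChart h𝒳.isStack.1 ha _ O.1.2)
    (fun p _ ↦ Set.mem_iUnion.2 (hcov p))
  let O' : ↥s → U.left.Opens := fun x ↦ x.1.1
  let j := Lib.AlgSpace.opensSigmaMap O'
  have : ∀ i, IsAffine (O' i).toScheme := fun i ↦ i.1.2
  have hj : Smooth j.left := have := Lib.AlgSpace.etale_opensSigmaMap O'; inferInstance
  refine ⟨_, BasedFunctor.comp (overMap j) a, inferInstanceAs (IsAffine (∐ fun i ↦ (O' i).toScheme)),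
    IsAlgFp.comp_locP QC.smoothST (Yoneda.isFibGrpd_overCat _) (Yoneda.isFibGrpd_overCat _)
      (Basic.rep_overMap_locP j QC.smoothST hj) ha, fun p hp => ?_⟩
  obtain ⟨i, hi, v, hv, rfl⟩ := Set.mem_iUnion₂.1 (hs hp)
  refine ⟨Sigma.ι (fun i ↦ (O' i).toScheme) ⟨i, hi⟩ ⟨v, hv⟩, ?_⟩
  refine (Points.ofChart_overMap j a _).trans (congrArg _ ?_)
  exact Lib.AlgSpace.opensSigmaMap_apply O' ⟨i, hi⟩ ⟨v, hv⟩

/-- A compact set of points lies in a compact open one. -/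
theorem exists_compact_open (h𝒳 : IsAlgStack Scheme.fppfPrecoverage 𝒳) {K : Set (AlgSt.Points 𝒳)}
    (hK : IsCompact K) : ∃ W, IsOpen W ∧ IsCompact W ∧ K ⊆ W := by
  obtain ⟨U, x, hU, hx, hKx⟩ := exists_affine_chart h𝒳 hK
  exact ⟨_, (Points.isOpenMap_ofChart h𝒳.isStack.1 hx).isOpen_range,
    isCompact_range (Points.continuous_ofChart h𝒳 x), hKx⟩

/-- An open immersion is injective on points. -/
theorem injective_map_subIncl (h : IsFibGrpd 𝒳.p) (W : Set (AlgSt.Points 𝒳)) :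
    Function.Injective (AlgSt.Points.map (subIncl 𝒳 (OpenSub.sub h W))) := fun a b e => by
  obtain ⟨a, rfl⟩ := AlgSt.Points.mk_surjective a
  obtain ⟨b, rfl⟩ := AlgSt.Points.mk_surjective b
  obtain ⟨r, α, β, -⟩ := Lib.AlgStack.Points.rel_of_mk_eq h e
  let r' : AlgSt.FPt (fullSub 𝒳 (OpenSub.sub h W)) :=
    { K := r.K
      str := r.str
      obj := ⟨r.obj, OpenSub.sub_of_hom h α a.obj.property⟩
      lies := r.lies }
  exact AlgSt.Points.sound ⟨r', ObjectProperty.homMk α, ObjectProperty.homMk β, trivial⟩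

/-- The substack of a compact open set is quasi-compact. -/
theorem isQuasiCompact_sub (h𝒳 : IsAlgStack Scheme.fppfPrecoverage 𝒳) {W : Set (AlgSt.Points 𝒳)}
    (hW : IsOpen W) (hWc : IsCompact W) :
    AlgSt.IsQuasiCompact (fullSub 𝒳 (OpenSub.sub h𝒳.isStack.1 W)) := by
  have h' := OpenSub.isOpenSubstack_sub h𝒳 hW
  refine (QC.isQuasiCompact_iff h'.2.1).2 ⟨?_⟩
  have hemb : Topology.IsEmbedding (AlgSt.Points.map (subIncl 𝒳 (OpenSub.sub h𝒳.isStack.1 W))) := by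
    refine (Topology.IsOpenEmbedding.of_continuous_injective_isOpenMap
      (Basic.continuous_map h𝒳 _) (injective_map_subIncl _ W) ?_).isEmbedding
    intro O hO
    obtain ⟨V, a, ha, has⟩ := h'.2.1.atlas
    rw [← Set.image_preimage_eq O (Points.surjective_ofChart h'.2.1.isStack.1 has), Set.image_image]
    exact Points.isOpenMap_ofChart h𝒳.isStack.1 (IsAlgFp.comp_locP LocQ.smoothST
      (Yoneda.isFibGrpd_overCat V) h'.2.1.isStack.1 ha (OpenSub.smooth_of_isOpenImm h'.2.2)) _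
      (hO.preimage (Points.continuous_ofChart h'.2.1 a))
  rw [hemb.isCompact_iff, Set.image_univ, OpenSub.range_map_sub]
  exact hWc

/-- Points of the image of the second projection. -/
theorem range_fpSnd {𝒵 : AlgSt.Cat S} (h𝒳 : IsFibGrpd 𝒳.p) (h𝒴 : IsFibGrpd 𝒴.p) (h𝒵 : IsFibGrpd 𝒵.p)
    (g : 𝒵 ⥤ᵇ 𝒴) (f : 𝒳 ⥤ᵇ 𝒴) :
    Set.range (AlgSt.Points.map (fpSnd g f)) =
      AlgSt.Points.map f ⁻¹' Set.range (AlgSt.Points.map g) := by
  ext q
  constructor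
  · rintro ⟨r, rfl⟩
    refine ⟨AlgSt.Points.map (fpFst g f) r, ?_⟩
    rw [← Basic.map_comp, ← Basic.map_comp, Basic.map_iso (fpIso g f)]
  · rintro ⟨p, hp⟩
    obtain ⟨r, -, hr⟩ := Basic.exists_points_fp h𝒳 h𝒴 h𝒵 hp
    exact ⟨r, hr⟩

theorem isCompact_preimage_of_forall_openImm (h𝒳 : IsAlgStack Scheme.fppfPrecoverage 𝒳)
    (h𝒴 : IsAlgStack Scheme.fppfPrecoverage 𝒴) {f : 𝒳 ⥤ᵇ 𝒴}
    (hf : ∀ (𝒴' : AlgSt.Cat S), IsAlgStack Scheme.fppfPrecoverage 𝒴' → AlgSt.IsQuasiCompact 𝒴' →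
      ∀ (j : 𝒴' ⥤ᵇ 𝒴), AlgSt.IsOpenImm j → AlgSt.IsQuasiCompact (fp j f))
    {W : Set (AlgSt.Points 𝒴)} (hW : IsOpen W) (hWc : IsCompact W) :
    IsCompact (AlgSt.Points.map f ⁻¹' W) := by
  have h' := OpenSub.isOpenSubstack_sub h𝒴 hW
  have := (QC.isQuasiCompact_iff (Basic.isAlgStack_fp h𝒴 h'.2.1 h𝒳 _ f)).1
    (hf _ h'.2.1 (isQuasiCompact_sub h𝒴 hW hWc) _ h'.2.2)
  have hc := isCompact_range (Basic.continuous_map h𝒳
    (fpSnd (subIncl 𝒴 (OpenSub.sub h𝒴.isStack.1 W)) f))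
  rwa [range_fpSnd h𝒳.isStack.1 h𝒴.isStack.1 h'.2.1.isStack.1, OpenSub.range_map_sub] at hc

theorem isQuasiCompactMor_of_isCompact_preimage [QuasiSeparatedSpace S]
    (h𝒳 : IsAlgStack Scheme.fppfPrecoverage 𝒳) (h𝒴 : IsAlgStack Scheme.fppfPrecoverage 𝒴)
    (hq : AlgSt.IsQuasiSeparatedOver 𝒴) {f : 𝒳 ⥤ᵇ 𝒴}
    (hf : ∀ W : Set (AlgSt.Points 𝒴), IsOpen W → IsCompact W → IsCompact (AlgSt.Points.map f ⁻¹' W)) :
    AlgSt.IsQuasiCompactMor Scheme.fppfPrecoverage f := by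
  refine (QC.isQuasiCompactMor_iff h𝒳 h𝒴).2 fun V hV y => ?_
  obtain ⟨W, hW, hWc, hyW⟩ := exists_compact_open h𝒴
    (isCompact_range (Points.continuous_ofChart h𝒴 y))
  obtain ⟨U, a, hU, -, ha⟩ := exists_affine_chart h𝒳 (hf W hW hWc)
  have hc := Basic.isAlgStack_overCat U
  have hyf := Basic.isAlgStack_fp h𝒴 (Basic.isAlgStack_overCat V) h𝒳 y f
  have := (QC.isQuasiCompactMor_iff hc h𝒴).1 (QC2.isQuasiCompactMor_of_isQuasiCompact hc h𝒴
    (BasedFunctor.comp a f) (QC.isQuasiCompact_overCat U) hq) V hV y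
  have := Basic.compactSpace_of_isEquivOver (Basic.isAlgStack_fp h𝒳 hyf hc (fpSnd y f) a)
    (Rep.isEquivOver_pasteComp y f a)
  refine Basic.compactSpace_of_surjective hyf (f := fpFst (fpSnd y f) a) fun r => ?_
  obtain ⟨t, ht⟩ := ha (show AlgSt.Points.map (fpSnd y f) r ∈ AlgSt.Points.map f ⁻¹' W from by
    refine hyW ?_
    obtain ⟨p, hp⟩ := (range_fpSnd h𝒳.isStack.1 h𝒴.isStack.1 (Yoneda.isFibGrpd_overCat V) y f).le
      ⟨r, rfl⟩
    rw [← hp]
    obtain ⟨T, z, s, rfl⟩ := Points.exists_ofChart_eq (Yoneda.isFibGrpd_overCat V) p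
    obtain ⟨h, ⟨e⟩⟩ := Points.exists_iso_overMap z
    rw [Points.map_ofChart, Points.ofChart_iso (BasedBasic.isoWhiskerRight e y),
      Points.ofChart_overMap]
    exact ⟨_, rfl⟩)
  obtain ⟨r', hr', -⟩ := Basic.exists_points_fp (Yoneda.isFibGrpd_overCat U) h𝒳.isStack.1
    hyf.isStack.1 (g := fpSnd y f) (f := a) (p := r)
    (q := AlgSt.Points.ofChart (BasedFunctor.id _) t) (by rw [Points.map_ofChart]; exact ht.symm)
  exact ⟨r', hr'⟩

/-- Quasi-compactness is read on points. -/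
theorem isQuasiCompactMor_iff [QuasiSeparatedSpace S] (h𝒳 : IsAlgStack Scheme.fppfPrecoverage 𝒳)
    (h𝒴 : IsAlgStack Scheme.fppfPrecoverage 𝒴) (hq : AlgSt.IsQuasiSeparatedOver 𝒴) (f : 𝒳 ⥤ᵇ 𝒴) :
    AlgSt.IsQuasiCompactMor Scheme.fppfPrecoverage f ↔
      ∀ W : Set (AlgSt.Points 𝒴), IsOpen W → IsCompact W → IsCompact (AlgSt.Points.map f ⁻¹' W) :=
  ⟨fun hf _ hW hWc => isCompact_preimage_of_forall_openImm h𝒳 h𝒴
    (fun _ h' hc j _ => hf _ h' hc j) hW hWc, isQuasiCompactMor_of_isCompact_preimage h𝒳 h𝒴 hq⟩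

end Groth.Agent.H14.IsoNat.QCOpen
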