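import Groth.Agent.H14.IsoNat.Match

/-!
Objects on the tripled cross: the product of two twisting automorphisms.
-/

set_option autoImplicit false
set_option backward.isDefEq.respectTransparency false
set_option backward.isDefEq.respectTransparency.types false
set_option maxHeartbeats 800000

universe u

open CategoryTheory CategoryTheory.Limits AlgebraicGeometry Groth.Agent.Lib.Fibred.Descent

namespace Groth.Agent.H14.IsoNat.Twists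

open Groth.Agent.Lib.Fibred.StackLemmas (isIso_of_vertical)
open FibCat (IsFibGrpd toSelf inertiaToBase)
open AlgSt (RepByAlgSpWith IsAlgStack)
open Cross (U T L P π πL zero j l₁ l₂ sub subι O₁ O₂)

variable {S : Scheme.{u}} {𝒳 𝒴 : AlgSt.Cat S} {R : Type u} [CommRing R]
  {str : Spec (CommRingCat.of R) ⟶ S}

theorem exists_fac_line {ℓ : Line R str} (hℓ : ℓ = line₁ R str ∨ ℓ = line₂ R str) :
    ∃ e : P R str ⟶ DO R str, e ≫ pD R str = j R str ≫ ℓ.l := by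
  rcases hℓ with rfl | rfl
  · refine ⟨(line₁ R str).e ≫ (Double.union (O₁ R str) (O₂ R str)).ia, ?_⟩
    rw [← (line₁ R str).e_fac, Category.assoc]
    congr 1
    ext1; exact Scheme.homOfLE_ι _ le_sup_left
  · refine ⟨(line₂ R str).e ≫ (Double.union (O₁ R str) (O₂ R str)).ib, ?_⟩
    rw [← (line₂ R str).e_fac, Category.assoc]
    congr 1
    ext1; exact Scheme.homOfLE_ι _ le_sup_right

theorem line_w (G : Doubled R str) {ℓ : Line R str} (hℓ : ℓ = line₁ R str ∨ ℓ = line₂ R str) :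
    (j R str ≫ ℓ.l) ≫ G.ja = (j R str ≫ ℓ.l) ≫ G.jb := by
  obtain ⟨e, he⟩ := exists_fac_line hℓ
  rw [← he, Category.assoc, Category.assoc, G.isPB.w]

theorem Rel.comp {ℓ : Line R str} {ξu ζ ζ' : 𝒳.obj} {m : ξu ⟶ ξu} {fa fb : ξu ⟶ ζ}
    (h : Rel ℓ m fa fb) (Q : ζ ⟶ ζ') : Rel ℓ m (fa ≫ Q) (fb ≫ Q) := fun z w hw => by
  simp only [← Category.assoc]
  rw [h w hw]
  simp only [Category.assoc]

theorem Rel.trans {ℓ : Line R str} {ξu ζ : 𝒳.obj} {m n : ξu ⟶ ξu} {fa fb fc : ξu ⟶ ζ}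
    (hn : 𝒳.p.IsHomLift (𝟙 (U R str)) n) (h : Rel ℓ m fa fb) (h' : Rel ℓ n fb fc) :
    Rel ℓ (n ≫ m) fa fc := fun z w hw => by
  have := h (w ≫ n) inferInstance
  simp only [Category.assoc] at this ⊢
  rw [h' w hw, this]

/-- A relation seen after a lift of a morphism of the bases. -/
theorem Rel.of_comp (h : IsFibGrpd 𝒳.p) {ℓ : Line R str} {ξu ζ ζ' : 𝒳.obj} {m : ξu ⟶ ξu}
    {fa fb : ξu ⟶ ζ} {X X' : Over S} {ca cb : U R str ⟶ X} {e : X ⟶ X'} (Q : ζ ⟶ ζ')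
    (hQ : 𝒳.p.IsHomLift e Q) (hw : (j R str ≫ ℓ.l) ≫ ca = (j R str ≫ ℓ.l) ≫ cb)
    (hfa : 𝒳.p.IsHomLift ca fa) (hfb : 𝒳.p.IsHomLift cb fb) (hm : 𝒳.p.IsHomLift (𝟙 (U R str)) m)
    (hr : Rel ℓ m (fa ≫ Q) (fb ≫ Q)) : Rel ℓ m fa fb := fun z w hwl => by
  have l1 : 𝒳.p.IsHomLift ((j R str ≫ ℓ.l) ≫ cb) (w ≫ fb) := inferInstance
  have l2 : 𝒳.p.IsHomLift ((j R str ≫ ℓ.l) ≫ cb) (w ≫ m ≫ fa) := by
    rw [← hw]; infer_instance
  refine ext_lift h Q hQ l1 l2 ?_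
  simp only [Category.assoc]
  exact hr w hwl

/-- The restriction along `e` is the twist by `s`. -/
def TwistAlong (G : Doubled R str) {η ξu : 𝒳.obj} (A : ξu ⟶ η) (s : η ⟶ η) {X : Over S}
    (e : G.pt ⟶ X) (ζ : 𝒳.obj) : Prop :=
  ∃ (ξ : 𝒳.obj) (Q : ξ ⟶ ζ), 𝒳.p.IsHomLift e Q ∧ IsTwist G A s ξ

section Build

variable {G : Doubled R str} {η ξu : 𝒳.obj} (A : ξu ⟶ η) [hA : 𝒳.p.IsHomLift (π R str) A]

include hA

/-- Any pair of automorphisms occurs on the tripled cross. -/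
theorem exists_realise (h : IsAlgStack Scheme.fppfPrecoverage 𝒳)
    (X₃ : Glued₂ (pD R str ≫ G.jb) (pD R str)) {ebc : G.pt ⟶ X₃.pt}
    (h1 : G.ja ≫ ebc = G.jb ≫ X₃.ja) (h2 : G.jb ≫ ebc = X₃.jb)
    {eac : G.pt ⟶ X₃.pt} (h3 : G.ja ≫ eac = G.ja ≫ X₃.ja) (h4 : G.jb ≫ eac = X₃.jb)
    (s t : η ⟶ η) (hs : 𝒳.p.IsHomLift (𝟙 (T R str)) s) (ht : 𝒳.p.IsHomLift (𝟙 (T R str)) t) :
    ∃ ζ : 𝒳.obj, 𝒳.p.obj ζ = X₃.pt ∧ TwistAlong G A s X₃.ja ζ ∧ TwistAlong G A t ebc ζ ∧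
      TwistAlong G A (t ≫ s) eac ζ := by
  have hG := h.isStack.1
  have hξu : 𝒳.p.obj ξu = U R str := IsHomLift.domain_eq 𝒳.p (π R str) A
  obtain ⟨ξab, hab⟩ := exists_twist (G := G) A h s hs
  have hab' := hab
  obtain ⟨hξab, sU, φa, φb, hsU, esU, hφa, hφb, q₁, q₂⟩ := hab'
  obtain ⟨tU, htU, etU⟩ := Detect.exists_pull_aut hG A hA t ht
  obtain ⟨ξd, pd, hpd⟩ := exists_lift hG hξu (pD R str)
  obtain ⟨σ, hσ, hrel⟩ := exists_sigma h htU pd hpd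
  have hσd : 𝒳.p.IsHomLift (pD R str) (σ ≫ pd) :=
    IsHomLift.comp_lift_id_left' 𝒳.p (DO R str) σ (pD R str) pd
  have hpa : 𝒳.p.IsHomLift (pD R str ≫ G.jb) ((σ ≫ pd) ≫ φb) := inferInstance
  obtain ⟨ζ, Φ, φc, hζ, hΦ, hφc, hc⟩ :=
    Glue2.exists_glue (c := X₃.cov) hG hξab hξu hpa hpd (Detect.stackFor h X₃.cov_mem).2.2
  have hΦ' : 𝒳.p.IsHomLift X₃.ja Φ := hΦ
  have hφc' : 𝒳.p.IsHomLift X₃.jb φc := hφc
  obtain ⟨r₁, r₂⟩ := hrel (φb ≫ Φ) φc (by simpa only [Category.assoc] using hc)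
  have q₁' := (q₁.comp Φ).trans htU r₁
  have q₂' := (q₂.comp Φ).trans (IsHomLift.id hξu) r₂
  rw [Category.id_comp] at q₂'
  refine ⟨ζ, hζ, ⟨ξab, Φ, hΦ', hab⟩, ?_, ?_⟩
  swap
  · obtain ⟨ξac, Q, hQ⟩ := exists_lift hG hζ eac
    have := cart hG Q hQ
    have la : 𝒳.p.IsHomLift (G.ja ≫ eac) (φa ≫ Φ) := by rw [h3]; infer_instance
    have lb : 𝒳.p.IsHomLift (G.jb ≫ eac) φc := by rw [h4]; infer_instance
    let θa := Functor.IsStronglyCartesian.map 𝒳.p eac Q (g := G.ja) rfl (φa ≫ Φ)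
    let θb := Functor.IsStronglyCartesian.map 𝒳.p eac Q (g := G.jb) rfl φc
    have hθa : 𝒳.p.IsHomLift G.ja θa := Functor.IsStronglyCartesian.map_isHomLift _ _ _ _ _
    have hθb : 𝒳.p.IsHomLift G.jb θb := Functor.IsStronglyCartesian.map_isHomLift _ _ _ _ _
    have ea : θa ≫ Q = φa ≫ Φ := Functor.IsStronglyCartesian.fac _ _ _ _ _
    have eb : θb ≫ Q = φc := Functor.IsStronglyCartesian.fac _ _ _ _ _
    rw [← ea, ← eb] at q₁' q₂'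
    refine ⟨ξac, Q, hQ, IsHomLift.domain_eq 𝒳.p eac Q, tU ≫ sU, θa, θb, inferInstance, ?_, hθa, hθb,
      q₁'.of_comp hG Q hQ (line_w G (Or.inl rfl)) hθa hθb inferInstance,
      q₂'.of_comp hG Q hQ (line_w G (Or.inr rfl)) hθa hθb (IsHomLift.id hξu)⟩
    rw [Category.assoc, esU, reassoc_of% etU]
  obtain ⟨ξbc, Q, hQ⟩ := exists_lift hG hζ ebc
  have := cart hG Q hQ
  have la : 𝒳.p.IsHomLift (G.ja ≫ ebc) (φb ≫ Φ) := by rw [h1]; infer_instance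
  have lb : 𝒳.p.IsHomLift (G.jb ≫ ebc) φc := by rw [h2]; infer_instance
  let ψa := Functor.IsStronglyCartesian.map 𝒳.p ebc Q (g := G.ja) rfl (φb ≫ Φ)
  let ψb := Functor.IsStronglyCartesian.map 𝒳.p ebc Q (g := G.jb) rfl φc
  have hψa : 𝒳.p.IsHomLift G.ja ψa := Functor.IsStronglyCartesian.map_isHomLift _ _ _ _ _
  have hψb : 𝒳.p.IsHomLift G.jb ψb := Functor.IsStronglyCartesian.map_isHomLift _ _ _ _ _
  have ea : ψa ≫ Q = φb ≫ Φ := Functor.IsStronglyCartesian.fac _ _ _ _ _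
  have eb : ψb ≫ Q = φc := Functor.IsStronglyCartesian.fac _ _ _ _ _
  rw [← ea, ← eb] at r₁ r₂
  exact ⟨ξbc, Q, hQ, IsHomLift.domain_eq 𝒳.p ebc Q, tU, ψa, ψb, htU, etU, hψa, hψb,
    r₁.of_comp hG Q hQ (line_w G (Or.inl rfl)) hψa hψb htU,
    r₂.of_comp hG Q hQ (line_w G (Or.inr rfl)) hψa hψb (IsHomLift.id hξu)⟩

/-- The third restriction of an object on the tripled cross. -/
theorem TwistAlong.comp (h : IsAlgStack Scheme.fppfPrecoverage 𝒳) {X : Over S}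
    {eab ebc eac : G.pt ⟶ X} (wb : G.jb ≫ eab = G.ja ≫ ebc) (wa : G.ja ≫ eac = G.ja ≫ eab)
    (wc : G.jb ≫ eac = G.jb ≫ ebc) {ζ : 𝒳.obj} (hζ : 𝒳.p.obj ζ = X) {s t : η ⟶ η}
    (hs : TwistAlong G A s eab ζ) (ht : TwistAlong G A t ebc ζ) :
    ∃ g g' : η ⟶ η, 𝒳.p.IsHomLift (𝟙 (T R str)) g ∧ g ≫ g' = 𝟙 η ∧
      TwistAlong G A (t ≫ g ≫ s ≫ g') eac ζ := by
  have hG := h.isStack.1
  have hξu : 𝒳.p.obj ξu = U R str := IsHomLift.domain_eq 𝒳.p (π R str) A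
  obtain ⟨ξab, Qab, hQab, -, sU, φa, φb, hsU, esU, hφa, hφb, r₁, r₂⟩ := hs
  obtain ⟨ξbc, Qbc, hQbc, -, tU, ψa, ψb, htU, etU, hψa, hψb, q₁, q₂⟩ := ht
  have lb : 𝒳.p.IsHomLift (G.jb ≫ eab) (ψa ≫ Qbc) := by rw [wb]; infer_instance
  obtain ⟨gb, hgb, egb⟩ :=
    exists_factor (f := G.jb ≫ eab) hG (φb ≫ Qab) inferInstance (ψa ≫ Qbc) lb
  have := isIso_of_vertical hG gb hgb
  obtain ⟨ξac, Q, hQ⟩ := exists_lift hG hζ eac
  have := cart hG Q hQ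
  have la : 𝒳.p.IsHomLift (G.ja ≫ eac) (φa ≫ Qab) := by rw [wa]; infer_instance
  have lc : 𝒳.p.IsHomLift (G.jb ≫ eac) (ψb ≫ Qbc) := by rw [wc]; infer_instance
  let θa := Functor.IsStronglyCartesian.map 𝒳.p eac Q (g := G.ja) rfl (φa ≫ Qab)
  let θb := Functor.IsStronglyCartesian.map 𝒳.p eac Q (g := G.jb) rfl (ψb ≫ Qbc)
  have hθa : 𝒳.p.IsHomLift G.ja θa := Functor.IsStronglyCartesian.map_isHomLift _ _ _ _ _
  have hθb : 𝒳.p.IsHomLift G.jb θb := Functor.IsStronglyCartesian.map_isHomLift _ _ _ _ _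
  have ea : θa ≫ Q = φa ≫ Qab := Functor.IsStronglyCartesian.fac _ _ _ _ _
  have eb : θb ≫ Q = ψb ≫ Qbc := Functor.IsStronglyCartesian.fac _ _ _ _ _
  have key : ∀ {ℓ : Line R str}, (ℓ = line₁ R str ∨ ℓ = line₂ R str) → ∀ m n : ξu ⟶ ξu,
      𝒳.p.IsHomLift (𝟙 (U R str)) m → 𝒳.p.IsHomLift (𝟙 (U R str)) n →
      Rel ℓ m φa φb → Rel ℓ n ψa ψb → Rel ℓ (n ≫ gb ≫ m) θa θb := by
    intro ℓ hℓ m n hm hn hr hq
    refine Rel.of_comp hG Q hQ (line_w G hℓ) hθa hθb inferInstance ?_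
    rw [ea, eb]
    have e1 : Rel ℓ gb (φb ≫ Qab) (ψa ≫ Qbc) := fun z w _ => by rw [egb]
    have e2 := Rel.trans (inferInstanceAs (𝒳.p.IsHomLift (𝟙 (U R str)) (n ≫ gb)))
      (hr.comp Qab) ((e1).trans hn (hq.comp Qbc))
    simpa only [Category.assoc] using e2
  obtain ⟨o, ho, eo⟩ := exists_origin (R := R) (str := str) A hG
  have hξac : 𝒳.p.obj ξac = G.pt := IsHomLift.domain_eq 𝒳.p eac Q
  have k2 := key (Or.inr rfl) (𝟙 ξu) (𝟙 ξu) (IsHomLift.id hξu) (IsHomLift.id hξu) r₂ q₂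
  rw [Category.id_comp, Category.comp_id] at k2
  have tw := isTwist_of_rel A h hξac θa θb hθa hθb ho eo (tU ≫ gb ≫ sU) gb inferInstance hgb
    (key (Or.inl rfl) sU tU hsU htU r₁ q₁) k2
  obtain ⟨g, hg, eg⟩ : ∃ g : η ⟶ η, 𝒳.p.IsHomLift (𝟙 (T R str)) g ∧ o ≫ gb = g ≫ o :=
    ⟨_, origin_comp A hG ho eo gb hgb⟩
  obtain ⟨g', -, eg'⟩ : ∃ g : η ⟶ η, 𝒳.p.IsHomLift (𝟙 (T R str)) g ∧ o ≫ inv gb = g ≫ o :=
    ⟨_, origin_comp A hG ho eo (inv gb) inferInstance⟩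
  obtain ⟨-, et⟩ := origin_comp A hG ho eo tU htU
  obtain ⟨-, es⟩ := origin_comp A hG ho eo sU hsU
  rw [show o ≫ sU ≫ A = s by rw [esU, reassoc_of% eo]] at es
  rw [show o ≫ tU ≫ A = t by rw [etU, reassoc_of% eo]] at et
  refine ⟨g, g', hg, ?_, ξac, Q, hQ, ?_⟩
  · have e1 : o ≫ (gb ≫ inv gb) ≫ A = g ≫ g' := by
      simp only [Category.assoc]
      rw [reassoc_of% eg, reassoc_of% eg', eo, Category.comp_id]
    rw [← e1, IsIso.hom_inv_id, Category.id_comp, eo]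
  · convert tw using 1
    simp only [Category.assoc]
    rw [reassoc_of% et, reassoc_of% eg, reassoc_of% es, reassoc_of% eg', eo, Category.comp_id]

end Build

end Groth.Agent.H14.IsoNat.Twists
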