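import Groth.Agent.Lib.AlgSpace.Points
import Groth.Agent.Lib.AlgSpace.Local
import Groth.Agent.Lib.AlgSpMor.QC
import Groth.Agent.Lib.AlgSpMor.Cancel
import Groth.Agent.Lib.AlgSpMor.Topo
import Groth.Agent.H22.SupportBC
import Mathlib.RingTheory.Kaehler.TensorProduct
import Mathlib.RingTheory.Unramified.Locus
import Mathlib.AlgebraicGeometry.Morphisms.FlatMono

/-!
The locus over which a proper space with a section is trivial is open and quasi-compact.
-/

set_option autoImplicit false
set_option linter.style.haveILetI false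
set_option backward.isDefEq.respectTransparency false
set_option backward.isDefEq.respectTransparency.types false

universe u

open CategoryTheory CategoryTheory.Limits AlgebraicGeometry TensorProduct

namespace Groth.Agent.H14.IsoNat.TrivLocus

open Groth.Agent.Lib.AlgSpace
open AlgSp (Sp yon RepWith Points IsAlgSpace)

/-- The open set of unramified points of the spectrum of an algebra. -/
def unramOpen (R B : Type u) [CommRing R] [CommRing B] [Algebra R B] [Algebra.EssFiniteType R B] :
    (Spec (CommRingCat.of B)).Opens :=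
  ⟨Algebra.unramifiedLocus R B, Algebra.isOpen_unramifiedLocus⟩

theorem formallyUnramified_unramOpen (R B : Type u) [CommRing R] [CommRing B] [Algebra R B]
    [Algebra.EssFiniteType R B] :
    FormallyUnramified ((unramOpen R B).ι ≫ Spec.map (CommRingCat.ofHom (algebraMap R B))) := by
  let X := Spec (CommRingCat.of B)
  let N := unramOpen R B
  let I := {f : B // ↑(PrimeSpectrum.basicOpen f) ⊆ Algebra.unramifiedLocus R B}
  let V : I → N.toScheme.Opens := fun f => N.ι ⁻¹ᵁ (PrimeSpectrum.basicOpen f.1 : X.Opens)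
  have hV : iSup V = ⊤ := by
    refine top_le_iff.1 fun x _ => ?_
    obtain ⟨_, ⟨_, ⟨f, rfl⟩, rfl⟩, hxf, hf⟩ :=
      PrimeSpectrum.isBasis_basic_opens.exists_subset_of_mem_open
        (show N.ι x ∈ (N : Set ↥X) from x.2) N.isOpen
    exact TopologicalSpace.Opens.mem_iSup.2 ⟨⟨f, hf⟩, hxf⟩
  rw [IsZariskiLocalAtSource.iff_of_iSup_eq_top (P := @FormallyUnramified) V hV]
  intro f
  let j : Spec (CommRingCat.of (Localization.Away f.1)) ⟶ X :=
    Spec.map (CommRingCat.ofHom (algebraMap B (Localization.Away f.1)))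
  have : IsOpenImmersion j := IsOpenImmersion.of_isLocalization (R := CommRingCat.of B)
    (S := Localization.Away f.1) f.1
  have : FormallyUnramified (j ≫ Spec.map (CommRingCat.ofHom (algebraMap R B))) := by
    rw [← Spec.map_comp, ← CommRingCat.ofHom_comp, ← IsScalarTower.algebraMap_eq,
      HasRingHomProperty.Spec_iff (P := @FormallyUnramified)]
    exact RingHom.formallyUnramified_algebraMap.2
      (Algebra.basicOpen_subset_unramifiedLocus_iff.1 f.2)
  have hr : Set.range ((V f).ι ≫ N.ι) ⊆ Set.range j := by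
    have hj : Set.range j = (PrimeSpectrum.basicOpen f.1 : Set (PrimeSpectrum B)) :=
      PrimeSpectrum.localization_away_comap_range (Localization.Away f.1) f.1
    rw [hj]
    rintro _ ⟨x, rfl⟩
    rw [Scheme.Hom.comp_apply]
    exact x.2
  rw [← Category.assoc, ← IsOpenImmersion.lift_fac j ((V f).ι ≫ N.ι) hr, Category.assoc]
  have : FormallyUnramified (IsOpenImmersion.lift j ((V f).ι ≫ N.ι) hr) :=
    have : IsOpenImmersion (IsOpenImmersion.lift j ((V f).ι ≫ N.ι) hr) := inferInstance
    inferInstance
  exact MorphismProperty.comp_mem @FormallyUnramified _ _ this inferInstance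

theorem isCompact_of_isConstructible {R : Type u} [CommRing R] {C : Set (PrimeSpectrum R)}
    (hC : Topology.IsConstructible C) : IsCompact C := by
  induction C, hC using Topology.IsConstructible.induction_of_isTopologicalBasis
    (b := fun f : R => (PrimeSpectrum.basicOpen f : Set (PrimeSpectrum R)))
    (basis := PrimeSpectrum.isTopologicalBasis_basic_opens)
    (isCompact_basis := fun f => PrimeSpectrum.isCompact_basicOpen f) with
  | sdiff i s hs =>
    exact (PrimeSpectrum.isCompact_basicOpen i).diff
      (isOpen_biUnion fun j _ => (PrimeSpectrum.basicOpen j).2)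
  | union s hs t ht h1 h2 => exact h1.union h2

theorem isPullback_of_factor {P X Y Z W : Scheme.{u}} {p : P ⟶ X} {q : P ⟶ Y} {m : X ⟶ Z} {g : Y ⟶ Z}
    (h : IsPullback p q m g) (i : W ⟶ X) [Mono i] (c : P ⟶ W) (hc : c ≫ i = p) :
    IsPullback c q (i ≫ m) g := by
  subst hc
  refine ⟨⟨(Category.assoc _ _ _).symm.trans h.w⟩, ⟨PullbackCone.IsLimit.mk _
    (fun s => h.lift (s.fst ≫ i) s.snd (by rw [Category.assoc]; exact s.condition))
    (fun s => ?_) (fun s => h.lift_snd _ _ _) (fun s n h₁ h₂ => ?_)⟩⟩
  · exact (cancel_mono i).1 ((Category.assoc _ _ _).trans (h.lift_fst _ _ _))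
  · refine h.hom_ext ?_ (h₂.trans (h.lift_snd _ _ _).symm)
    exact ((Category.assoc _ _ _).symm.trans (congrArg (· ≫ i) h₁)).trans (h.lift_fst _ _ _).symm

variable {S : Scheme.{u}}

/-- A section is the only map over a given morphism, after every base change. -/
def Triv {U : Over S} {G : Sp S} (γ : G ⟶ (yon S).obj U) (e : (yon S).obj U ⟶ G) {T : Over S}
    (g : T ⟶ U) : Prop :=
  ∀ ⦃T' : Over S⦄ (k : T' ⟶ T) (l : (yon S).obj T' ⟶ G),
    l ≫ γ = (yon S).map (k ≫ g) → l = (yon S).map (k ≫ g) ≫ e

theorem Triv.comp {U : Over S} {G : Sp S} {γ : G ⟶ (yon S).obj U} {e : (yon S).obj U ⟶ G}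
    {T T₁ : Over S} {g : T ⟶ U} (h : Triv γ e g) (k₁ : T₁ ⟶ T) : Triv γ e (k₁ ≫ g) :=
  fun T' k l hl => by
    have := h (k ≫ k₁) l (by rw [hl, Category.assoc])
    rwa [Category.assoc] at this

/-- The locus over which a proper space with a section is trivial is open and quasi-compact. -/
theorem exists_opens {U : Over S} [IsAffine U.left] {G : Sp S} (hG : IsAlgSpace G)
    (γ : G ⟶ (yon S).obj U) (e : (yon S).obj U ⟶ G) (he : e ≫ γ = 𝟙 _)
    (hp : AlgSp.IsProperMor γ) (hfp : AlgSp.LocP @LocallyOfFinitePresentation γ) :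
    ∃ V : U.left.Opens, IsCompact (V : Set ↥U.left) ∧
      ∀ {T : Over S} (g : T ⟶ U), Triv γ e g ↔ Set.range g.left ⊆ V := by
  -- an affine atlas
  have hGc : CompactSpace (Points G) :=
    Lib.AlgSpMor.QC.compactSpace_of_isQuasiCompactMor hp.2.1.2 (g := 𝟙 _)
      (IsPullback.of_horiz_isIso (f := γ) (snd := γ) (fst := 𝟙 G) (g := 𝟙 _) ⟨by simp⟩)
  obtain ⟨W₀, π₀, hW₀, hπ₀, hπ₀s⟩ := Lib.AlgSpMor.QC.exists_affine_atlas hG
  let B := Γ(W₀.left, ⊤)
  let W : Over S := Over.mk (W₀.left.isoSpec.inv ≫ W₀.hom)
  let w₀ : W ⟶ W₀ := Over.homMk W₀.left.isoSpec.inv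
  let π : (yon S).obj W ⟶ G := (yon S).map w₀ ≫ π₀
  have hπ : RepWith @Etale π :=
    repWith_comp (repWith_etale_yon_map (inferInstanceAs (Etale W₀.left.isoSpec.inv))) hπ₀
  have hπs : Function.Surjective (Points.ofPt π) := fun x => by
    obtain ⟨y, rfl⟩ := surjective_ofPt hπ₀s x
    obtain ⟨v, rfl⟩ := W₀.left.isoSpec.inv.surjective y
    exact ⟨v, ofPt_yon_map_comp w₀ π₀ v⟩
  obtain ⟨m, hm⟩ := (yon S).map_surjective (π ≫ γ)
  have hmfp : LocallyOfFinitePresentation m.left :=
    hfp π (𝟙 _) m hπ (AlgSp.repWith_id _ _) (by rw [Category.comp_id, hm])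
  -- the section on the atlas
  let pr : (yon S).obj W ⟶ pullback γ γ := pullback.lift π ((yon S).map m ≫ e) (by
    rw [Category.assoc ((yon S).map m), he, Category.comp_id, hm])
  have hd : RepWith @IsClosedImmersion (pullback.diagonal γ) := hp.1
  have sq := hd.rep.isPullback pr
  let Z := hd.rep.pullback pr
  let i : Z ⟶ W := hd.rep.snd pr
  have : IsClosedImmersion i.left := Lib.AlgSpace.repWith_property hd sq
  have hiπ : (yon S).map i ≫ π = (yon S).map (i ≫ m) ≫ e := by
    have hw := sq.w
    have e1 := congrArg (fun m => m ≫ pullback.fst γ γ) hw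
    have e2 := congrArg (fun m => m ≫ pullback.snd γ γ) hw
    simp [pr] at e1 e2
    rw [Functor.map_comp, Category.assoc]
    exact e1.symm.trans e2
  have huniv : ∀ {T : Over S} (a : T ⟶ W), (yon S).map a ≫ π = (yon S).map (a ≫ m) ≫ e →
      ∃ c : T ⟶ Z, c ≫ i = a := fun {T} a ha => by
    obtain ⟨c, hc⟩ := (yon S).map_surjective (sq.lift ((yon S).map a ≫ π) ((yon S).map a) (by
      apply pullback.hom_ext
      · simp [pr]
      · simp [pr, ha]))
    exact ⟨c, (yon S).map_injective (by rw [Functor.map_comp, hc]; exact sq.lift_snd _ _ _)⟩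
  have hze : Etale (i ≫ m).left := by
    obtain ⟨Z', p, q, sqZ⟩ := exists_isPullback_yon hG.diag π e
    have hq : Etale q.left := repWith_property hπ sqZ
    have hpm : p ≫ m = q := (yon S).map_injective (by
      rw [Functor.map_comp, hm, reassoc_of% sqZ.w, he, Category.comp_id])
    obtain ⟨c, hc⟩ := huniv p (by rw [hpm]; exact sqZ.w)
    obtain ⟨d, hd'⟩ := (yon S).map_surjective (sqZ.lift ((yon S).map i) ((yon S).map (i ≫ m)) hiπ)
    have hdp : d ≫ p = i := (yon S).map_injective (by rw [Functor.map_comp, hd']; exact sqZ.lift_fst _ _ _)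
    have hdq : d ≫ q = i ≫ m := (yon S).map_injective (by rw [Functor.map_comp, hd']; exact sqZ.lift_snd _ _ _)
    have : Mono i := (Over.forget S).mono_of_mono_map (inferInstanceAs (Mono i.left))
    have hdc : d ≫ c = 𝟙 Z := by rw [← cancel_mono i, Category.assoc, hc, hdp, Category.id_comp]
    have hcd : c ≫ d = 𝟙 Z' := by
      refine (yon S).map_injective (sqZ.hom_ext ?_ ?_) <;> rw [← Functor.map_comp, ← Functor.map_comp]
      · rw [Category.assoc, hdp, hc, Category.id_comp]
      · rw [Category.assoc, hdq, ← Category.assoc, hc, hpm, Category.id_comp]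
    have : IsIso d.left := by
      have : IsIso d := ⟨c, hdc, hcd⟩
      exact inferInstanceAs (IsIso ((Over.forget S).map d))
    rw [← hdq, Over.comp_left]
    infer_instance
  -- the ring map of the atlas
  obtain ⟨φ₀, hφ₀⟩ := Spec.map_surjective (m.left ≫ U.left.isoSpec.hom)
  let R := Γ(U.left, ⊤)
  algebraize [φ₀.hom]
  have hRB : Spec.map (CommRingCat.ofHom (algebraMap R B)) = m.left ≫ U.left.isoSpec.hom := hφ₀
  have hfpB : Algebra.FinitePresentation R B := by
    have h : LocallyOfFinitePresentation (Spec.map φ₀) := by rw [hφ₀]; infer_instance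
    rw [HasRingHomProperty.Spec_iff (P := @LocallyOfFinitePresentation)] at h
    exact h
  let N : W.left.Opens := unramOpen R B
  have hN : FormallyUnramified (N.ι ≫ m.left) := by
    have := formallyUnramified_unramOpen R B
    rw [hRB] at this
    have e : N.ι ≫ m.left = ((unramOpen R B).ι ≫ m.left ≫ U.left.isoSpec.hom) ≫ U.left.isoSpec.inv := by
      simp only [Category.assoc, Iso.hom_inv_id, Category.comp_id]
      rfl
    rw [e]
    exact MorphismProperty.comp_mem @FormallyUnramified _ _ this
      (inferInstance : FormallyUnramified U.left.isoSpec.inv)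
  -- the good open set
  let Z₀ : Z.left.Opens := i.left ⁻¹ᵁ N
  have : IsOpenImmersion (i.left ∣_ N) := by
    have : Etale ((i.left ∣_ N) ≫ N.ι ≫ m.left) := by
      rw [morphismRestrict_ι_assoc, ← Over.comp_left]
      infer_instance
    have : LocallyOfFiniteType (N.ι ≫ m.left) := inferInstance
    have : Etale (i.left ∣_ N) := Etale.of_comp _ (N.ι ≫ m.left)
    exact IsOpenImmersion.of_flat_of_mono _
  let j : Z₀.toScheme ⟶ W.left := Z₀.ι ≫ i.left
  have hj : IsOpenImmersion j := by
    have e : j = (i.left ∣_ N) ≫ N.ι := (morphismRestrict_ι _ _).symm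
    rw [e]; infer_instance
  have hjr : Set.range j = Set.range i.left ∩ (N : Set ↥W.left) := by
    ext x
    constructor
    · rintro ⟨z, rfl⟩
      refine ⟨⟨Z₀.ι z, (Scheme.Hom.comp_apply _ _ _).symm⟩, ?_⟩
      rw [Scheme.Hom.comp_apply]
      exact z.2
    · rintro ⟨⟨z, rfl⟩, hz⟩
      exact ⟨⟨z, hz⟩, Scheme.Hom.comp_apply _ _ _⟩
  have hΩo : IsOpen (Set.range j) := j.isOpenEmbedding.isOpen_range
  -- the bad points
  let D : Set (Points G) := (Points.ofPt π '' Set.range j)ᶜ
  have hD : IsClosed D := (isOpenMap_ofPt hπ _ hΩo).isClosed_compl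
  have hcl : IsClosedMap (Points.map γ) :=
    hp.2.2 (IsAlgSpace.yon_obj U) (𝟙 _) (𝟙 G) γ (IsPullback.of_horiz_isIso (f := γ) ⟨by simp⟩)
  let V : U.left.Opens :=
    ⟨(Points.schemeHomeo U ⁻¹' (Points.map γ '' D))ᶜ,
      ((hcl D hD).preimage (Points.schemeHomeo U).continuous).isOpen_compl⟩
  have hγpt : ∀ {T : Over S} (l : (yon S).obj T ⟶ G) (a : T ⟶ U) (t : ↥T.left),
      l ≫ γ = (yon S).map a → Points.map γ (Points.ofPt l t) = Points.schemeHomeo U (a.left t) := by
    intro T l a t h
    rw [Points.map_ofPt, h, ← Category.comp_id ((yon S).map a), ofPt_yon_map_comp]; rfl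
  -- range in the open set gives triviality
  have hto : ∀ {T : Over S} (g : T ⟶ U), Set.range g.left ⊆ V → Triv γ e g := by
    intro T g hg T' k l hl
    obtain ⟨P, p, q, sqP⟩ := exists_isPullback_yon hG.diag π l
    have hq : Etale q.left := repWith_property hπ sqP
    let O : P.left.Opens := p.left ⁻¹ᵁ ⟨Set.range j, hΩo⟩
    let P₀ : Over S := Over.mk (O.ι ≫ P.hom)
    let o : P₀ ⟶ P := Over.homMk O.ι
    have hr : Set.range (o ≫ p).left ⊆ Set.range j := by
      rintro _ ⟨x, rfl⟩
      rw [Over.comp_left, Scheme.Hom.comp_apply]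
      exact x.2
    let cl : P₀.left ⟶ Z.left := IsOpenImmersion.lift j (o ≫ p).left hr ≫ Z₀.ι
    have hcl' : cl ≫ i.left = (o ≫ p).left := by
      simp only [cl, Category.assoc]
      exact IsOpenImmersion.lift_fac _ _ _
    let c : P₀ ⟶ Z := Over.homMk cl (by rw [← Over.w i, ← Category.assoc, hcl']; exact Over.w (o ≫ p))
    have hc : c ≫ i = o ≫ p := by ext1; exact hcl'
    refine hom_ext_of_family (fun _ : PUnit.{u + 1} => P₀) (fun _ => o ≫ q)
      (ofArrows_mem_J _ _ (fun _ => inferInstanceAs (Flat (O.ι ≫ q.left)))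
        (fun _ => inferInstanceAs (LocallyOfFinitePresentation (O.ι ≫ q.left))) fun t => ?_) fun _ => ?_
    · have ht : Points.ofPt l t ∈ Points.ofPt π '' Set.range j := by
        by_contra hb
        refine hg ⟨k.left t, rfl⟩ ⟨_, hb, ?_⟩
        rw [hγpt l (k ≫ g) t hl, Over.comp_left, Scheme.Hom.comp_apply]
      obtain ⟨x, hx, hxt⟩ := ht
      obtain ⟨r, hr₁, hr₂⟩ := (ofPt_eq_ofPt_iff_of_isPullback sqP x t).1 hxt
      refine ⟨⟨⟩, ⟨r, by change p.left r ∈ Set.range j; rw [hr₁]; exact hx⟩, ?_⟩
      exact (Scheme.Hom.comp_apply _ _ _).trans hr₂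
    · have h1 : (yon S).map (o ≫ q) ≫ l = (yon S).map (c ≫ i ≫ m) ≫ e := by
        rw [Functor.map_comp, Category.assoc, ← sqP.w, ← Functor.map_comp_assoc, ← hc,
          Functor.map_comp, Category.assoc, hiπ, ← Functor.map_comp_assoc]
      rw [h1, ← Functor.map_comp_assoc]
      congr 1
      have h2 := congrArg (fun n => n ≫ γ) h1
      simp only [Category.assoc, hl, he, Category.comp_id] at h2
      rw [← Functor.map_comp] at h2
      exact h2.symm
  -- a trivial point has only good lifts
  have hfib : ∀ {T : Over S} (g : T ⟶ U) (t : ↥T.left) (x : ↥W.left), Triv γ e g →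
      m.left x = g.left t → x ∈ Set.range j := by
    intro T g t x hg hx
    let K : Type u := T.left.residueField t
    let t₀ : Spec (T.left.residueField t) ⟶ T.left := T.left.fromSpecResidueField t
    let TK : Over S := Over.mk (t₀ ≫ T.hom)
    let kK : TK ⟶ T := Over.homMk t₀
    have hgK := hg.comp kK
    obtain ⟨ψ, hψ⟩ := Spec.map_surjective ((kK ≫ g).left ≫ U.left.isoSpec.hom)
    let _ : Algebra R K := ψ.hom.toAlgebra
    let B' : Type u := K ⊗[R] B
    have hpb₀ : IsPullback (Spec.map (CommRingCat.ofHom (Algebra.TensorProduct.includeRight.toRingHom :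
        B →+* B'))) (Spec.map (CommRingCat.ofHom (algebraMap K B')))
        (Spec.map (CommRingCat.ofHom (algebraMap R B))) (Spec.map (CommRingCat.ofHom (algebraMap R K))) :=
      (isPullback_SpecMap_of_isPushout _ _ _ _
        (CommRingCat.isPushout_tensorProduct R K B).flip)
    have hRK : Spec.map (CommRingCat.ofHom (algebraMap R K)) = (kK ≫ g).left ≫ U.left.isoSpec.hom := hψ
    rw [hRB, hRK] at hpb₀
    have hpb : IsPullback (Spec.map (CommRingCat.ofHom (Algebra.TensorProduct.includeRight.toRingHom :
        B →+* B'))) (Spec.map (CommRingCat.ofHom (algebraMap K B'))) m.left (kK ≫ g).left :=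
      hpb₀.of_iso (Iso.refl _) (Iso.refl _) (Iso.refl _) U.left.isoSpec.symm (by simp) (by simp)
        (by simp) (by simp)
    let P : Over S := Over.mk (Spec.map (CommRingCat.ofHom (algebraMap K B')) ≫ TK.hom)
    let q : P ⟶ TK := Over.homMk (Spec.map (CommRingCat.ofHom (algebraMap K B')))
    let p : P ⟶ W := Over.homMk (Spec.map (CommRingCat.ofHom (Algebra.TensorProduct.includeRight.toRingHom :
        B →+* B'))) (by
      rw [← Over.w m, ← Category.assoc, hpb.w, Category.assoc, Over.w]; rfl)
    have hpq : p ≫ m = q ≫ kK ≫ g := by ext1; exact hpb.w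
    have hl := hgK q ((yon S).map p ≫ π) (by
      rw [Category.assoc, ← hm, ← Functor.map_comp, hpq])
    obtain ⟨c, hc⟩ := huniv p (by rw [hl, hpq])
    have : Mono i.left := inferInstance
    have sqc : IsPullback c.left (Spec.map (CommRingCat.ofHom (algebraMap K B'))) (i ≫ m).left
        (kK ≫ g).left :=
      isPullback_of_factor hpb i.left c.left (congrArg (fun n : P ⟶ W => n.left) hc)
    have hqe : Etale (Spec.map (CommRingCat.ofHom (algebraMap K B'))) :=
      MorphismProperty.of_isPullback sqc hze
    have hu : Algebra.FormallyUnramified K B' := by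
      have h : FormallyUnramified (Spec.map (CommRingCat.ofHom (algebraMap K B'))) := inferInstance
      rw [HasRingHomProperty.Spec_iff (P := @FormallyUnramified)] at h
      exact RingHom.formallyUnramified_algebraMap.1 h
    obtain ⟨pb, hpb₁, -⟩ := Scheme.Pullback.exists_preimage_pullback x
      (IsLocalRing.closedPoint K : ↥TK.left) (f := m.left) (g := (kK ≫ g).left) (by
        rw [hx, Over.comp_left, Scheme.Hom.comp_apply]
        exact congrArg g.left (Scheme.fromSpecResidueField_apply t _).symm)
    let x' : ↥P.left := hpb.isoPullback.inv pb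
    have hx' : p.left x' = x := by
      rw [← hpb₁, ← hpb.isoPullback_inv_fst, Scheme.Hom.comp_apply]
      rfl
    rw [hjr]
    refine ⟨⟨c.left x', ?_⟩, ?_⟩
    · rw [← hx', ← hc, Over.comp_left, Scheme.Hom.comp_apply]
    · change x ∈ Algebra.unramifiedLocus R B
      rw [Algebra.unramifiedLocus_eq_compl_support, Set.mem_compl_iff, ← hx']
      let _ : Algebra B B' := Algebra.TensorProduct.rightAlgebra
      have hs : Subsingleton (B' ⊗[B] Ω[B⁄R]) := by
        have := (Algebra.formallyUnramified_iff K B').1 hu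
        exact (KaehlerDifferential.tensorKaehlerEquiv R K B B').toEquiv.subsingleton
      intro hmem
      have : x' ∈ Module.support B' (B' ⊗[B] Ω[B⁄R]) := by
        rw [H22.SupportBC.support_baseChange]
        exact hmem
      rw [Module.support_eq_empty_iff.2 hs] at this
      exact this
  -- the complement of the open set
  have hC : (V : Set ↥U.left)ᶜ = m.left '' (Set.range j)ᶜ := by
    ext y
    constructor
    · intro hy
      obtain ⟨d, hd', hdy⟩ := not_not.1 hy
      obtain ⟨x, rfl⟩ := hπs d
      refine ⟨x, fun hx => hd' ⟨x, hx, rfl⟩, ?_⟩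
      rw [hγpt π m x hm.symm] at hdy
      exact (Points.schemeHomeo U).injective hdy
    · rintro ⟨x, hx, rfl⟩ hy
      let TK : Over S := Over.mk (U.left.fromSpecResidueField (m.left x) ≫ U.hom)
      let g : TK ⟶ U := Over.homMk (U.left.fromSpecResidueField (m.left x))
      refine hx (hfib g (IsLocalRing.closedPoint _) x (hto g ?_)
        (Scheme.fromSpecResidueField_apply _ _).symm)
      change Set.range (U.left.fromSpecResidueField _) ⊆ _
      rw [Scheme.range_fromSpecResidueField]
      exact Set.singleton_subset_iff.2 hy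
  refine ⟨V, ?_, fun {T} g => ⟨fun hg => ?_, hto g⟩⟩
  · have h1 : Topology.IsConstructible (Set.range i.left) := by
      have : LocallyOfFinitePresentation i.left := by
        have : LocallyOfFinitePresentation (i.left ≫ m.left) := by rw [← Over.comp_left]; infer_instance
        exact Lib.AlgSpMor.Cancel.locallyOfFinitePresentation_of_comp (g := m.left) this inferInstance
      have : CompactSpace ↥W.left := inferInstanceAs (CompactSpace ↥(Spec B))
      have : QuasiSeparatedSpace ↥W.left := inferInstanceAs (QuasiSeparatedSpace (PrimeSpectrum B))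
      rw [← Set.image_univ]
      exact i.left.isConstructible_image .univ
    have h2 : Topology.IsConstructible (N : Set ↥W.left) := by
      have : QuasiSeparatedSpace ↥W.left := inferInstanceAs (QuasiSeparatedSpace (PrimeSpectrum B))
      have : Module.FinitePresentation B Ω[B⁄R] := inferInstance
      refine IsCompact.isConstructible ?_ N.isOpen
      change IsCompact (Algebra.unramifiedLocus R B)
      rw [Algebra.unramifiedLocus_eq_compl_support]
      exact H22.SupportBC.isCompact_compl_support _
    have h3 : Topology.IsConstructible ((V : Set ↥U.left)) := by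
      have : CompactSpace ↥W.left := inferInstanceAs (CompactSpace ↥(Spec B))
      have : QuasiCompact m.left := inferInstance
      rw [← Topology.isConstructible_compl, hC, hjr]
      exact m.left.isConstructible_image (Topology.isConstructible_compl.2 (h1.inter h2))
    have h4 : Topology.IsConstructible ((U.left.isoSpec.inv) ⁻¹' (V : Set ↥U.left)) :=
      U.left.isoSpec.inv.isConstructible_preimage h3
    have h5 := (isCompact_of_isConstructible h4).image U.left.isoSpec.inv.continuous
    rwa [Set.image_preimage_eq _ U.left.isoSpec.inv.surjective] at h5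
  · rintro _ ⟨t, rfl⟩
    by_contra hb
    have : g.left t ∈ m.left '' (Set.range j)ᶜ := hC ▸ hb
    obtain ⟨x, hx, hxt⟩ := this
    exact hx (hfib g t x hg hxt)

end Groth.Agent.H14.IsoNat.TrivLocus
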