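import Groth.Agent.H14.IsoNat.Pushout
import Groth.Agent.H14.IsoNat.Detect
import Groth.Agent.H14.IsoNat.CrossMap

/-!
Objects on the doubled cross twisted by an automorphism.
-/

set_option autoImplicit false
set_option backward.isDefEq.respectTransparency false
set_option backward.isDefEq.respectTransparency.types false
set_option maxHeartbeats 800000

universe u

open CategoryTheory CategoryTheory.Limits AlgebraicGeometry Groth.Agent.Lib.Fibred.Descent

namespace Groth.Agent.H14.IsoNat.Twists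

open Groth.Agent.Lib.Fibred.StackLemmas (isIso_of_vertical)
open FibCat (IsFibGrpd toSelf inertiaToBase)
open AlgSt (RepByAlgSpWith IsAlgStack)
open Cross (U T L P π πL zero j l₁ l₂ sub subι O₁ O₂)

variable {S : Scheme.{u}} {𝒳 : AlgSt.Cat S} (R : Type u) [CommRing R]
  (str : Spec (CommRingCat.of R) ⟶ S)

/-! ### Retractions of the cross to a line -/

/-- A polynomial on the first line, constant on the second. -/
noncomputable def retrHom₁ : Polynomial R →+* Cross.ring R :=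
  RingHom.codRestrict ((RingHom.id _).prod (Polynomial.C.comp (Polynomial.evalRingHom 0))) (Cross.ring R)
    fun p => by
      show p.eval 0 = (Polynomial.C (p.eval 0)).eval 0
      simp

/-- A polynomial on the second line, constant on the first. -/
noncomputable def retrHom₂ : Polynomial R →+* Cross.ring R :=
  RingHom.codRestrict ((Polynomial.C.comp (Polynomial.evalRingHom 0)).prod (RingHom.id _)) (Cross.ring R)
    fun p => by
      show (Polynomial.C (p.eval 0)).eval 0 = p.eval 0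
      simp

/-- The retraction to the first line. -/
noncomputable def r₁ : U R str ⟶ L R str :=
  Over.homMk (Spec.map (CommRingCat.ofHom (retrHom₁ R))) (by
    change Spec.map _ ≫ Spec.map _ ≫ str = Spec.map _ ≫ str
    rw [← Category.assoc, ← Spec.map_comp, ← CommRingCat.ofHom_comp]
    refine congrArg (fun f => Spec.map (CommRingCat.ofHom f) ≫ str) (RingHom.ext fun a => ?_)
    apply Subtype.ext
    refine Prod.ext ?_ ?_ <;> simp [retrHom₁, Cross.const])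

/-- The retraction to the second line. -/
noncomputable def r₂ : U R str ⟶ L R str :=
  Over.homMk (Spec.map (CommRingCat.ofHom (retrHom₂ R))) (by
    change Spec.map _ ≫ Spec.map _ ≫ str = Spec.map _ ≫ str
    rw [← Category.assoc, ← Spec.map_comp, ← CommRingCat.ofHom_comp]
    refine congrArg (fun f => Spec.map (CommRingCat.ofHom f) ≫ str) (RingHom.ext fun a => ?_)
    apply Subtype.ext
    refine Prod.ext ?_ ?_ <;> simp [retrHom₂, Cross.const])

/-- A line of the cross with its retraction and the punctured line it contains. -/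
structure Line : Type u where
  l : L R str ⟶ U R str
  r : U R str ⟶ L R str
  O : (U R str).left.Opens
  e : P R str ⟶ sub R str O
  iso_e : IsIso e
  e_fac : e ≫ subι R str O = j R str ≫ l
  l_π : l ≫ π R str = πL R str
  l_r : l ≫ r = 𝟙 _
  r_π : r ≫ πL R str = π R str
  zero_l : zero R str ≫ l = zero R str ≫ l₁ R str

/-- The first line. -/
noncomputable def line₁ : Line R str where
  l := l₁ R str
  r := r₁ R str
  O := O₁ R str
  e := (Cross.exists_isIso₁ R str).choose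
  iso_e := (Cross.exists_isIso₁ R str).choose_spec.1
  e_fac := (Cross.exists_isIso₁ R str).choose_spec.2
  l_π := Cross.l₁_π R str
  l_r := by
    ext1
    change Spec.map _ ≫ Spec.map _ = 𝟙 _
    rw [← Spec.map_comp, ← CommRingCat.ofHom_comp]
    exact (congrArg (fun f => Spec.map (CommRingCat.ofHom f))
      (RingHom.ext fun p => rfl : (Cross.fstHom R).comp (retrHom₁ R) = RingHom.id _)).trans (Spec.map_id _)
  r_π := by
    ext1
    change Spec.map _ ≫ Spec.map _ = Spec.map _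
    rw [← Spec.map_comp, ← CommRingCat.ofHom_comp]
    refine congrArg (fun f => Spec.map (CommRingCat.ofHom f)) (RingHom.ext fun a => Subtype.ext ?_)
    refine Prod.ext ?_ ?_ <;> simp [retrHom₁, Cross.const]
  zero_l := rfl

/-- The second line. -/
noncomputable def line₂ : Line R str where
  l := l₂ R str
  r := r₂ R str
  O := O₂ R str
  e := (Cross.exists_isIso₂ R str).choose
  iso_e := (Cross.exists_isIso₂ R str).choose_spec.1
  e_fac := (Cross.exists_isIso₂ R str).choose_spec.2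
  l_π := Cross.l₂_π R str
  l_r := by
    ext1
    change Spec.map _ ≫ Spec.map _ = 𝟙 _
    rw [← Spec.map_comp, ← CommRingCat.ofHom_comp]
    exact (congrArg (fun f => Spec.map (CommRingCat.ofHom f))
      (RingHom.ext fun p => rfl : (Cross.sndHom R).comp (retrHom₂ R) = RingHom.id _)).trans (Spec.map_id _)
  r_π := by
    ext1
    change Spec.map _ ≫ Spec.map _ = Spec.map _
    rw [← Spec.map_comp, ← CommRingCat.ofHom_comp]
    refine congrArg (fun f => Spec.map (CommRingCat.ofHom f)) (RingHom.ext fun a => Subtype.ext ?_)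
    refine Prod.ext ?_ ?_ <;> simp [retrHom₂, Cross.const]
  zero_l := Cross.zero_l₂ R str

theorem l₂_r₁ : l₂ R str ≫ r₁ R str = πL R str ≫ zero R str := by
  ext1
  change Spec.map _ ≫ Spec.map _ = Spec.map _ ≫ Spec.map _
  rw [← Spec.map_comp, ← Spec.map_comp, ← CommRingCat.ofHom_comp, ← CommRingCat.ofHom_comp]
  refine congrArg (fun f => Spec.map (CommRingCat.ofHom f)) (RingHom.ext fun a => ?_)
  simp [retrHom₁, Cross.sndHom]

/-- The common open subscheme of the two copies. -/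
noncomputable abbrev DO : Over S := sub R str (O₁ R str ⊔ O₂ R str)

/-- The inclusion of the common open subscheme. -/
noncomputable abbrev pD : DO R str ⟶ U R str := subι R str (O₁ R str ⊔ O₂ R str)

variable {R str}

/-- On the punctured line, `fb` is `fa` twisted by `m`. -/
def Rel (ℓ : Line R str) {ξu ζ : 𝒳.obj} (m : ξu ⟶ ξu) (fa fb : ξu ⟶ ζ) : Prop :=
  ∀ ⦃z : 𝒳.obj⦄ (w : z ⟶ ξu), 𝒳.p.IsHomLift (j R str ≫ ℓ.l) w → w ≫ fb = w ≫ m ≫ fa

theorem Rel.congr {ℓ : Line R str} {ξu ζ : 𝒳.obj} {m m' : ξu ⟶ ξu} {fa fb : ξu ⟶ ζ}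
    (h : Rel ℓ m fa fb)
    (e : ∀ ⦃z : 𝒳.obj⦄ (w : z ⟶ ξu), 𝒳.p.IsHomLift (j R str ≫ ℓ.l) w → w ≫ m = w ≫ m') :
    Rel ℓ m' fa fb := fun z w hw => by rw [h w hw, ← Category.assoc, e w hw, Category.assoc]

variable {η ξu : 𝒳.obj} (A : ξu ⟶ η) [hA : 𝒳.p.IsHomLift (π R str) A]
include hA

theorem exists_lift_one (h : IsFibGrpd 𝒳.p) (ℓ : Line R str) :
    ∃ (ξL : 𝒳.obj) (uL : ξL ⟶ ξu) (Rm : ξu ⟶ ξL), 𝒳.p.IsHomLift ℓ.l uL ∧ 𝒳.p.IsHomLift ℓ.r Rm ∧
      uL ≫ Rm = 𝟙 ξL ∧ Rm ≫ uL ≫ A = A ∧ 𝒳.p.IsHomLift (πL R str) (uL ≫ A) := by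
  have hξu : 𝒳.p.obj ξu = U R str := IsHomLift.domain_eq 𝒳.p (π R str) A
  obtain ⟨ξL, uL, huL⟩ := exists_lift h hξu ℓ.l
  have huA : 𝒳.p.IsHomLift (πL R str) (uL ≫ A) := by rw [← ℓ.l_π]; infer_instance
  have hA' : 𝒳.p.IsHomLift (ℓ.r ≫ πL R str) A := by rw [ℓ.r_π]; exact hA
  have := cart h (uL ≫ A) huA
  let Rm := Functor.IsStronglyCartesian.map 𝒳.p (πL R str) (uL ≫ A) (g := ℓ.r) rfl A
  have hRm : 𝒳.p.IsHomLift ℓ.r Rm := Functor.IsStronglyCartesian.map_isHomLift _ _ _ _ _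
  have eRm : Rm ≫ uL ≫ A = A := Functor.IsStronglyCartesian.fac _ _ _ _ _
  refine ⟨ξL, uL, Rm, huL, hRm, ?_, eRm, huA⟩
  have hξL : 𝒳.p.obj ξL = L R str := IsHomLift.domain_eq 𝒳.p ℓ.l uL
  refine ext_lift h (uL ≫ A) huA (g := 𝟙 (L R str))
    (by rw [← ℓ.l_r]; infer_instance) (IsHomLift.id hξL) ?_
  rw [Category.assoc, eRm, Category.id_comp]

/-- A section over the origin. -/
theorem exists_origin (h : IsFibGrpd 𝒳.p) :
    ∃ o : η ⟶ ξu, 𝒳.p.IsHomLift (zero R str ≫ l₁ R str) o ∧ o ≫ A = 𝟙 η := by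
  have hη : 𝒳.p.obj η = T R str := IsHomLift.codomain_eq 𝒳.p (π R str) A
  have hz : (zero R str ≫ l₁ R str) ≫ π R str = 𝟙 _ := by
    rw [Category.assoc, Cross.l₁_π, Cross.zero_πL]
  have h1 : 𝒳.p.IsHomLift ((zero R str ≫ l₁ R str) ≫ π R str) (𝟙 η) := by
    rw [hz]; exact IsHomLift.id hη
  have := cart h A hA
  exact ⟨Functor.IsStronglyCartesian.map 𝒳.p (π R str) A (g := zero R str ≫ l₁ R str) rfl (𝟙 η),
    Functor.IsStronglyCartesian.map_isHomLift _ _ _ _ _, Functor.IsStronglyCartesian.fac _ _ _ _ _⟩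

/-- An endomorphism of the pullback induces its value at the origin. -/
theorem origin_comp (h : IsFibGrpd 𝒳.p) {o : η ⟶ ξu} (ho : 𝒳.p.IsHomLift (zero R str ≫ l₁ R str) o)
    (eo : o ≫ A = 𝟙 η) (m : ξu ⟶ ξu) (hm : 𝒳.p.IsHomLift (𝟙 (U R str)) m) :
    𝒳.p.IsHomLift (𝟙 (T R str)) (o ≫ m ≫ A) ∧ o ≫ m = (o ≫ m ≫ A) ≫ o := by
  have hz : (zero R str ≫ l₁ R str) ≫ π R str = 𝟙 _ := by
    rw [Category.assoc, Cross.l₁_π, Cross.zero_πL]
  have h1 : 𝒳.p.IsHomLift (𝟙 (T R str)) (o ≫ m ≫ A) := by rw [← hz]; infer_instance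
  refine ⟨h1, ext_lift h A hA (g := zero R str ≫ l₁ R str) inferInstance
    (IsHomLift.comp_lift_id_left' 𝒳.p (T R str) (o ≫ m ≫ A) _ o) ?_⟩
  rw [Category.assoc, Category.assoc _ o, eo, Category.comp_id]

/-- Endomorphisms agreeing on a punctured line agree at the origin. -/
theorem eq_at_origin (h : IsFibGrpd 𝒳.p)
    (hi : RepByAlgSpWith AlgSp.IsSeparatedMor (inertiaToBase (toSelf 𝒳))) (ℓ : Line R str)
    {o : η ⟶ ξu} (ho : 𝒳.p.IsHomLift (zero R str ≫ l₁ R str) o)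
    (a b : ξu ⟶ ξu) (ha : 𝒳.p.IsHomLift (𝟙 (U R str)) a) (hb : 𝒳.p.IsHomLift (𝟙 (U R str)) b)
    (e : ∀ ⦃z : 𝒳.obj⦄ (w : z ⟶ ξu), 𝒳.p.IsHomLift (j R str ≫ ℓ.l) w → w ≫ a = w ≫ b) :
    o ≫ a = o ≫ b := by
  obtain ⟨ξL, uL, -, huL, -, -, -, huA⟩ := exists_lift_one A h ℓ
  have hξL : 𝒳.p.obj ξL = L R str := IsHomLift.domain_eq 𝒳.p ℓ.l uL
  obtain ⟨a', ha', ea'⟩ := Detect.exists_pull_aut h uL huL a ha
  obtain ⟨b', hb', eb'⟩ := Detect.exists_pull_aut h uL huL b hb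
  obtain ⟨ξP, v, hv⟩ := exists_lift h hξL (j R str)
  have hab : a' = b' := by
    refine AutExt.vert_ext h hi R str hξL a' b' ha' hb' v hv ?_
    refine ext_lift h uL huL (g := j R str) inferInstance inferInstance ?_
    have := e (v ≫ uL) inferInstance
    simp only [Category.assoc] at this ⊢
    rw [ea', eb', this]
  have hol : 𝒳.p.IsHomLift (zero R str ≫ ℓ.l) o := by rw [ℓ.zero_l]; exact ho
  have := cart h uL huL
  let z := Functor.IsStronglyCartesian.map 𝒳.p ℓ.l uL (g := zero R str) rfl o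
  have ez : z ≫ uL = o := Functor.IsStronglyCartesian.fac _ _ _ _ _
  rw [← ez, Category.assoc, Category.assoc, ← ea', ← eb', hab]

/-- An endomorphism of a line spread to the cross along the retraction. -/
theorem exists_spread (h : IsFibGrpd 𝒳.p) (ℓ : Line R str) {ξL : 𝒳.obj} {uL : ξL ⟶ ξu} {Rm : ξu ⟶ ξL}
    (huL : 𝒳.p.IsHomLift ℓ.l uL) (hRm : 𝒳.p.IsHomLift ℓ.r Rm) (eu : uL ≫ Rm = 𝟙 ξL)
    (huA : 𝒳.p.IsHomLift (πL R str) (uL ≫ A))
    (κ : ξL ⟶ ξL) (hκ : 𝒳.p.IsHomLift (𝟙 (L R str)) κ) :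
    ∃ m : ξu ⟶ ξu, 𝒳.p.IsHomLift (𝟙 (U R str)) m ∧ uL ≫ m = κ ≫ uL ∧
      m ≫ A = Rm ≫ κ ≫ uL ≫ A := by
  have h1 : 𝒳.p.IsHomLift (π R str) (Rm ≫ κ ≫ uL ≫ A) := by rw [← ℓ.r_π]; infer_instance
  obtain ⟨m, hm, em⟩ := exists_factor h A hA (Rm ≫ κ ≫ uL ≫ A) h1
  refine ⟨m, hm, ext_lift h A hA (g := ℓ.l) inferInstance inferInstance ?_, em⟩
  rw [Category.assoc, em, reassoc_of% eu, Category.assoc]

/-- On the second line a spread endomorphism of the first is constant. -/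
theorem spread_const (h : IsFibGrpd 𝒳.p) {o : η ⟶ ξu}
    (ho : 𝒳.p.IsHomLift (zero R str ≫ l₁ R str) o) (eo : o ≫ A = 𝟙 η) {ξL : 𝒳.obj} {uL : ξL ⟶ ξu}
    {Rm : ξu ⟶ ξL} (huL : 𝒳.p.IsHomLift (line₁ R str).l uL) (hRm : 𝒳.p.IsHomLift (line₁ R str).r Rm)
    (eA : Rm ≫ uL ≫ A = A) (κ : ξL ⟶ ξL) (m cU : ξu ⟶ ξu) (hκ : 𝒳.p.IsHomLift (𝟙 (L R str)) κ)
    (hm : 𝒳.p.IsHomLift (𝟙 (U R str)) m) (em : m ≫ A = Rm ≫ κ ≫ uL ≫ A) (eκ : uL ≫ m = κ ≫ uL)
    (hcU : 𝒳.p.IsHomLift (𝟙 (U R str)) cU) (ecU : cU ≫ A = A ≫ o ≫ m ≫ A)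
    ⦃z : 𝒳.obj⦄ (w : z ⟶ ξu) (hw : 𝒳.p.IsHomLift (j R str ≫ (line₂ R str).l) w) :
    w ≫ m = w ≫ cU := by
  refine ext_lift h A hA (g := j R str ≫ (line₂ R str).l) inferInstance inferInstance ?_
  rw [Category.assoc, Category.assoc, em, ecU]
  have hol : 𝒳.p.IsHomLift (zero R str ≫ (line₁ R str).l) o := ho
  have := cart h uL huL
  let z0 := Functor.IsStronglyCartesian.map 𝒳.p (line₁ R str).l uL (g := zero R str) rfl o
  have hz0 : 𝒳.p.IsHomLift (zero R str) z0 := Functor.IsStronglyCartesian.map_isHomLift _ _ _ _ _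
  have ez : z0 ≫ uL = o := Functor.IsStronglyCartesian.fac _ _ _ _ _
  have huA : 𝒳.p.IsHomLift (πL R str) (uL ≫ A) := by rw [← (line₁ R str).l_π]; infer_instance
  have hb : (j R str ≫ (line₂ R str).l) ≫ (line₁ R str).r =
      ((j R str ≫ (line₂ R str).l) ≫ π R str) ≫ zero R str := by
    change (j R str ≫ l₂ R str) ≫ r₁ R str = ((j R str ≫ l₂ R str) ≫ π R str) ≫ zero R str
    rw [Category.assoc, l₂_r₁, Category.assoc (j R str), Cross.l₂_π, Category.assoc]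
  have key : w ≫ Rm = (w ≫ A) ≫ z0 := by
    have l1 : 𝒳.p.IsHomLift ((j R str ≫ (line₂ R str).l) ≫ (line₁ R str).r) (w ≫ Rm) := inferInstance
    have l2 : 𝒳.p.IsHomLift ((j R str ≫ (line₂ R str).l) ≫ (line₁ R str).r) ((w ≫ A) ≫ z0) := by
      rw [hb]; infer_instance
    refine ext_lift h (uL ≫ A) huA l1 l2 ?_
    rw [Category.assoc, eA, Category.assoc, Category.assoc, reassoc_of% ez, eo, Category.comp_id]
  rw [reassoc_of% key, ← reassoc_of% eκ, reassoc_of% ez]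

omit hA

/-- Morphisms out of the common open subscheme are determined on the two punctured lines. -/
theorem ext_D (h : IsAlgStack Scheme.fppfPrecoverage 𝒳) {ξd : 𝒳.obj}
    (pd : ξd ⟶ ξu) (hpd : 𝒳.p.IsHomLift (pD R str) pd) {ζ : 𝒳.obj} {X : Over S} {f : DO R str ⟶ X}
    (a b : ξd ⟶ ζ) (ha : 𝒳.p.IsHomLift f a) (hb : 𝒳.p.IsHomLift f b)
    (e : ∀ ℓ : Line R str, ℓ = line₁ R str ∨ ℓ = line₂ R str → ∀ ⦃z : 𝒳.obj⦄ (w : z ⟶ ξd) (e' : P R str ⟶ DO R str),
      e' ≫ pD R str = j R str ≫ ℓ.l → 𝒳.p.IsHomLift e' w → w ≫ a = w ≫ b) : a = b := by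
  have hG := h.isStack.1
  have hξd : 𝒳.p.obj ξd = DO R str := IsHomLift.domain_eq 𝒳.p (pD R str) pd
  let cD : Glue2.Cov (DO R str) := Double.union (O₁ R str) (O₂ R str)
  obtain ⟨ν, hν, eν⟩ := exists_factor hG a ha b hb
  have hν1 : ν = 𝟙 ξd := by
    refine (Detect.stackFor h (Double.union_covers _ _)).1 ν (𝟙 ξd) hν (IsHomLift.id hξd)
      fun V g hg z ρ hρ => ?_
    refine ext_lift hG a ha (g := g) inferInstance inferInstance ?_
    simp only [Category.assoc, Category.id_comp]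
    rw [eν]
    rcases hg with ⟨k, rfl⟩ | ⟨k, rfl⟩
    · obtain ⟨z₁, q, hq⟩ := exists_lift hG hξd cD.ia
      have := cart hG q hq
      let θ := Functor.IsStronglyCartesian.map 𝒳.p cD.ia q (g := k) rfl ρ
      have eθ : θ ≫ q = ρ := Functor.IsStronglyCartesian.fac _ _ _ _ _
      have := (line₁ R str).iso_e
      obtain ⟨z', w, hw⟩ := exists_lift hG (IsHomLift.domain_eq 𝒳.p cD.ia q) (line₁ R str).e
      have := cart hG w hw
      have : IsIso w := Functor.IsStronglyCartesian.isIso_of_base_isIso 𝒳.p (line₁ R str).e w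
      have hfac : ((line₁ R str).e ≫ cD.ia) ≫ pD R str = j R str ≫ (line₁ R str).l := by
        rw [← (line₁ R str).e_fac, Category.assoc]
        congr 1
        ext1; exact Scheme.homOfLE_ι _ le_sup_left
      have e2 := e _ (Or.inl rfl) (w ≫ q) _ hfac inferInstance
      simp only [Category.assoc, cancel_epi w] at e2
      rw [← eθ, Category.assoc, Category.assoc, e2]
    · obtain ⟨z₁, q, hq⟩ := exists_lift hG hξd cD.ib
      have := cart hG q hq
      let θ := Functor.IsStronglyCartesian.map 𝒳.p cD.ib q (g := k) rfl ρ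
      have eθ : θ ≫ q = ρ := Functor.IsStronglyCartesian.fac _ _ _ _ _
      have := (line₂ R str).iso_e
      obtain ⟨z', w, hw⟩ := exists_lift hG (IsHomLift.domain_eq 𝒳.p cD.ib q) (line₂ R str).e
      have := cart hG w hw
      have : IsIso w := Functor.IsStronglyCartesian.isIso_of_base_isIso 𝒳.p (line₂ R str).e w
      have hfac : ((line₂ R str).e ≫ cD.ib) ≫ pD R str = j R str ≫ (line₂ R str).l := by
        rw [← (line₂ R str).e_fac, Category.assoc]
        congr 1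
        ext1; exact Scheme.homOfLE_ι _ le_sup_right
      have e2 := e _ (Or.inr rfl) (w ≫ q) _ hfac inferInstance
      simp only [Category.assoc, cancel_epi w] at e2
      rw [← eθ, Category.assoc, Category.assoc, e2]
  rw [← eν, hν1, Category.id_comp]

/-- Morphisms out of two objects glued with the same line data. -/
theorem exists_desc_of_rel (h : IsAlgStack Scheme.fppfPrecoverage 𝒳) (hξu : 𝒳.p.obj ξu = U R str)
    (G : Glued₂ (pD R str) (pD R str)) {ζ ζ' : 𝒳.obj} (hζ : 𝒳.p.obj ζ = G.pt)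
    (hζ' : 𝒳.p.obj ζ' = G.pt) (φa φb : ξu ⟶ ζ) (ψa ψb : ξu ⟶ ζ')
    (hφa : 𝒳.p.IsHomLift G.ja φa) (hφb : 𝒳.p.IsHomLift G.jb φb) (hψa : 𝒳.p.IsHomLift G.ja ψa)
    (hψb : 𝒳.p.IsHomLift G.jb ψb) (m₁ m₂ : ξu ⟶ ξu) (hm₁ : 𝒳.p.IsHomLift (𝟙 (U R str)) m₁)
    (hm₂ : 𝒳.p.IsHomLift (𝟙 (U R str)) m₂) (h₁ : Rel (line₁ R str) m₁ φa φb)
    (h₂ : Rel (line₂ R str) m₂ φa φb) (h₁' : Rel (line₁ R str) m₁ ψa ψb)
    (h₂' : Rel (line₂ R str) m₂ ψa ψb) :
    ∃ t : ζ ⟶ ζ', 𝒳.p.IsHomLift (𝟙 G.pt) t ∧ φa ≫ t = ψa ∧ φb ≫ t = ψb := by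
  have hG := h.isStack.1
  obtain ⟨ξd, pd, hpd⟩ := exists_lift hG hξu (pD R str)
  have hlb : 𝒳.p.IsHomLift (pD R str ≫ G.ja) (pd ≫ φb) := by rw [G.isPB.w]; infer_instance
  have hlb' : 𝒳.p.IsHomLift (pD R str ≫ G.ja) (pd ≫ ψb) := by rw [G.isPB.w]; infer_instance
  obtain ⟨σ, hσ, eσ⟩ := exists_factor (f := pD R str ≫ G.ja) hG (pd ≫ φa) inferInstance (pd ≫ φb) hlb
  have hσd : 𝒳.p.IsHomLift (pD R str) (σ ≫ pd) := inferInstance
  refine Glue2.exists_desc (c := G.cov) (pa := σ ≫ pd) (pb := pd) hG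
    (Detect.stackFor h G.cov_mem).2.1 hζ hζ' hσd φa φb hφa hφb (by rw [Category.assoc]; exact eσ)
    ψa ψb hψa hψb (ext_D h pd hpd (f := pD R str ≫ G.ja) _ _ inferInstance hlb'
      fun ℓ hℓ z w e' he' hw => ?_) hpd
  have hwp : 𝒳.p.IsHomLift (j R str ≫ ℓ.l) (w ≫ pd) := by rw [← he']; infer_instance
  obtain ⟨m, hm, hr, hr'⟩ : ∃ m : ξu ⟶ ξu, 𝒳.p.IsHomLift (𝟙 (U R str)) m ∧
      Rel ℓ m φa φb ∧ Rel ℓ m ψa ψb := by
    rcases hℓ with rfl | rfl
    · exact ⟨m₁, hm₁, h₁, h₁'⟩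
    · exact ⟨m₂, hm₂, h₂, h₂'⟩
  have e1 : w ≫ σ ≫ pd = w ≫ pd ≫ m := by
    refine ext_lift hG φa hφa (g := j R str ≫ ℓ.l) (by rw [← he']; infer_instance)
      (by rw [← he']; infer_instance) ?_
    have h3 := hr (w ≫ pd) hwp
    simp only [Category.assoc] at h3 ⊢
    rw [eσ, h3]
  have h4 := hr' (w ≫ pd) hwp
  simp only [Category.assoc] at h4 ⊢
  rw [reassoc_of% e1, h4]

end Groth.Agent.H14.IsoNat.Twists
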