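import Groth.Agent.H14.IsoNat.Unram
import Groth.Agent.H14.IsoNat.Lifts
import Mathlib.RingTheory.Nilpotent.Basic
import Mathlib.RingTheory.Spectrum.Prime.RingHom

/-!
On an unramified chart automorphisms are determined by a fibre.
-/

set_option autoImplicit false
set_option backward.isDefEq.respectTransparency false
set_option backward.isDefEq.respectTransparency.types false
set_option maxHeartbeats 400000

universe u

open CategoryTheory CategoryTheory.Limits AlgebraicGeometry Polynomial Groth.Agent.Lib.Fibred.Descent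

namespace Groth.Agent.H14.IsoNat.Unram

open FibCat (IsFibGrpd overCat toSelf inertiaToBase)
open AlgSt (RepByAlgSpWith)
open AlgSp (LocP)

/-- Evaluation at one. -/
noncomputable def oneHom (R : Type u) [CommRing R] : Localization.Away (X : R[X]) →+* R :=
  IsLocalization.Away.lift (X : R[X]) (g := evalRingHom (1 : R)) (by simp)

theorem eq_one_of_idem (R : Type u) [CommRing R] (e : Localization.Away (X : R[X])) (he : e * e = e)
    (h1 : oneHom R e = 1) : e = 1 := by
  obtain ⟨n, f, hf⟩ := IsLocalization.Away.surj (X : R[X]) e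
  have hu : IsUnit (algebraMap R[X] (Localization.Away (X : R[X])) (X ^ n)) := by
    rw [map_pow]; exact (IsLocalization.Away.algebraMap_isUnit (X : R[X])).pow n
  have hinj : Function.Injective (algebraMap R[X] (Localization.Away (X : R[X]))) :=
    IsLocalization.injective _ (Submonoid.powers_le.2 (monic_X.mem_nonZeroDivisors))
  have h2 : f * f = f * X ^ n := hinj (by
    simp only [map_mul, map_pow, ← hf]; linear_combination (algebraMap _ _ (X : R[X]) ^ n) ^ 2 * he)
  have h3 : f.eval 1 = 1 := by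
    have := congrArg (oneHom R) hf
    simp only [oneHom, map_mul, map_pow, IsLocalization.Away.lift_eq, coe_evalRingHom, eval_X, one_pow,
      mul_one] at h1 this
    exact this.symm.trans h1
  have h4 : IsNilpotent (f - X ^ n) := by
    rw [Polynomial.isNilpotent_iff]
    intro i
    refine nilpotent_iff_mem_prime.2 fun q hq => ?_
    have e : f.map (Ideal.Quotient.mk q) = X ^ n := by
      have h5 := congrArg (Polynomial.map (Ideal.Quotient.mk q)) h2
      simp only [Polynomial.map_mul, Polynomial.map_pow, Polynomial.map_X] at h5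
      refine mul_left_cancel₀ (fun h0 => ?_) h5
      have := congrArg (Polynomial.eval 1) h0
      simp [Polynomial.eval_map, h3] at this
    rw [← Ideal.Quotient.eq_zero_iff_mem, ← Polynomial.coeff_map]
    simp [e]
  obtain ⟨m, hm⟩ := h4
  have h6 : e - 1 = 0 := by
    have h7 : IsNilpotent (e - 1) := by
      refine ⟨m, ?_⟩
      have h9 : (e - 1) * algebraMap R[X] _ (X ^ n) = algebraMap _ _ (f - X ^ n) := by
        rw [sub_mul, one_mul, map_sub, ← hf, map_pow]
      refine (hu.pow m).mul_left_eq_zero.1 ?_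
      rw [← mul_pow, h9, ← map_pow, hm, map_zero]
    have h8 : IsIdempotentElem (1 - e) := IsIdempotentElem.one_sub he
    have : 1 - e = 0 := h8.eq_zero_of_isNilpotent (by rw [← neg_sub]; exact h7.neg)
    rw [← neg_sub, this, neg_zero]
  exact sub_eq_zero.1 h6

variable {S : Scheme.{u}} {𝒳 : AlgSt.Cat S} (R : Type u) [CommRing R] (str : Spec (CommRingCat.of R) ⟶ S)

/-- The section at one of the punctured line. -/
noncomputable def one : Cross.T R str ⟶ Cross.P R str :=
  Over.homMk (Spec.map (CommRingCat.ofHom (oneHom R))) (by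
    change Spec.map (CommRingCat.ofHom (oneHom R)) ≫
      Spec.map (CommRingCat.ofHom (algebraMap R[X] (Localization.Away (X : R[X])))) ≫
      Spec.map (CommRingCat.ofHom (C : R →+* R[X])) ≫ str = str
    rw [← Category.assoc, ← Category.assoc, ← Spec.map_comp, ← Spec.map_comp, ← CommRingCat.ofHom_comp,
      ← CommRingCat.ofHom_comp]
    have e : (oneHom R).comp ((algebraMap R[X] (Localization.Away (X : R[X]))).comp C) = RingHom.id R :=
      RingHom.ext fun a => by simp [oneHom]
    rw [RingHom.comp_assoc, e, CommRingCat.ofHom_id, Spec.map_id, Category.id_comp])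

theorem isIso_of_clopen {Z : Over S} (c : Z ⟶ Cross.P R str) [IsOpenImmersion c.left]
    (hcl : IsClosed (Set.range c.left)) (h1 : Set.range (one R str).left ⊆ Set.range c.left) :
    IsIso c := by
  obtain ⟨e, f, hef, hsum, hr⟩ :=
    PrimeSpectrum.isClopen_iff_mul_add.1 (⟨hcl, c.left.isOpenEmbedding.isOpen_range⟩ :
      IsClopen (Set.range c.left : Set (PrimeSpectrum (Localization.Away (X : R[X])))))
  have he : e * e = e := by linear_combination e * hsum - hef
  have h2 : IsUnit (oneHom R e) := by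
    by_contra hn
    obtain ⟨p, hp, hmem⟩ := exists_max_ideal_of_mem_nonunits hn
    have h3 := h1 ⟨(⟨p, hp.isPrime⟩ : PrimeSpectrum R), rfl⟩
    rw [hr] at h3
    exact h3 hmem
  have h4 : oneHom R e = 1 := h2.mul_right_cancel (by rw [← map_mul, he, one_mul])
  obtain rfl := eq_one_of_idem R e he h4
  have : Surjective c.left := ⟨fun p => by
    have h5 : p ∈ Set.range c.left := by
      rw [hr]
      exact (PrimeSpectrum.basicOpen_one (R := Localization.Away (X : R[X]))).symm ▸ trivial
    exact h5⟩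
  have : IsIso c.left := (isIso_iff_isOpenImmersion_and_surjective _).2 ⟨inferInstance, this⟩
  have : IsIso ((Over.forget S).map c) := this
  exact isIso_of_reflects_iso c (Over.forget S)

theorem eq_of_eqAlong_iso {W : Over S} {ξ : 𝒳.obj} (h : IsFibGrpd 𝒳.p) (hξ : 𝒳.p.obj ξ = W)
    {a b : ξ ⟶ ξ} {Z : Over S} (c : Z ⟶ W) [IsIso c] (e : EqAlong a b c) : a = b := by
  have h1 := e.comp h hξ (inv c)
  rw [IsIso.inv_hom_id] at h1
  simpa using h1 (𝟙 ξ) (IsHomLift.id hξ)

variable {U : Over S} {x : overCat U ⥤ᵇ 𝒳}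

theorem eq_of_one (h : IsFibGrpd 𝒳.p)
    (hi : RepByAlgSpWith AlgSp.IsSeparatedMor (inertiaToBase (toSelf 𝒳)))
    (hx : RepByAlgSpWith (LocP (@LocallyOfFiniteType ⊓ @FormallyUnramified)) x)
    {ξ : 𝒳.obj} (hξ : 𝒳.p.obj ξ = Cross.P R str) (r : Cross.P R str ⟶ U)
    (ε : ξ ⟶ x.obj (Over.mk r)) (hε : 𝒳.p.IsHomLift (𝟙 (Cross.P R str)) ε) (a b : ξ ⟶ ξ)
    (ha : 𝒳.p.IsHomLift (𝟙 (Cross.P R str)) a) (hb : 𝒳.p.IsHomLift (𝟙 (Cross.P R str)) b)
    (e : EqAlong a b (one R str)) : a = b := by
  obtain ⟨Zo, co, hco, eo, uo⟩ := exists_open h hx hξ r ε hε a b ha hb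
  obtain ⟨Zc, cc, hcc, ec, uc⟩ := exists_closed h hi hξ a b ha hb
  have hr : ∀ {A B : Over S} {f : A ⟶ Cross.P R str} {g : B ⟶ Cross.P R str},
      (∃ l, l ≫ g = f) → Set.range f.left ⊆ Set.range g.left := by
    rintro A B f g ⟨l, rfl⟩ _ ⟨p, rfl⟩
    exact ⟨l.left p, rfl⟩
  have hrange : Set.range co.left = Set.range cc.left :=
    Set.Subset.antisymm (hr (uc co eo)) (hr (uo cc ec))
  have := isIso_of_clopen R str co (hrange ▸ cc.left.isClosedEmbedding.isClosed_range)
    (hr (uo _ e))
  exact eq_of_eqAlong_iso h hξ co eo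

theorem eq_of_thick (h : IsFibGrpd 𝒳.p)
    (hx : RepByAlgSpWith (LocP (@LocallyOfFiniteType ⊓ @FormallyUnramified)) x)
    (Z : Thick S) {ξ : 𝒳.obj} (hξ : 𝒳.p.obj ξ = Z.pt) (r : Z.pt ⟶ U)
    (ε : ξ ⟶ x.obj (Over.mk r)) (hε : 𝒳.p.IsHomLift (𝟙 Z.pt) ε) (a b : ξ ⟶ ξ)
    (ha : 𝒳.p.IsHomLift (𝟙 Z.pt) a) (hb : 𝒳.p.IsHomLift (𝟙 Z.pt) b)
    (e : EqAlong a b Z.j) : a = b := by
  obtain ⟨Zo, co, hco, eo, uo⟩ := exists_open h hx hξ r ε hε a b ha hb
  obtain ⟨l, hl⟩ := uo _ e
  have : Surjective co.left := ⟨fun p => by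
    have h1 : p ∈ Set.range (PrimeSpectrum.comap (Ideal.Quotient.mk Z.I)) := by
      rw [range_comap_of_surjective _ _ Ideal.Quotient.mk_surjective, Ideal.mk_ker]
      intro a ha
      exact p.isPrime.mem_of_pow_mem 2 (by
        have := Ideal.pow_mem_pow ha 2
        rw [Z.sq_zero, Ideal.mem_bot] at this
        rw [this]; exact p.asIdeal.zero_mem)
    obtain ⟨q, rfl⟩ := h1
    exact ⟨l.left q, congrArg (fun m : Z.pt₀ ⟶ Z.pt => m.left q) hl⟩⟩
  have : IsIso co.left := (isIso_iff_isOpenImmersion_and_surjective _).2 ⟨hco, this⟩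
  have : IsIso ((Over.forget S).map co) := this
  have := isIso_of_reflects_iso co (Over.forget S)
  exact eq_of_eqAlong_iso h hξ co eo

end Groth.Agent.H14.IsoNat.Unram
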