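import Groth.Agent.H14.IsoNat.AutExt
import Groth.Agent.Lib.AlgSpVal.Main
import Groth.Agent.Lib.AlgSpVal.Closed
import Groth.Agent.H9.ValLift
import Groth.Agent.S10289

/-!
Properness of the inertia as extension of automorphisms over valuation rings.
-/

set_option autoImplicit false
set_option backward.isDefEq.respectTransparency false
set_option backward.isDefEq.respectTransparency.types false

universe u

open CategoryTheory CategoryTheory.Limits AlgebraicGeometry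

namespace Groth.Agent.H14.IsoNat.ValExt

open Groth.Agent.Lib.AlgStack
open FibCat (IsFibGrpd overCat fpFst toSelf inertiaToBase)
open AlgSt (spMapOfOver RepByAlgSpWith)
open AlgSp (Sp yon RepWith)
open Groth.Agent.Lib.Fibred.Descent

variable {S : Scheme.{u}}

/-- The morphism of spectra of a ring map, over `S`. -/
noncomputable def specHom {A B : Type u} [CommRing A] [CommRing B] (f : A →+* B)
    (str : Spec (CommRingCat.of A) ⟶ S) :
    Over.mk (Spec.map (CommRingCat.ofHom f) ≫ str) ⟶ Over.mk str :=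
  Over.homMk (Spec.map (CommRingCat.ofHom f)) rfl

/-- Automorphisms over the fraction field of a valuation ring extend. -/
def Ext (𝒳 : AlgSt.Cat S) : Prop :=
  ∀ (A : Type u) [CommRing A] [IsDomain A] [ValuationRing A] (K : Type u) [Field K] [Algebra A K]
    [IsFractionRing A K] (str : Spec (CommRingCat.of A) ⟶ S) (η : 𝒳.p.Fiber (Over.mk str))
    (x : 𝒳.obj) (ψ : x ⟶ η.1), 𝒳.p.IsHomLift (specHom (algebraMap A K) str) ψ →
    ∀ s : x ⟶ x, 𝒳.p.IsHomLift (𝟙 (Over.mk (Spec.map (CommRingCat.ofHom (algebraMap A K)) ≫ str))) s →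
      ∃ t : η.1 ⟶ η.1, 𝒳.p.IsHomLift (𝟙 (Over.mk str)) t ∧ s ≫ ψ = ψ ≫ t

/-- Automorphisms over the fraction field of a valuation ring extend after a dominating extension. -/
def ExtW (𝒳 : AlgSt.Cat S) : Prop :=
  ∀ (A : Type u) [CommRing A] [IsDomain A] [ValuationRing A] (K : Type u) [Field K] [Algebra A K]
    [IsFractionRing A K] (str : Spec (CommRingCat.of A) ⟶ S) (η : 𝒳.p.Fiber (Over.mk str))
    (x : 𝒳.obj) (ψ : x ⟶ η.1), 𝒳.p.IsHomLift (specHom (algebraMap A K) str) ψ →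
    ∀ s : x ⟶ x, 𝒳.p.IsHomLift (𝟙 (Over.mk (Spec.map (CommRingCat.ofHom (algebraMap A K)) ≫ str))) s →
      ∃ (A' : Type u) (_ : CommRing A') (_ : IsDomain A') (_ : ValuationRing A') (K' : Type u)
        (_ : Field K') (_ : Algebra A' K') (_ : IsFractionRing A' K') (φ : A →+* A') (κ : K →+* K')
        (_ : (algebraMap A' K').comp φ = κ.comp (algebraMap A K)) (_ : IsLocalHom φ)
        (jκ : Over.mk (Spec.map (CommRingCat.ofHom (algebraMap A' K')) ≫
            Spec.map (CommRingCat.ofHom φ) ≫ str) ⟶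
          Over.mk (Spec.map (CommRingCat.ofHom (algebraMap A K)) ≫ str))
        (_ : jκ.left = Spec.map (CommRingCat.ofHom κ))
        (z zK : 𝒳.obj) (r : z ⟶ η.1) (rK : zK ⟶ x) (vK : zK ⟶ z) (t : z ⟶ z),
        𝒳.p.IsHomLift (specHom φ str) r ∧ 𝒳.p.IsHomLift jκ rK ∧
        𝒳.p.IsHomLift (specHom (algebraMap A' K') (Spec.map (CommRingCat.ofHom φ) ≫ str)) vK ∧
        𝒳.p.IsHomLift (𝟙 (Over.mk (Spec.map (CommRingCat.ofHom φ) ≫ str))) t ∧
        vK ≫ r = rK ≫ ψ ∧ vK ≫ t ≫ r = rK ≫ s ≫ ψ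

variable {𝒳 : AlgSt.Cat S}

/-- Automorphisms extend when the inertia is proper. -/
theorem ext_of_proper (h : IsFibGrpd 𝒳.p)
    (hp : RepByAlgSpWith AlgSp.IsProperMor (inertiaToBase (toSelf 𝒳))) : Ext 𝒳 := by
  intro A _ _ _ K _ _ _ str η x ψ hψ s hs
  let T : Over S := Over.mk str
  let c : overCat T ⥤ᵇ 𝒳 := Yoneda.fromObj h η.2
  obtain ⟨ε, hε⟩ := Yoneda.exists_fromObj_iso h η.2
  have hεi : 𝒳.p.IsHomLift (𝟙 T) ε.inv := by
    rw [show ε.inv = inv ε.hom by simp]; infer_instance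
  let j := specHom (algebraMap A K) str
  let mk' : Over.mk j ⟶ Over.mk (𝟙 T) := Over.homMk j (by simp)
  have h1 : 𝒳.p.IsHomLift j (c.map mk') := Yoneda.map_isHomLift c mk'
  have h2 : 𝒳.p.IsHomLift j (c.map mk' ≫ ε.hom) := inferInstance
  obtain ⟨θ, hθ, eθ⟩ := exists_factor h ψ hψ _ h2
  have := Lib.Fibred.StackLemmas.isIso_of_vertical h θ hθ
  let q : InDict.AutTri c _ := ⟨j, θ ≫ s ≫ inv θ, inferInstance⟩
  obtain ⟨G, eG, heG, hG⟩ := hp T c
  obtain ⟨g, hg⟩ := InDict.exists_map h heG q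
  have hγ := InDict.comp_fst h hg
  have hy : AlgSp.IsAlgSpace ((yon S).obj T) := AlgSp.IsAlgSpace.yon_obj T
  let X : AlgSp.Space S := ⟨G.obj, G.property⟩
  let Y : AlgSp.Space S := ⟨(yon S).obj T, hy⟩
  let F : X ⟶ Y := ObjectProperty.homMk
    (spMapOfOver (BasedFunctor.comp eG (fpFst c (inertiaToBase (toSelf 𝒳)))))
  let sq : AlgSp.ValSq F.hom :=
    ⟨A, K, str, g, 𝟙 _, hγ.trans (Category.comp_id _).symm⟩
  have hqs : AlgSp.IsQuasiSeparatedMor F.hom :=
    MorphismProperty.relative_monotone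
      (fun (U V : Over S) (g : U ⟶ V) (hg : IsClosedImmersion g.left) =>
        (inferInstanceAs (QuasiCompact g.left))) _ hG.1
  obtain ⟨e, he⟩ := Groth.Agent.S10289.result F hqs hG.2.2 sq
  obtain ⟨l, hl₁, hl₂⟩ := Lib.AlgSpVal.hasLift_of_domExt G.property hy hG.1 sq e he
  obtain ⟨⟨m, a, ha⟩, hla⟩ := InDict.exists_aut h l
  have hm : (yon S).map m = (yon S).map (𝟙 T) := by
    rw [← InDict.comp_fst h hla]; exact hl₂.trans ((yon S).map_id T).symm
  obtain rfl : m = 𝟙 T := (yon S).map_injective hm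
  obtain ⟨p, hp'⟩ := InDict.exists_pull h j (⟨𝟙 T, a, ha⟩ : InDict.AutTri c T)
  have hl₁' : (yon S).map j ≫ l = g := hl₁
  obtain rfl : q = p := InDict.aut_unique h hg (hl₁' ▸ InDict.rel_comp h hla hp')
  have e' : c.map mk' ≫ a = (θ ≫ s ≫ inv θ) ≫ c.map mk' := hp'.a
  refine ⟨ε.inv ≫ a ≫ ε.hom, inferInstance, ?_⟩
  rw [← cancel_epi θ, reassoc_of% eθ, Iso.hom_inv_id_assoc, reassoc_of% e', ← eθ,
    IsIso.inv_hom_id_assoc]

/-- The inertia is proper when automorphisms extend after extensions. -/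
theorem proper_of_extW (h : IsFibGrpd 𝒳.p) (hx : ExtW 𝒳)
    (hd : RepByAlgSpWith (AlgSp.IsSeparatedMor ⊓ AlgSp.IsQuasiCompactMor) (FibCat.diag (toSelf 𝒳)))
    (hi : RepByAlgSpWith (AlgSp.LocP @LocallyOfFinitePresentation) (inertiaToBase (toSelf 𝒳))) :
    RepByAlgSpWith AlgSp.IsProperMor (inertiaToBase (toSelf 𝒳)) := by
  intro V y
  obtain ⟨G, e, he, ⟨hsep, hqc⟩, hfp⟩ :=
    Sep.Main4.repByAlgSpWith_inf
      (Sep.SpProps.stableBC_locP Lib.SourceDescent.Scheme.locallyOfFinitePresentation)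
      (Sep.Inertia.inertiaToBase_of_diag hd) hi V y
  refine ⟨G, e, he, hsep, ⟨?_, hqc⟩, ?_⟩
  · intro U' V' a b m ha hb w
    have := hfp a b m ha hb w
    infer_instance
  · have hy : AlgSp.IsAlgSpace ((yon S).obj V) := AlgSp.IsAlgSpace.yon_obj V
    let X : AlgSp.Space S := ⟨G.obj, G.property⟩
    let Y : AlgSp.Space S := ⟨(yon S).obj V, hy⟩
    let F : X ⟶ Y := ObjectProperty.homMk
      (spMapOfOver (BasedFunctor.comp e (fpFst y (inertiaToBase (toSelf 𝒳)))))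
    refine Lib.AlgSpVal.isUnivClosedMor_of_existVC F hqc fun sq => ?_
    obtain ⟨β, hβ⟩ := (yon S).map_surjective sq.bot
    obtain ⟨⟨m, s, hs⟩, hq⟩ := InDict.exists_aut h sq.top
    obtain rfl : m = sq.j ≫ β := (yon S).map_injective (by
      rw [← InDict.comp_fst h hq, Functor.map_comp, hβ]; exact sq.comm)
    let mk' : Over.mk (sq.j ≫ β) ⟶ Over.mk β := Over.homMk sq.j rfl
    let η : 𝒳.p.Fiber sq.ptA := Functor.Fiber.mk (a := y.obj (Over.mk β)) (y.w_obj (Over.mk β))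
    have hψ : 𝒳.p.IsHomLift (specHom (algebraMap sq.A sq.K) sq.str) (y.map mk') :=
      Yoneda.map_isHomLift y mk'
    obtain ⟨A', _, _, _, K', _, _, _, φ, κ, hc, hloc, jκ, hjκ, z, zK, r, rK, vK, t, hr, hrK, hvK, ht,
      e₁, e₂⟩ := hx sq.A sq.K sq.str η _ (y.map mk') hψ s hs
    let ext : sq.DomExt := { A' := A', K' := K', φ := φ, ψ := κ, comm := hc, isLocalHom := hloc }
    let fA : ext.ptA' ⟶ sq.ptA := specHom φ sq.str
    let jA : ext.ptK' ⟶ ext.ptA' := specHom (algebraMap A' K') (Spec.map (CommRingCat.ofHom φ) ≫ sq.str)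
    let jK : ext.ptK' ⟶ sq.ptK := jκ
    have hsq : jA ≫ fA = jK ≫ sq.j := by
      ext1
      change Spec.map _ ≫ Spec.map _ = jκ.left ≫ Spec.map _
      rw [hjκ, ← Spec.map_comp, ← Spec.map_comp, ← CommRingCat.ofHom_comp, ← CommRingCat.ofHom_comp, hc]
    -- the extended automorphism as a point
    let mkA : Over.mk (fA ≫ β) ⟶ Over.mk β := Over.homMk fA rfl
    have hmA : 𝒳.p.IsHomLift fA (y.map mkA) := Yoneda.map_isHomLift y mkA
    obtain ⟨θ, hθ, eθ⟩ := exists_factor h r hr (y.map mkA) hmA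
    have := Lib.Fibred.StackLemmas.isIso_of_vertical h θ hθ
    let u : InDict.AutTri y ext.ptA' := ⟨fA ≫ β, θ ≫ t ≫ inv θ, inferInstance⟩
    obtain ⟨l, hl⟩ := InDict.exists_map h he u
    obtain ⟨p, hp⟩ := InDict.exists_pull h jA u
    obtain ⟨p', hp'⟩ := InDict.exists_pull h jK (⟨sq.j ≫ β, s, hs⟩ : InDict.AutTri y sq.ptK)
    refine ⟨ext, l, ?_, ?_⟩
    · obtain ⟨m₁, a₁, ha₁⟩ := p
      obtain ⟨m₂, a₂, ha₂⟩ := p'
      obtain rfl : m₂ = m₁ := by
        rw [show m₁ = jA ≫ fA ≫ β from hp.m, show m₂ = jK ≫ sq.j ≫ β from hp'.m]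
        rw [← Category.assoc, ← hsq, Category.assoc]
      let μA : Over.mk m₂ ⟶ Over.mk (fA ≫ β) := Over.homMk jA hp.m.symm
      let μK : Over.mk m₂ ⟶ Over.mk (sq.j ≫ β) := Over.homMk jK hp'.m.symm
      have ea : y.map μA ≫ θ ≫ t ≫ inv θ = a₁ ≫ y.map μA := hp.a
      have eb : y.map μK ≫ s = a₂ ≫ y.map μK := hp'.a
      have hμA : 𝒳.p.IsHomLift jA (y.map μA) := Yoneda.map_isHomLift y μA
      have hμK : 𝒳.p.IsHomLift jK (y.map μK) := Yoneda.map_isHomLift y μK
      have hμ : y.map μA ≫ y.map mkA = y.map μK ≫ y.map mk' := by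
        rw [← y.toFunctor.map_comp, ← y.toFunctor.map_comp]
        congr 1
        apply Over.OverMorphism.ext
        exact hsq
      have hvr : 𝒳.p.IsHomLift (jA ≫ fA) (vK ≫ r) := inferInstance
      have l₁ : 𝒳.p.IsHomLift (jA ≫ fA) (y.map μA ≫ y.map mkA) := inferInstance
      have l₂ : 𝒳.p.IsHomLift jA (y.map μA ≫ θ) :=
        IsHomLift.comp_lift_id_right' 𝒳.p jA (y.map μA) ext.ptA' θ
      obtain ⟨ω, hω, eω⟩ := exists_factor h vK hvK (y.map μA ≫ θ) l₂
      have eω' : ω ≫ rK = y.map μK := by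
        have q₁ : 𝒳.p.IsHomLift jK (ω ≫ rK) := IsHomLift.comp_lift_id_left' 𝒳.p ext.ptK' ω jK rK
        refine ext_lift h (y.map mk') hψ (g := jK) q₁ hμK ?_
        rw [Category.assoc, ← e₁, reassoc_of% eω, eθ, hμ]
      have key : a₁ = a₂ := by
        refine ext_lift h (y.map μA ≫ y.map mkA) l₁ ha₁ ha₂ ?_
        rw [← reassoc_of% ea, ← eθ, IsIso.inv_hom_id_assoc]
        conv_rhs => rw [eθ, hμ]
        rw [← reassoc_of% eb, ← eω', Category.assoc, ← reassoc_of% eω, e₂]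
      subst key
      refine (InDict.map_unique h he (InDict.rel_comp h hl hp) (InDict.rel_comp h hq hp')).trans ?_
      congr 2
      ext1
      exact hjκ
    · refine (InDict.comp_fst h hl).trans ?_
      rw [Functor.map_comp, hβ]
      rfl

end Groth.Agent.H14.IsoNat.ValExt
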