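import Groth.Agent.H14.IsoNat.ValSpread
import Groth.Agent.H14.IsoNat.Pushout
import Groth.Agent.H14.IsoNat.Detect
import Groth.Agent.H14.IsoNat.Points

/-!
Properness of the inertia is seen by isomorphism classes.
-/

set_option autoImplicit false
set_option backward.isDefEq.respectTransparency false
set_option backward.isDefEq.respectTransparency.types false
set_option maxHeartbeats 800000

universe u

open CategoryTheory CategoryTheory.Limits AlgebraicGeometry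

namespace Groth.Agent.H14.IsoNat.ValExt

open Groth.Agent.Lib.AlgStack
open FibCat (IsFibGrpd overCat fpFst toSelf inertiaToBase)
open AlgSt (spMapOfOver RepByAlgSpWith IsAlgStack)
open AlgSp (Sp yon RepWith)
open Groth.Agent.Lib.Fibred.Descent

variable {S : Scheme.{u}} {𝒳 𝒴 : AlgSt.Cat S}

/-- Vertical morphisms of an object over an affine scheme agree once they do after a map which is
injective on functions. -/
theorem vert_ext' (h : IsFibGrpd 𝒳.p)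
    (hi : RepByAlgSpWith AlgSp.IsSeparatedMor (inertiaToBase (toSelf 𝒳))) {D P' : Over S}
    [IsAffine D.left] (j : P' ⟶ D) (hj : Function.Injective j.left.appTop) {ξ : 𝒳.obj}
    (hξ : 𝒳.p.obj ξ = D) (a b : ξ ⟶ ξ) (ha : 𝒳.p.IsHomLift (𝟙 D) a) (hb : 𝒳.p.IsHomLift (𝟙 D) b)
    {z : 𝒳.obj} (ψ : z ⟶ ξ) (hψ : 𝒳.p.IsHomLift j ψ) (e : ψ ≫ a = ψ ≫ b) : a = b := by
  obtain ⟨ε, hε⟩ := Yoneda.exists_fromObj_iso h hξ
  let c : overCat D ⥤ᵇ 𝒳 := Yoneda.fromObj h hξ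
  have hεi : 𝒳.p.IsHomLift (𝟙 D) ε.inv := by
    rw [show ε.inv = inv ε.hom by simp]
    infer_instance
  let q : InDict.AutTri c D := ⟨𝟙 D, ε.hom ≫ a ≫ ε.inv, inferInstance⟩
  let q' : InDict.AutTri c D := ⟨𝟙 D, ε.hom ≫ b ≫ ε.inv, inferInstance⟩
  obtain ⟨G, eG, heG, hG⟩ := hi D c
  obtain ⟨g, hg⟩ := InDict.exists_map h heG q
  obtain ⟨g', hg'⟩ := InDict.exists_map h heG q'
  obtain ⟨t, ht⟩ := InDict.exists_pull h j q
  let mk' : Over.mk t.m ⟶ Over.mk (𝟙 D) := Over.homMk j ht.m.symm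
  have h1 : 𝒳.p.IsHomLift j (c.map mk') := Yoneda.map_isHomLift c mk'
  have h2 : 𝒳.p.IsHomLift j (c.map mk' ≫ ε.hom) := inferInstance
  obtain ⟨θ, -, hθ⟩ := exists_factor h ψ hψ _ h2
  have hab : (c.map mk' ≫ ε.hom) ≫ a = (c.map mk' ≫ ε.hom) ≫ b := by
    rw [← hθ, Category.assoc, e, Category.assoc]
  have ht' : InDict.IsPull j q' t :=
    ⟨ht.m, by
      refine Eq.trans ?_ ht.a
      change c.map mk' ≫ ε.hom ≫ b ≫ ε.inv = c.map mk' ≫ ε.hom ≫ a ≫ ε.inv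
      rw [← Category.assoc (ε.hom), ← Category.assoc (ε.hom), ← Category.assoc (c.map mk'),
        ← Category.assoc (c.map mk'), ← Category.assoc (c.map mk'), ← Category.assoc (c.map mk'), hab]⟩
  have hgj : (yon S).map j ≫ g = (yon S).map j ≫ g' :=
    InDict.map_unique h heG (InDict.rel_comp h hg ht) (InDict.rel_comp h hg' ht')
  let γ := spMapOfOver (BasedFunctor.comp eG (fpFst c (inertiaToBase (toSelf 𝒳))))
  have hγ : g ≫ γ = g' ≫ γ := (InDict.comp_fst h hg).trans (InDict.comp_fst h hg').symm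
  let pr : (yon S).obj D ⟶ pullback γ γ := pullback.lift g g' hγ
  have hd : RepWith @IsClosedImmersion (pullback.diagonal γ) := hG
  have sq := hd.rep.isPullback pr
  let cZ := hd.rep.snd pr
  have : IsClosedImmersion cZ.left := Lib.AlgSpace.repWith_property hd sq
  let k₀ : (yon S).obj P' ⟶ (yon S).obj _ :=
    sq.lift ((yon S).map j ≫ g) ((yon S).map j) (by
      apply pullback.hom_ext
      · simp [pr]
      · simp [pr, hgj])
  obtain ⟨k, hk⟩ := (yon S).map_surjective k₀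
  have hkc : k ≫ cZ = j := (yon S).map_injective (by
    rw [Functor.map_comp, hk]; exact sq.lift_snd _ _ _)
  have : IsIso cZ.left := H9.Val.isIso_of_factors cZ.left k.left j.left
    (congrArg (fun n : P' ⟶ D => n.left) hkc) hj
  have : IsIso cZ := H9.Val.isIso_left_of_isIso cZ
  have hw := sq.w
  have e1 := congrArg (fun m => m ≫ pullback.fst γ γ) hw
  have e2 := congrArg (fun m => m ≫ pullback.snd γ γ) hw
  simp [pr] at e1 e2
  have hgg : g = g' := (cancel_epi ((yon S).map cZ)).1 (e1.symm.trans e2)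
  subst hgg
  have hqq : ε.hom ≫ a ≫ ε.inv = ε.hom ≫ b ≫ ε.inv := by
    have := InDict.aut_unique h hg hg'
    simpa [q, q'] using this
  simpa using hqq

/-- Extension of automorphisms passes to the other stack. -/
theorem extW_of_fIso (φ : _root_.IsoNat.FIso 𝒳 𝒴) (h𝒳 : IsAlgStack Scheme.fppfPrecoverage 𝒳)
    (h𝒴 : IsAlgStack Scheme.fppfPrecoverage 𝒴)
    (hsep : RepByAlgSpWith AlgSp.IsSeparatedMor (inertiaToBase (toSelf 𝒳)))
    (hi : RepByAlgSpWith (AlgSp.LocP @LocallyOfFinitePresentation) (inertiaToBase (toSelf 𝒴)))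
    (hx : Ext 𝒳) : ExtW 𝒴 := by
  intro A _ _ _ K _ _ _ str η x ψ hψ s hs
  have g𝒳 := h𝒳.isStack.1
  have g𝒴 := h𝒴.isStack.1
  obtain ⟨A', _, _, _, K', _, _, _, φA, κ, hc, hloc, jκ, hjκ, f, hf, k, hk, hkinj, z, zf, zK, r, o, vf,
    rK, sf, hr, ho, hvf, hrK, hsf, e₁, e₂⟩ := exists_spread g𝒴 hi str η ψ hψ s hs
  let str₁ : Spec (CommRingCat.of A') ⟶ S := Spec.map (CommRingCat.ofHom φA) ≫ str
  let T₁ : Over S := Over.mk str₁
  let Tf : Over S := Over.mk (Spec.map (CommRingCat.ofHom (algebraMap A' (Localization.Away f))) ≫ str₁)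
  let jf : Tf ⟶ T₁ := specHom (algebraMap A' (Localization.Away f)) str₁
  have : IsOpenImmersion jf.left := IsOpenImmersion.of_isLocalization (R := CommRingCat.of A')
    (S := Localization.Away f) f
  have : IsAffine Tf.left := inferInstanceAs (IsAffine (Spec (CommRingCat.of (Localization.Away f))))
  have hz : 𝒴.p.obj z = T₁ := IsHomLift.domain_eq 𝒴.p (specHom φA str) r
  obtain ⟨G⟩ := Glued₂.exists_glued jf jf
  obtain ⟨pX, hpa, hpb⟩ := G.exists_desc (𝟙 T₁) (𝟙 T₁) rfl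
  have hsfo : 𝒴.p.IsHomLift jf (sf ≫ o) := IsHomLift.comp_lift_id_left' 𝒴.p Tf sf jf o
  obtain ⟨ξ, φa, φb, hξ, hφa, hφb, hφ⟩ :=
    Glue2.exists_glue (c := G.cov) g𝒴 hz hz hsfo ho (Detect.stackFor h𝒴 G.cov_mem).2.2
  -- the corresponding objects of the first stack
  obtain ⟨ζ₀, hζ₀⟩ := Cls.exists_cls ((φ.toEquiv T₁).symm (_root_.IsoNat.cls (⟨z, hz⟩ : 𝒴.p.Fiber T₁)))
  obtain ⟨ζ, hζ⟩ := Cls.exists_cls ((φ.toEquiv G.pt).symm (_root_.IsoNat.cls (⟨ξ, hξ⟩ : 𝒴.p.Fiber G.pt)))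
  have c₀ : φ.toEquiv T₁ (_root_.IsoNat.cls ζ₀) = _root_.IsoNat.cls (⟨z, hz⟩ : 𝒴.p.Fiber T₁) := by
    rw [hζ₀, Equiv.apply_symm_apply]
  have c₁ : φ.toEquiv G.pt (_root_.IsoNat.cls ζ) = _root_.IsoNat.cls (⟨ξ, hξ⟩ : 𝒴.p.Fiber G.pt) := by
    rw [hζ, Equiv.apply_symm_apply]
  have hφa' : 𝒴.p.IsHomLift G.ja φa := hφa
  have hφb' : 𝒴.p.IsHomLift G.jb φb := hφb
  obtain ⟨ψa, hψa⟩ := Cls.exists_hom_symm φ g𝒳 g𝒴 (g := G.ja) (y := ⟨ξ, hξ⟩) hφa' c₀ c₁
  obtain ⟨ψb, hψb⟩ := Cls.exists_hom_symm φ g𝒳 g𝒴 (g := G.jb) (y := ⟨ξ, hξ⟩) hφb' c₀ c₁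
  -- the gluing automorphism extends
  obtain ⟨ζf, uo, huo⟩ := exists_lift g𝒳 ζ₀.2 jf
  have l₁ : 𝒳.p.IsHomLift (jf ≫ G.ja) (uo ≫ ψb) := by rw [G.isPB.w]; infer_instance
  obtain ⟨τ, hτ, eτ⟩ := exists_factor (f := jf ≫ G.ja) g𝒳 (uo ≫ ψa) inferInstance (uo ≫ ψb) l₁
  obtain ⟨ζK, uk, huk⟩ := exists_lift g𝒳 (IsHomLift.domain_eq 𝒳.p jf uo) k
  obtain ⟨τK, hτK, eτK⟩ := Detect.exists_pull_aut g𝒳 uk huk τ hτ
  have hkf : 𝒳.p.IsHomLift (specHom (algebraMap A' K') str₁) (uk ≫ uo) := by rw [← hk]; infer_instance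
  obtain ⟨t, ht, et⟩ := hx A' K' str₁ ζ₀ ζK (uk ≫ uo) hkf τK hτK
  obtain ⟨t', ht', et'⟩ := Detect.exists_pull_aut g𝒳 uo huo t ht
  obtain rfl : τ = t' := by
    refine vert_ext' g𝒳 hsep k hkinj (IsHomLift.domain_eq 𝒳.p jf uo) τ t' hτ ht' uk huk ?_
    refine ext_lift g𝒳 uo huo (g := k) inferInstance inferInstance ?_
    rw [Category.assoc, Category.assoc, et', reassoc_of% (eτK.symm)]
    exact et.trans (Category.assoc _ _ _)
  -- hence the object glued from the extension is constant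
  obtain ⟨ζ', Q, hQ⟩ := exists_lift g𝒳 ζ₀.2 pX
  have := cart g𝒳 Q hQ
  have hidz : 𝒳.p.IsHomLift (G.ja ≫ pX) (𝟙 ζ₀.1) := by rw [hpa]; exact IsHomLift.id ζ₀.2
  have hidz' : 𝒳.p.IsHomLift (G.jb ≫ pX) (𝟙 ζ₀.1) := by rw [hpb]; exact IsHomLift.id ζ₀.2
  let ca := Functor.IsStronglyCartesian.map 𝒳.p pX Q (g := G.ja) rfl (𝟙 ζ₀.1)
  let cb := Functor.IsStronglyCartesian.map 𝒳.p pX Q (g := G.jb) rfl (𝟙 ζ₀.1)
  have hca : 𝒳.p.IsHomLift G.ja ca := Functor.IsStronglyCartesian.map_isHomLift _ _ _ _ _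
  have hcb : 𝒳.p.IsHomLift G.jb cb := Functor.IsStronglyCartesian.map_isHomLift _ _ _ _ _
  have hcab : uo ≫ ca = uo ≫ cb := by
    refine ext_lift g𝒳 Q hQ (g := jf ≫ G.ja) inferInstance (by rw [G.isPB.w]; infer_instance) ?_
    simp only [ca, cb, Category.assoc, Functor.IsStronglyCartesian.fac]
  have hta : 𝒳.p.IsHomLift G.ja (t ≫ ψa) := IsHomLift.comp_lift_id_left' 𝒳.p T₁ t G.ja ψa
  have htb : uo ≫ t ≫ ψa = uo ≫ ψb := by rw [← reassoc_of% et', eτ]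
  obtain ⟨d, hd, -, -⟩ := Glue2.exists_desc (c := G.cov) (pa := uo) (pb := uo) g𝒳
    (Detect.stackFor h𝒳 G.cov_mem).2.1 ζ.2 (IsHomLift.domain_eq 𝒳.p pX Q) huo (t ≫ ψa) ψb hta hψb htb
    ca cb hca hcb hcab huo
  have hdQ : 𝒳.p.IsHomLift pX (d ≫ Q) := IsHomLift.comp_lift_id_left' 𝒳.p G.pt d pX Q
  obtain ⟨hh, hhh⟩ := Cls.exists_hom φ (x' := ζ) (x := ζ₀) hdQ c₁ c₀
  -- read off the extension
  let ga : z ⟶ z := φa ≫ hh
  let gb : z ⟶ z := φb ≫ hh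
  have hga : 𝒴.p.IsHomLift (𝟙 T₁) ga := by rw [← hpa]; infer_instance
  have hgb : 𝒴.p.IsHomLift (𝟙 T₁) gb := by rw [← hpb]; infer_instance
  have := Lib.Fibred.StackLemmas.isIso_of_vertical g𝒴 ga hga
  have eg : o ≫ gb = sf ≫ o ≫ ga := by
    have := congrArg (fun m => m ≫ hh) hφ
    simp only [Category.assoc] at this
    exact this.symm
  refine ⟨A', inferInstance, inferInstance, inferInstance, K', inferInstance, inferInstance, inferInstance,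
    φA, κ, hc, hloc, jκ, hjκ, z, zK, r, rK, vf ≫ o, gb ≫ inv ga, hr, hrK, ?_, inferInstance,
    (Category.assoc _ _ _).trans e₁, ?_⟩
  · rw [← hk]; infer_instance
  · simp only [Category.assoc]
    rw [reassoc_of% eg, IsIso.hom_inv_id_assoc, e₂]

end Groth.Agent.H14.IsoNat.ValExt
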