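import Groth.Agent.H14.IsoNat.ValRep
import Groth.Agent.H14.IsoNat.ValTransfer

/-!
Separatedness of a morphism of stacks is seen by isomorphism classes.
-/

set_option autoImplicit false
set_option backward.isDefEq.respectTransparency false
set_option backward.isDefEq.respectTransparency.types false
set_option maxHeartbeats 1600000

universe u

open CategoryTheory CategoryTheory.Limits AlgebraicGeometry

namespace Groth.Agent.H14.IsoNat.ValIso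

open Groth.Agent.Lib.AlgStack
open FibCat (IsFibGrpd overCat fp fpFst toSelf inertiaToBase diag)
open AlgSt (spMapOfOver RepByAlgSpWith IsAlgStack)
open AlgSp (Sp yon RepWith)
open Groth.Agent.Lib.Fibred.Descent
open ValExt (specHom vert_ext')
open ValRep (ExtR ExtRW)

variable {S : Scheme.{u}} {𝒳 𝒴 𝒳' 𝒴' : AlgSt.Cat S}

/-- The diagonal of a morphism of stacks with separated quasi-compact diagonals is such. -/
theorem diag_sepQC (h𝒳 : IsFibGrpd 𝒳.p) (h𝒴 : IsFibGrpd 𝒴.p) (f : 𝒳 ⥤ᵇ 𝒴)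
    (hdX : RepByAlgSpWith (AlgSp.IsSeparatedMor ⊓ AlgSp.IsQuasiCompactMor) (diag (toSelf 𝒳)))
    (hdY : RepByAlgSpWith (AlgSp.IsSeparatedMor ⊓ AlgSp.IsQuasiCompactMor) (diag (toSelf 𝒴))) :
    RepByAlgSpWith (AlgSp.IsSeparatedMor ⊓ AlgSp.IsQuasiCompactMor) (diag f) := by
  have hG := Sep.Main.good_sep.inf (Sep.Main.good_qc (S := S))
  have h1 : RepByAlgSpWith (AlgSp.IsSeparatedMor ⊓ AlgSp.IsQuasiCompactMor)
      (diag (BasedFunctor.comp f (toSelf 𝒴))) :=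
    (Sep.Rep.diag_iff_of_isEquivOver BasedBasic.isEquivOver_id BasedBasic.isEquivOver_id
      (f := BasedFunctor.comp f (toSelf 𝒴)) (f' := toSelf 𝒳)
      (Lib.Fibred.Slice.selfIso _ _)).2 hdX
  have h2 : RepByAlgSpWith AlgSp.IsSeparatedMor (Sep.DiagCat.cmp f f (toSelf 𝒴)) :=
    Rep.repByAlgSpWith_mono (Sep.Rep.cmp_of_diag f f hdY) fun _ _ _ _ _ h => h.1
  have h3 : RepByAlgSpWith (AlgSp.IsSeparatedMor ⊓ AlgSp.IsQuasiCompactMor)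
      (diag (Sep.DiagCat.cmp f f (toSelf 𝒴))) :=
    Rep.repByAlgSpWith_mono (Sep.Main2.diag_proper_of_sep h2) fun _ _ _ _ _ h => ⟨h.1, h.2.1.2⟩
  exact Sep.Main.diag_of_comp h𝒳 h𝒴 Sep.Main2.isFibGrpd_self hG.bc hG.fs hG.comp h1 h3

/-- Extension of isomorphisms compatible with a morphism passes to the other square. -/
theorem extRW_of_fIsoSq {f : 𝒳 ⥤ᵇ 𝒴} {f' : 𝒳' ⥤ᵇ 𝒴'} (φ : _root_.IsoNat.FIsoSq f f')
    (h𝒳 : IsAlgStack Scheme.fppfPrecoverage 𝒳) (h𝒴 : IsAlgStack Scheme.fppfPrecoverage 𝒴)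
    (h𝒳' : IsAlgStack Scheme.fppfPrecoverage 𝒳') (h𝒴' : IsAlgStack Scheme.fppfPrecoverage 𝒴')
    (hsX : RepByAlgSpWith AlgSp.IsSeparatedMor (inertiaToBase (toSelf 𝒳)))
    (hsY' : RepByAlgSpWith AlgSp.IsSeparatedMor (inertiaToBase (toSelf 𝒴')))
    (hx : ExtR (diag f)) : ExtRW (diag f') := by
  intro A _ _ _ K _ _ _ str o w h hh
  have g𝒳 := h𝒳.isStack.1
  have g𝒴 := h𝒴.isStack.1
  have g𝒳' := h𝒳'.isStack.1
  have g𝒴' := h𝒴'.isStack.1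
  obtain ⟨⟨⟨x₁, x₂, α⟩, hα⟩, ho⟩ := o
  obtain ⟨A', _, _, _, K', _, _, _, φA, κ, hc, hloc, jκ, hjκ, fl, hfl, k, hk, hkinj, zf, zK, hf, vf, rK,
    hlf, hvf, hrK, ef⟩ := ValRep.exists_spread g𝒳' (FibProd.isFibGrpd_fp g𝒳' g𝒳' g𝒴')
      (Sep.Lft.diag_lft' h𝒳' h𝒴' f') str _ h hh
  let str₁ : Spec (CommRingCat.of A') ⟶ S := Spec.map (CommRingCat.ofHom φA) ≫ str
  let T : Over S := Over.mk str
  let T₁ : Over S := Over.mk str₁
  let Tf : Over S := Over.mk (Spec.map (CommRingCat.ofHom (algebraMap A' (Localization.Away fl))) ≫ str₁)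
  let jf : Tf ⟶ T₁ := specHom (algebraMap A' (Localization.Away fl)) str₁
  let fA : T₁ ⟶ T := specHom φA str
  have : IsOpenImmersion jf.left := IsOpenImmersion.of_isLocalization (R := CommRingCat.of A')
    (S := Localization.Away fl) fl
  have : IsAffine Tf.left := inferInstanceAs (IsAffine (Spec (CommRingCat.of (Localization.Away fl))))
  have : IsAffine T₁.left := inferInstanceAs (IsAffine (Spec (CommRingCat.of A')))
  have hjfinj : Function.Injective jf.left.appTop :=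
    H9.Val.appTop_specMap_injective (CommRingCat.ofHom (algebraMap A' (Localization.Away fl)))
      (IsLocalization.injective (Localization.Away fl)
        (powers_le_nonZeroDivisors_of_noZeroDivisors hfl))
  -- components of the spread isomorphism
  let a₁ : zf ⟶ x₁ := hf.hom.fst
  let a₂ : zf ⟶ x₂ := hf.hom.snd
  have ha₁ : 𝒳'.p.IsHomLift (jf ≫ fA) a₁ := (Lib.Fibred.Fp.isHomLift_iff hf _).1 hlf
  have ha₂ : 𝒳'.p.IsHomLift (jf ≫ fA) a₂ := by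
    have := hlf
    exact Lib.Fibred.Fp.isHomLift_snd hf (jf ≫ fA)
  have ew : f'.map a₁ ≫ α.hom = f'.map a₂ := (Lib.Fibred.Fp.w hf).trans (Category.id_comp _)
  have hx₁ : 𝒳'.p.obj x₁ = T := ho
  have hx₂ : 𝒳'.p.obj x₂ = T := (Lib.Fibred.Fp.p_snd (⟨⟨x₁, x₂, α⟩, hα⟩ : (fp f' f').obj)).trans ho
  have hα' : 𝒴'.p.IsHomLift (𝟙 T) α.hom :=
    Lib.Fibred.Fp.iso_isHomLift (⟨⟨x₁, x₂, α⟩, hα⟩ : (fp f' f').obj) hx₁
  have hαi : 𝒴'.p.IsHomLift (𝟙 T) α.inv := by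
    rw [show α.inv = inv α.hom by simp]; infer_instance
  obtain ⟨z, r, hr⟩ := exists_lift g𝒳' hx₁ fA
  obtain ⟨z₂, r₂, hr₂⟩ := exists_lift g𝒳' hx₂ fA
  have hz : 𝒳'.p.obj z = T₁ := IsHomLift.domain_eq 𝒳'.p fA r
  have hz₂ : 𝒳'.p.obj z₂ = T₁ := IsHomLift.domain_eq 𝒳'.p fA r₂
  have := cart g𝒳' r hr
  have := cart g𝒳' r₂ hr₂
  let o₁ : zf ⟶ z := Functor.IsStronglyCartesian.map 𝒳'.p fA r (g := jf) rfl a₁
  let o₂ : zf ⟶ z₂ := Functor.IsStronglyCartesian.map 𝒳'.p fA r₂ (g := jf) rfl a₂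
  have ho₁ : 𝒳'.p.IsHomLift jf o₁ := Functor.IsStronglyCartesian.map_isHomLift _ _ _ _ _
  have ho₂ : 𝒳'.p.IsHomLift jf o₂ := Functor.IsStronglyCartesian.map_isHomLift _ _ _ _ _
  have eo₁ : o₁ ≫ r = a₁ := Functor.IsStronglyCartesian.fac _ _ _ _ _
  have eo₂ : o₂ ≫ r₂ = a₂ := Functor.IsStronglyCartesian.fac _ _ _ _ _
  -- the glued object
  obtain ⟨G⟩ := Glued₂.exists_glued jf jf
  obtain ⟨pX, hpa, hpb⟩ := G.exists_desc (𝟙 T₁) (𝟙 T₁) rfl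
  obtain ⟨ξ, φa, φb, hξ, hφa, hφb, hφ⟩ :=
    Glue2.exists_glue (c := G.cov) g𝒳' hz hz₂ ho₁ ho₂ (Detect.stackFor h𝒳' G.cov_mem).2.2
  have hφa' : 𝒳'.p.IsHomLift G.ja φa := hφa
  have hφb' : 𝒳'.p.IsHomLift G.jb φb := hφb
  -- its image is constant
  have hfr : 𝒴'.p.IsHomLift fA (f'.map r) := BasedFunctor.preserves_isHomLift f' fA r
  have hfr₂ : 𝒴'.p.IsHomLift fA (f'.map r₂) := BasedFunctor.preserves_isHomLift f' fA r₂
  have hfo₁ : 𝒴'.p.IsHomLift jf (f'.map o₁) := BasedFunctor.preserves_isHomLift f' jf o₁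
  have hfo₂ : 𝒴'.p.IsHomLift jf (f'.map o₂) := BasedFunctor.preserves_isHomLift f' jf o₂
  obtain ⟨α', hα'', eα'⟩ := exists_factor g𝒴' (f'.map r) hfr (f'.map r₂ ≫ α.inv)
    (IsHomLift.comp_lift_id_right' 𝒴'.p fA (f'.map r₂) T α.inv)
  have hfz : 𝒴'.p.obj (f'.obj z) = T₁ := (f'.w_obj z).trans hz
  obtain ⟨η, Q, hQ⟩ := exists_lift g𝒴' hfz pX
  have := cart g𝒴' Q hQ
  have hidz : 𝒴'.p.IsHomLift (G.ja ≫ pX) (𝟙 (f'.obj z)) := by rw [hpa]; exact IsHomLift.id hfz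
  have hidz' : 𝒴'.p.IsHomLift (G.jb ≫ pX) α' := by rw [hpb]; exact hα''
  let ca := Functor.IsStronglyCartesian.map 𝒴'.p pX Q (g := G.ja) rfl (𝟙 (f'.obj z))
  let cb := Functor.IsStronglyCartesian.map 𝒴'.p pX Q (g := G.jb) rfl α'
  have hca : 𝒴'.p.IsHomLift G.ja ca := Functor.IsStronglyCartesian.map_isHomLift _ _ _ _ _
  have hcb : 𝒴'.p.IsHomLift G.jb cb := Functor.IsStronglyCartesian.map_isHomLift _ _ _ _ _
  have hcab : f'.map o₁ ≫ ca = f'.map o₂ ≫ cb := by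
    refine ext_lift g𝒴' Q hQ (g := jf ≫ G.ja) inferInstance (by rw [G.isPB.w]; infer_instance) ?_
    simp only [ca, cb, Category.assoc, Functor.IsStronglyCartesian.fac, Category.comp_id]
    refine ext_lift g𝒴' (f'.map r) hfr (g := jf) inferInstance inferInstance ?_
    rw [Category.assoc, eα', ← f'.toFunctor.map_comp, eo₁, ← Category.assoc, ← f'.toFunctor.map_comp,
      eo₂, ← ew, Category.assoc, Iso.hom_inv_id, Category.comp_id]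
  have hfφa : 𝒴'.p.IsHomLift G.ja (f'.map φa) := BasedFunctor.preserves_isHomLift f' G.ja φa
  have hfφb : 𝒴'.p.IsHomLift G.jb (f'.map φb) := BasedFunctor.preserves_isHomLift f' G.jb φb
  obtain ⟨d, hd, -, -⟩ := Glue2.exists_desc (c := G.cov) (pa := f'.map o₁) (pb := f'.map o₂) g𝒴'
    (Detect.stackFor h𝒴' G.cov_mem).2.1 ((f'.w_obj ξ).trans hξ) (IsHomLift.domain_eq 𝒴'.p pX Q) hfo₁
    (f'.map φa) (f'.map φb) hfφa hfφb (by rw [← f'.toFunctor.map_comp, hφ, f'.toFunctor.map_comp])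
    ca cb hca hcb hcab hfo₂
  have hdQ : 𝒴'.p.IsHomLift pX (d ≫ Q) := IsHomLift.comp_lift_id_left' 𝒴'.p G.pt d pX Q
  -- the corresponding objects of the first morphism
  let zF : 𝒳'.p.Fiber T₁ := ⟨z, hz⟩
  let z₂F : 𝒳'.p.Fiber T₁ := ⟨z₂, hz₂⟩
  let ξF : 𝒳'.p.Fiber G.pt := ⟨ξ, hξ⟩
  obtain ⟨ζ₀, hζ₀⟩ := Cls.exists_cls ((φ.src.toEquiv T₁).symm (_root_.IsoNat.cls zF))
  obtain ⟨ζ₂, hζ₂⟩ := Cls.exists_cls ((φ.src.toEquiv T₁).symm (_root_.IsoNat.cls z₂F))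
  obtain ⟨ζ, hζ⟩ := Cls.exists_cls ((φ.src.toEquiv G.pt).symm (_root_.IsoNat.cls ξF))
  have c₀ : φ.src.toEquiv T₁ (_root_.IsoNat.cls ζ₀) = _root_.IsoNat.cls zF := by
    rw [hζ₀, Equiv.apply_symm_apply]
  have c₂ : φ.src.toEquiv T₁ (_root_.IsoNat.cls ζ₂) = _root_.IsoNat.cls z₂F := by
    rw [hζ₂, Equiv.apply_symm_apply]
  have c₁ : φ.src.toEquiv G.pt (_root_.IsoNat.cls ζ) = _root_.IsoNat.cls ξF := by
    rw [hζ, Equiv.apply_symm_apply]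
  obtain ⟨ψa, hψa⟩ := Cls.exists_hom_symm φ.src g𝒳 g𝒳' (g := G.ja) (y := ξF) hφa' c₀ c₁
  obtain ⟨ψb, hψb⟩ := Cls.exists_hom_symm φ.src g𝒳 g𝒳' (g := G.jb) (y := ξF) hφb' c₂ c₁
  have d₀ : φ.tgt.toEquiv T₁ (_root_.IsoNat.cls ((_root_.IsoNat.fibFun f T₁).obj ζ₀)) =
      _root_.IsoNat.cls ((_root_.IsoNat.fibFun f' T₁).obj zF) := by
    rw [← Cls.mapCls_cls, φ.comm, c₀, Cls.mapCls_cls]
  have d₁ : φ.tgt.toEquiv G.pt (_root_.IsoNat.cls ((_root_.IsoNat.fibFun f G.pt).obj ζ)) =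
      _root_.IsoNat.cls ((_root_.IsoNat.fibFun f' G.pt).obj ξF) := by
    rw [← Cls.mapCls_cls, φ.comm, c₁, Cls.mapCls_cls]
  obtain ⟨hy, hhy⟩ := Cls.exists_hom_symm φ.tgt g𝒴 g𝒴' (g := pX)
    (y' := (_root_.IsoNat.fibFun f' G.pt).obj ξF) (y := (_root_.IsoNat.fibFun f' T₁).obj zF)
    (b := d ≫ Q) hdQ d₁ d₀
  let hy' : f.obj ζ.1 ⟶ f.obj ζ₀.1 := hy
  have hhy' : 𝒴.p.IsHomLift pX hy' := hhy
  have hfψa : 𝒴.p.IsHomLift G.ja (f.map ψa) := BasedFunctor.preserves_isHomLift f G.ja ψa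
  have hfψb : 𝒴.p.IsHomLift G.jb (f.map ψb) := BasedFunctor.preserves_isHomLift f G.jb ψb
  let ga : f.obj ζ₀.1 ⟶ f.obj ζ₀.1 := f.map ψa ≫ hy'
  let gb : f.obj ζ₂.1 ⟶ f.obj ζ₀.1 := f.map ψb ≫ hy'
  have hga : 𝒴.p.IsHomLift (𝟙 T₁) ga := by rw [← hpa]; infer_instance
  have hgb : 𝒴.p.IsHomLift (𝟙 T₁) gb := by rw [← hpb]; infer_instance
  have := Lib.Fibred.StackLemmas.isIso_of_vertical g𝒴 ga hga
  have := Lib.Fibred.StackLemmas.isIso_of_vertical g𝒴 gb hgb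
  obtain ⟨ζf, uo, huo⟩ := exists_lift g𝒳 ζ₀.2 jf
  have := cart g𝒳 ψb hψb
  have l₁ : 𝒳.p.IsHomLift (jf ≫ G.jb) (uo ≫ ψa) := by rw [← G.isPB.w]; infer_instance
  let σ : ζf ⟶ ζ₂.1 := Functor.IsStronglyCartesian.map 𝒳.p G.jb ψb (g := jf) rfl (uo ≫ ψa)
  have hσ : 𝒳.p.IsHomLift jf σ := Functor.IsStronglyCartesian.map_isHomLift _ _ _ _ _
  have eσ : σ ≫ ψb = uo ≫ ψa := Functor.IsStronglyCartesian.fac _ _ _ _ _
  have hζf : 𝒳.p.obj ζf = Tf := IsHomLift.domain_eq 𝒳.p jf uo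
  obtain ⟨ζK, uk, huk⟩ := exists_lift g𝒳 hζf k
  -- the isomorphism extends
  let αy : f.obj ζ₀.1 ≅ f.obj ζ₂.1 := asIso ga ≪≫ (asIso gb).symm
  have hαy : 𝒴.p.IsHomLift (𝟙 (𝒳.p.obj ζ₀.1)) αy.hom := by
    rw [ζ₀.2]
    simp only [αy, Iso.trans_hom, Iso.symm_hom, asIso_hom, asIso_inv]
    infer_instance
  let oy : (fp f f).obj := Lib.Fibred.Fp.mkObj (F := f) (G := f) ζ₀.1 ζ₂.1 αy hαy
  have eσ' : f.map (uk ≫ uo) ≫ αy.hom = 𝟙 _ ≫ f.map (uk ≫ σ) := by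
    simp only [αy, Iso.trans_hom, Iso.symm_hom, asIso_hom, asIso_inv, Category.id_comp]
    rw [← Category.assoc, IsIso.comp_inv_eq, f.toFunctor.map_comp, f.toFunctor.map_comp, Category.assoc,
      Category.assoc]
    simp only [ga, gb]
    rw [← f.toFunctor.map_comp_assoc σ, eσ, f.toFunctor.map_comp_assoc]
  let hK : (diag f).obj ζK ⟶ oy := Lib.Fibred.Fp.mkHom (F := f) (G := f) (uk ≫ uo) (uk ≫ σ) eσ'
  have hkf : 𝒳.p.IsHomLift (specHom (algebraMap A' K') str₁) (uk ≫ uo) := by rw [← hk]; infer_instance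
  have hhK : (fp f f).p.IsHomLift (specHom (algebraMap A' K') str₁) hK :=
    (Lib.Fibred.Fp.isHomLift_iff _ _).2 hkf
  obtain ⟨z', v', h', hv', hh', eh'⟩ := hx A' K' str₁ ⟨oy, ζ₀.2⟩ ζK hK hhK
  let g₁ : z' ⟶ ζ₀.1 := h'.hom.fst
  let g₂ : z' ⟶ ζ₂.1 := h'.hom.snd
  have hg₁ : 𝒳.p.IsHomLift (𝟙 T₁) g₁ := (Lib.Fibred.Fp.isHomLift_iff h' _).1 hh'
  have hg₂ : 𝒳.p.IsHomLift (𝟙 T₁) g₂ := by
    have := hh'
    exact Lib.Fibred.Fp.isHomLift_snd h' (𝟙 T₁)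
  have := Lib.Fibred.StackLemmas.isIso_of_vertical g𝒳 g₁ hg₁
  have e₁ : v' ≫ g₁ = uk ≫ uo := congrArg (fun m => m.hom.fst) eh'
  have e₂ : v' ≫ g₂ = uk ≫ σ := congrArg (fun m => m.hom.snd) eh'
  let γ : ζ₀.1 ⟶ ζ₂.1 := inv g₁ ≫ g₂
  have hγ : 𝒳.p.IsHomLift (𝟙 T₁) γ := inferInstance
  have hγo : 𝒳.p.IsHomLift jf (uo ≫ γ) := IsHomLift.comp_lift_id_right' 𝒳.p jf uo T₁ γ
  have eγ : uo ≫ γ = σ := by
    obtain ⟨θ, hθ, eθ⟩ := exists_factor g𝒳 σ hσ (uo ≫ γ) hγo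
    have : θ = 𝟙 ζf := by
      refine vert_ext' g𝒳 hsX k hkinj hζf θ (𝟙 ζf) hθ (IsHomLift.id hζf) uk huk ?_
      refine ext_lift g𝒳 σ hσ (g := k) inferInstance
        (by rw [Category.comp_id]; exact huk) ?_
      rw [Category.assoc, eθ, Category.comp_id, ← e₂]
      simp only [γ]
      rw [← reassoc_of% e₁, IsIso.hom_inv_id_assoc]
    rw [← eθ, this, Category.id_comp]
  -- hence the glued object is constant
  obtain ⟨ζ', Q', hQ'⟩ := exists_lift g𝒳 ζ₂.2 pX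
  have := cart g𝒳 Q' hQ'
  have hla : 𝒳.p.IsHomLift (G.ja ≫ pX) γ := by rw [hpa]; exact hγ
  have hlb : 𝒳.p.IsHomLift (G.jb ≫ pX) (𝟙 ζ₂.1) := by rw [hpb]; exact IsHomLift.id ζ₂.2
  let ca' := Functor.IsStronglyCartesian.map 𝒳.p pX Q' (g := G.ja) rfl γ
  let cb' := Functor.IsStronglyCartesian.map 𝒳.p pX Q' (g := G.jb) rfl (𝟙 ζ₂.1)
  have hca' : 𝒳.p.IsHomLift G.ja ca' := Functor.IsStronglyCartesian.map_isHomLift _ _ _ _ _
  have hcb' : 𝒳.p.IsHomLift G.jb cb' := Functor.IsStronglyCartesian.map_isHomLift _ _ _ _ _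
  have hcab' : uo ≫ ca' = σ ≫ cb' := by
    refine ext_lift g𝒳 Q' hQ' (g := jf ≫ G.ja) inferInstance (by rw [G.isPB.w]; infer_instance) ?_
    simp only [ca', cb', Category.assoc, Functor.IsStronglyCartesian.fac, Category.comp_id]
    exact eγ
  obtain ⟨d', hd', -, -⟩ := Glue2.exists_desc (c := G.cov) (pa := uo) (pb := σ) g𝒳
    (Detect.stackFor h𝒳 G.cov_mem).2.1 ζ.2 (IsHomLift.domain_eq 𝒳.p pX Q') huo ψa ψb hψa hψb eσ.symm
    ca' cb' hca' hcb' hcab' hσ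
  have hdQ' : 𝒳.p.IsHomLift pX (d' ≫ Q') := IsHomLift.comp_lift_id_left' 𝒳.p G.pt d' pX Q'
  obtain ⟨hh₂, hhh₂⟩ := Cls.exists_hom φ.src (x' := ζ) (x := ζ₂) hdQ' c₁ c₂
  -- read off the extension
  let hh₂' : ξ ⟶ z₂ := hh₂
  have hhh₂' : 𝒳'.p.IsHomLift pX hh₂' := hhh₂
  let ga' : z ⟶ z₂ := φa ≫ hh₂'
  let gb' : z₂ ⟶ z₂ := φb ≫ hh₂'
  have hga' : 𝒳'.p.IsHomLift (𝟙 T₁) ga' := by rw [← hpa]; infer_instance
  have hgb' : 𝒳'.p.IsHomLift (𝟙 T₁) gb' := by rw [← hpb]; infer_instance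
  have := Lib.Fibred.StackLemmas.isIso_of_vertical g𝒳' gb' hgb'
  let γ' : z ⟶ z₂ := ga' ≫ inv gb'
  have hγ' : 𝒳'.p.IsHomLift (𝟙 T₁) γ' := inferInstance
  have eγ' : o₁ ≫ γ' = o₂ := by
    simp only [γ', ga', gb']
    rw [← Category.assoc, IsIso.comp_inv_eq, ← Category.assoc, hφ, Category.assoc]
  have hg : 𝒳'.p.IsHomLift fA (γ' ≫ r₂) := IsHomLift.comp_lift_id_left' 𝒳'.p T₁ γ' fA r₂
  have key : f'.map r ≫ α.hom = 𝟙 _ ≫ f'.map (γ' ≫ r₂) := by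
    rw [Category.id_comp]
    have lp : 𝒴'.p.IsHomLift fA (f'.map r ≫ α.hom) :=
      IsHomLift.comp_lift_id_right' 𝒴'.p fA (f'.map r) T α.hom
    have lq : 𝒴'.p.IsHomLift fA (f'.map (γ' ≫ r₂)) := BasedFunctor.preserves_isHomLift f' fA (γ' ≫ r₂)
    obtain ⟨θ, hθ, eθ⟩ := exists_factor g𝒴' (f'.map (γ' ≫ r₂)) lq (f'.map r ≫ α.hom) lp
    have : θ = 𝟙 (f'.obj z) := by
      refine vert_ext' g𝒴' hsY' jf hjfinj hfz θ (𝟙 _) hθ (IsHomLift.id hfz) (f'.map o₁) hfo₁ ?_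
      refine ext_lift g𝒴' (f'.map (γ' ≫ r₂)) lq (g := jf)
        (IsHomLift.comp_lift_id_right' 𝒴'.p jf (f'.map o₁) T₁ θ) (by rw [Category.comp_id]; exact hfo₁) ?_
      rw [Category.assoc, eθ, Category.comp_id, ← f'.toFunctor.map_comp, reassoc_of% eγ', eo₂,
        ← Category.assoc, ← f'.toFunctor.map_comp, eo₁, ew]
    rw [← eθ, this, Category.id_comp]
  let hO : (diag f').obj z ⟶ (⟨⟨x₁, x₂, α⟩, hα⟩ : (fp f' f').obj) :=
    Lib.Fibred.Fp.mkHom (F := f') (G := f') r (γ' ≫ r₂) key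
  have hhO : (fp f' f').p.IsHomLift fA hO := (Lib.Fibred.Fp.isHomLift_iff _ _).2 hr
  have hvK : 𝒳'.p.IsHomLift (specHom (algebraMap A' K') str₁) (vf ≫ o₁) := by rw [← hk]; infer_instance
  refine ⟨A', inferInstance, inferInstance, inferInstance, K', inferInstance, inferInstance, inferInstance,
    φA, κ, hc, hloc, jκ, hjκ, z, zK, rK, vf ≫ o₁, hO, hrK, hvK, hhO, ?_⟩
  refine Lib.Fibred.Fp.hom_ext ?_ ?_
  · change (vf ≫ o₁) ≫ r = rK ≫ h.hom.fst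
    rw [Category.assoc, eo₁]
    exact congrArg (fun m => m.hom.fst) ef
  · change (vf ≫ o₁) ≫ γ' ≫ r₂ = rK ≫ h.hom.snd
    rw [Category.assoc, reassoc_of% eγ', eo₂]
    exact congrArg (fun m => m.hom.snd) ef

end Groth.Agent.H14.IsoNat.ValIso
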