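import Groth.Agent.H14.IsoNat.ValSpread
import Groth.Agent.H14.IsoNat.PtDict

/-!
Properness of a morphism of stacks representable by spaces as extension of objects over valuation
rings, and spreading of objects over the fraction field.
-/

set_option autoImplicit false
set_option linter.style.haveILetI false
set_option backward.isDefEq.respectTransparency false
set_option backward.isDefEq.respectTransparency.types false

universe u

open CategoryTheory CategoryTheory.Limits AlgebraicGeometry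

namespace Groth.Agent.H14.IsoNat.ValRep

open Groth.Agent.Lib.AlgStack
open FibCat (IsFibGrpd overCat fpFst)
open AlgSt (spMapOfOver RepByAlgSpWith)
open AlgSp (Sp yon RepWith)
open Groth.Agent.Lib.Fibred.Descent
open ValExt (specHom exists_away)
open PtDict (toTaut toTaut_lift)

variable {S : Scheme.{u}} {𝒲 𝒵 : AlgSt.Cat S}

/-- Objects over the fraction field of a valuation ring with a morphism to a given object extend. -/
def ExtR (d : 𝒲 ⥤ᵇ 𝒵) : Prop :=
  ∀ (A : Type u) [CommRing A] [IsDomain A] [ValuationRing A] (K : Type u) [Field K] [Algebra A K]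
    [IsFractionRing A K] (str : Spec (CommRingCat.of A) ⟶ S) (o : 𝒵.p.Fiber (Over.mk str))
    (w : 𝒲.obj) (h : d.obj w ⟶ o.1), 𝒵.p.IsHomLift (specHom (algebraMap A K) str) h →
      ∃ (z : 𝒲.obj) (v : w ⟶ z) (h' : d.obj z ⟶ o.1),
        𝒲.p.IsHomLift (specHom (algebraMap A K) str) v ∧
        𝒵.p.IsHomLift (𝟙 (Over.mk str)) h' ∧ d.map v ≫ h' = h

/-- Objects over the fraction field of a valuation ring extend after a dominating extension. -/
def ExtRW (d : 𝒲 ⥤ᵇ 𝒵) : Prop :=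
  ∀ (A : Type u) [CommRing A] [IsDomain A] [ValuationRing A] (K : Type u) [Field K] [Algebra A K]
    [IsFractionRing A K] (str : Spec (CommRingCat.of A) ⟶ S) (o : 𝒵.p.Fiber (Over.mk str))
    (w : 𝒲.obj) (h : d.obj w ⟶ o.1), 𝒵.p.IsHomLift (specHom (algebraMap A K) str) h →
      ∃ (A' : Type u) (_ : CommRing A') (_ : IsDomain A') (_ : ValuationRing A') (K' : Type u)
        (_ : Field K') (_ : Algebra A' K') (_ : IsFractionRing A' K') (φ : A →+* A') (κ : K →+* K')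
        (_ : (algebraMap A' K').comp φ = κ.comp (algebraMap A K)) (_ : IsLocalHom φ)
        (jκ : Over.mk (Spec.map (CommRingCat.ofHom (algebraMap A' K')) ≫
            Spec.map (CommRingCat.ofHom φ) ≫ str) ⟶
          Over.mk (Spec.map (CommRingCat.ofHom (algebraMap A K)) ≫ str))
        (_ : jκ.left = Spec.map (CommRingCat.ofHom κ))
        (z zK : 𝒲.obj) (rK : zK ⟶ w) (vK : zK ⟶ z) (h' : d.obj z ⟶ o.1),
        𝒲.p.IsHomLift jκ rK ∧
        𝒲.p.IsHomLift (specHom (algebraMap A' K') (Spec.map (CommRingCat.ofHom φ) ≫ str)) vK ∧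
        𝒵.p.IsHomLift (specHom φ str) h' ∧ d.map vK ≫ h' = d.map rK ≫ h

variable {d : 𝒲 ⥤ᵇ 𝒵}

/-- Objects extend along a proper morphism. -/
theorem ext_of_proper (hW : IsFibGrpd 𝒲.p) (hZ : IsFibGrpd 𝒵.p)
    (hp : RepByAlgSpWith AlgSp.IsProperMor d) : ExtR d := by
  intro A _ _ _ K _ _ _ str o w h hh
  let T : Over S := Over.mk str
  let c : overCat T ⥤ᵇ 𝒵 := Yoneda.fromObj hZ o.2
  obtain ⟨ε, hε⟩ := Yoneda.exists_fromObj_iso hZ o.2
  have hεi : 𝒵.p.IsHomLift (𝟙 T) ε.inv := by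
    rw [show ε.inv = inv ε.hom by simp]; infer_instance
  let j := specHom (algebraMap A K) str
  have hdw := IsHomLift.domain_eq 𝒵.p j h
  let P : PtDict.Pt c d _ :=
    ⟨j, w, (d.w_obj w).symm.trans hdw, h ≫ ε.inv,
      IsHomLift.comp_lift_id_right' 𝒵.p j h T ε.inv⟩
  obtain ⟨G, eG, heG, hG⟩ := hp T c
  obtain ⟨g, hg⟩ := PtDict.exists_map hZ heG P
  have hγ := PtDict.comp_fst hg
  have hy : AlgSp.IsAlgSpace ((yon S).obj T) := AlgSp.IsAlgSpace.yon_obj T
  let X : AlgSp.Space S := ⟨G.obj, G.property⟩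
  let Y : AlgSp.Space S := ⟨(yon S).obj T, hy⟩
  let F : X ⟶ Y := ObjectProperty.homMk (spMapOfOver (BasedFunctor.comp eG (fpFst c d)))
  let sq : AlgSp.ValSq F.hom := ⟨A, K, str, g, 𝟙 _, hγ.trans (Category.comp_id _).symm⟩
  have hqs : AlgSp.IsQuasiSeparatedMor F.hom :=
    MorphismProperty.relative_monotone
      (fun (U V : Over S) (g : U ⟶ V) (hg : IsClosedImmersion g.left) =>
        (inferInstanceAs (QuasiCompact g.left))) _ hG.1
  obtain ⟨e, he⟩ := Groth.Agent.S10289.result F hqs hG.2.2 sq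
  obtain ⟨l, hl₁, hl₂⟩ := Lib.AlgSpVal.hasLift_of_domExt G.property hy hG.1 sq e he
  obtain ⟨⟨m, z, hz, u, hu⟩, hla⟩ := PtDict.exists_pt (c := c) (d := d) l
  have hm : (yon S).map m = (yon S).map (𝟙 T) := by
    rw [← PtDict.comp_fst hla]; exact hl₂.trans ((yon S).map_id T).symm
  obtain rfl : m = 𝟙 T := (yon S).map_injective hm
  obtain ⟨P', v, hm', hv, ev⟩ := PtDict.exists_pull hW j (⟨𝟙 T, z, hz, u, hu⟩ : PtDict.Pt c d T)
  have hl₁' : (yon S).map j ≫ l = g := hl₁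
  have r' : PtDict.Rel eG g P' := hl₁' ▸ PtDict.rel_comp hZ hW hla hm' v hv ev
  obtain ⟨-, q, hq, eq⟩ := PtDict.pt_unique hZ hW r' hg
  have ev' : d.map v ≫ u = P'.h := ev
  refine ⟨z, q ≫ v, u ≫ ε.hom, IsHomLift.comp_lift_id_left' 𝒲.p (Over.mk (Spec.map (CommRingCat.ofHom (algebraMap A K)) ≫ str)) q j v,
    IsHomLift.comp_lift_id_right' 𝒵.p (𝟙 T) u T ε.hom, ?_⟩
  rw [d.toFunctor.map_comp, Category.assoc, reassoc_of% ev', reassoc_of% eq]
  exact (Category.assoc h ε.inv ε.hom).trans ((congrArg (h ≫ ·) ε.inv_hom_id).trans (Category.comp_id h))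

/-- A morphism is proper when objects extend after extensions. -/
theorem proper_of_extW (hW : IsFibGrpd 𝒲.p) (hZ : IsFibGrpd 𝒵.p) (hx : ExtRW d)
    (hd : RepByAlgSpWith (AlgSp.IsSeparatedMor ⊓ AlgSp.IsQuasiCompactMor) d)
    (hl : RepByAlgSpWith (AlgSp.LocP @LocallyOfFiniteType) d) :
    RepByAlgSpWith AlgSp.IsProperMor d := by
  intro V y
  obtain ⟨G, e, he, ⟨hsep, hqc⟩, hft⟩ :=
    Sep.Main4.repByAlgSpWith_inf (Sep.SpProps.stableBC_locP Sep.SpProps.lft) hd hl V y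
  refine ⟨G, e, he, hsep, ⟨hft, hqc⟩, ?_⟩
  have hy : AlgSp.IsAlgSpace ((yon S).obj V) := AlgSp.IsAlgSpace.yon_obj V
  let X : AlgSp.Space S := ⟨G.obj, G.property⟩
  let Y : AlgSp.Space S := ⟨(yon S).obj V, hy⟩
  let F : X ⟶ Y := ObjectProperty.homMk (spMapOfOver (BasedFunctor.comp e (fpFst y d)))
  refine Lib.AlgSpVal.isUnivClosedMor_of_existVC F hqc fun sq => ?_
  obtain ⟨β, hβ⟩ := (yon S).map_surjective sq.bot
  obtain ⟨⟨m, w, hw, u, hu⟩, hq⟩ := PtDict.exists_pt (c := y) (d := d) sq.top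
  obtain rfl : m = sq.j ≫ β := (yon S).map_injective (by
    rw [← PtDict.comp_fst hq, Functor.map_comp, hβ]; exact sq.comm)
  let o : 𝒵.p.Fiber sq.ptA := Functor.Fiber.mk (a := y.obj (Over.mk β)) (y.w_obj (Over.mk β))
  have hb := toTaut_lift y β
  have := cart hZ (toTaut y β) hb
  let h₀ : d.obj w ⟶ y.obj (Over.mk β) :=
    Functor.IsStronglyCartesian.map 𝒵.p β (toTaut y β) (g := sq.j) rfl u
  have hh₀ : 𝒵.p.IsHomLift (specHom (algebraMap sq.A sq.K) sq.str) h₀ :=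
    Functor.IsStronglyCartesian.map_isHomLift _ _ _ _ _
  have eh₀ : h₀ ≫ toTaut y β = u := Functor.IsStronglyCartesian.fac _ _ _ _ _
  obtain ⟨A', _, _, _, K', _, _, _, φ, κ, hc, hloc, jκ, hjκ, z, zK, rK, vK, h', hrK, hvK, hh', e₂⟩ :=
    hx sq.A sq.K sq.str o w h₀ hh₀
  let ext : sq.DomExt := { A' := A', K' := K', φ := φ, ψ := κ, comm := hc, isLocalHom := hloc }
  let fA : ext.ptA' ⟶ sq.ptA := specHom φ sq.str
  let jA : ext.ptK' ⟶ ext.ptA' := specHom (algebraMap A' K') (Spec.map (CommRingCat.ofHom φ) ≫ sq.str)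
  let jK : ext.ptK' ⟶ sq.ptK := jκ
  have hsq : jA ≫ fA = jK ≫ sq.j := by
    ext1
    change Spec.map _ ≫ Spec.map _ = jκ.left ≫ Spec.map _
    rw [hjκ, ← Spec.map_comp, ← Spec.map_comp, ← CommRingCat.ofHom_comp, ← CommRingCat.ofHom_comp, hc]
  have hh'' : 𝒵.p.IsHomLift fA h' := hh'
  have hz : 𝒲.p.obj z = ext.ptA' := IsHomLift.codomain_eq 𝒲.p jA vK
  let P₁ : PtDict.Pt y d ext.ptA' :=
    ⟨fA ≫ β, z, hz, h' ≫ toTaut y β, IsHomLift.comp 𝒵.p fA β h' (toTaut y β)⟩
  obtain ⟨l, hl'⟩ := PtDict.exists_map hZ he P₁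
  have hdK : 𝒵.p.IsHomLift jK (d.map rK) := BasedFunctor.preserves_isHomLift d jK rK
  let P₂ : PtDict.Pt y d ext.ptK' :=
    ⟨jK ≫ sq.j ≫ β, zK, IsHomLift.domain_eq 𝒲.p jκ rK, d.map rK ≫ u,
      IsHomLift.comp 𝒵.p jK (sq.j ≫ β) (d.map rK) u⟩
  have r₁ : PtDict.Rel e ((yon S).map jA ≫ l) P₂ :=
    PtDict.rel_comp hZ hW hl' (by
        change jK ≫ sq.j ≫ β = jA ≫ fA ≫ β
        rw [← Category.assoc jA, hsq, Category.assoc]) vK hvK (by
        change d.map vK ≫ h' ≫ toTaut y β = d.map rK ≫ u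
        rw [reassoc_of% e₂, eh₀])
  have r₂ : PtDict.Rel e ((yon S).map jK ≫ sq.top) P₂ :=
    PtDict.rel_comp hZ hW hq rfl rK hrK rfl
  refine ⟨ext, l, ?_, ?_⟩
  · refine (PtDict.map_unique hZ hW he r₁ r₂).trans ?_
    congr 2
    ext1
    exact hjκ
  · refine (PtDict.comp_fst hl').trans ?_
    rw [Functor.map_comp, hβ]
    rfl

/-- An object over the fraction field spreads out after an extension. -/
theorem exists_spread (hW : IsFibGrpd 𝒲.p) (hZ : IsFibGrpd 𝒵.p)
    (hl : RepByAlgSpWith (AlgSp.LocP @LocallyOfFiniteType) d)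
    {A : Type u} [CommRing A] [IsDomain A] [ValuationRing A] {K : Type u} [Field K] [Algebra A K]
    [IsFractionRing A K] (str : Spec (CommRingCat.of A) ⟶ S) (o : 𝒵.p.Fiber (Over.mk str))
    {w : 𝒲.obj} (h : d.obj w ⟶ o.1) (hh : 𝒵.p.IsHomLift (specHom (algebraMap A K) str) h) :
    ∃ (A' : Type u) (_ : CommRing A') (_ : IsDomain A') (_ : ValuationRing A') (K' : Type u)
      (_ : Field K') (_ : Algebra A' K') (_ : IsFractionRing A' K') (φ : A →+* A') (κ : K →+* K')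
      (_ : (algebraMap A' K').comp φ = κ.comp (algebraMap A K)) (_ : IsLocalHom φ)
      (jκ : Over.mk (Spec.map (CommRingCat.ofHom (algebraMap A' K')) ≫
          Spec.map (CommRingCat.ofHom φ) ≫ str) ⟶
        Over.mk (Spec.map (CommRingCat.ofHom (algebraMap A K)) ≫ str))
      (_ : jκ.left = Spec.map (CommRingCat.ofHom κ))
      (f : A') (_ : f ≠ 0)
      (k : Over.mk (Spec.map (CommRingCat.ofHom (algebraMap A' K')) ≫
          Spec.map (CommRingCat.ofHom φ) ≫ str) ⟶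
        Over.mk (Spec.map (CommRingCat.ofHom (algebraMap A' (Localization.Away f))) ≫
          Spec.map (CommRingCat.ofHom φ) ≫ str))
      (_ : k ≫ specHom (algebraMap A' (Localization.Away f)) (Spec.map (CommRingCat.ofHom φ) ≫ str) =
        specHom (algebraMap A' K') (Spec.map (CommRingCat.ofHom φ) ≫ str))
      (_ : Function.Injective k.left.appTop)
      (zf zK : 𝒲.obj) (hf : d.obj zf ⟶ o.1) (vf : zK ⟶ zf) (rK : zK ⟶ w),
      𝒵.p.IsHomLift (specHom (algebraMap A' (Localization.Away f))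
        (Spec.map (CommRingCat.ofHom φ) ≫ str) ≫ specHom φ str) hf ∧
      𝒲.p.IsHomLift k vf ∧ 𝒲.p.IsHomLift jκ rK ∧ d.map vf ≫ hf = d.map rK ≫ h := by
  let T : Over S := Over.mk str
  let c : overCat T ⥤ᵇ 𝒵 := Yoneda.fromObj hZ o.2
  obtain ⟨ε, hε⟩ := Yoneda.exists_fromObj_iso hZ o.2
  have hεi : 𝒵.p.IsHomLift (𝟙 T) ε.inv := by
    rw [show ε.inv = inv ε.hom by simp]; infer_instance
  let j := specHom (algebraMap A K) str
  have hdw := IsHomLift.domain_eq 𝒵.p j h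
  let P : PtDict.Pt c d _ :=
    ⟨j, w, (d.w_obj w).symm.trans hdw, h ≫ ε.inv,
      IsHomLift.comp_lift_id_right' 𝒵.p j h T ε.inv⟩
  obtain ⟨G, eG, heG, hG⟩ := hl T c
  obtain ⟨g, hg⟩ := PtDict.exists_map hZ heG P
  have hγ := PtDict.comp_fst hg
  -- an etale chart through the point
  obtain ⟨U, π, hπ, hπs⟩ := G.property.atlas
  obtain ⟨W, p, q, sqW⟩ := Lib.AlgSpace.exists_isPullback_yon G.property.diag π g
  have : Surjective q.left := Lib.AlgSpace.repWith_property hπs sqW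
  obtain ⟨w₀, -⟩ := q.left.surjective (IsLocalRing.closedPoint K)
  obtain ⟨m, hm⟩ := (yon S).map_surjective (π ≫ spMapOfOver (BasedFunctor.comp eG (fpFst c d)))
  have hlft : LocallyOfFiniteType m.left :=
    hG π (𝟙 _) m hπ (AlgSp.repWith_id _ _) (by rw [Category.comp_id, hm])
  have hpm : p ≫ m = q ≫ j := (yon S).map_injective (by
    rw [Functor.map_comp, Functor.map_comp, hm, reassoc_of% sqW.w, hγ])
  let L : Type u := W.left.residueField w₀
  let pL : Spec (W.left.residueField w₀) ⟶ W.left := W.left.fromSpecResidueField w₀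
  obtain ⟨κ', hκ'⟩ := Spec.map_surjective (pL ≫ q.left)
  let κ : K →+* L := κ'.hom
  obtain ⟨A₁, hA₁, hloc⟩ := IsLocalRing.exists_factor_valuationRing (κ.comp (algebraMap A K))
  let φ : A →+* A₁ := (κ.comp (algebraMap A K)).codRestrict _ hA₁
  have hcomm : (algebraMap A₁ L).comp φ = κ.comp (algebraMap A K) := RingHom.ext fun _ => rfl
  let u : Spec (CommRingCat.of L) ⟶ U.left := pL ≫ p.left
  have hum : u ≫ m.left = Spec.map (CommRingCat.ofHom ((algebraMap A₁ L).comp φ)) := by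
    rw [hcomm, CommRingCat.ofHom_comp, Spec.map_comp,
      show Spec.map (CommRingCat.ofHom κ) = pL ≫ q.left from hκ']
    simp only [u, Category.assoc]
    exact congrArg (fun n : W ⟶ T => pL ≫ n.left) hpm
  obtain ⟨W₀, hW₀, hu₀, -⟩ := exists_isAffineOpen_mem_and_subset
    (x := u (IsLocalRing.closedPoint L)) (U := (⊤ : U.left.Opens)) trivial
  obtain ⟨χ, hχ⟩ := Lib.DvrCrit.exists_chart (R := CommRingCat.of L) u hW₀ hu₀
  have hTa : IsAffine T.left := inferInstanceAs (IsAffine (Spec (CommRingCat.of A)))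
  have hTop : IsAffineOpen (⊤ : T.left.Opens) := isAffineOpen_top _
  have hle : W₀ ≤ m.left ⁻¹ᵁ ⊤ := le_top
  have hft := m.left.finiteType_appLE hTop hW₀ hle
  have hbase : ∀ r, χ.hom ((m.left.appLE ⊤ W₀ hle).hom r) ∈ (algebraMap A₁ L).range := by
    intro r
    have e : m.left.appLE ⊤ W₀ hle ≫ χ =
        (Scheme.ΓSpecIso (CommRingCat.of A)).hom ≫ CommRingCat.ofHom ((algebraMap A₁ L).comp φ) := by
      refine Lib.DvrCrit.chart_ext hTop _ _ ?_
      rw [Lib.DvrCrit.chart_comp m.left hW₀ hTop hle χ, hχ, hum, Spec.map_comp, Category.assoc,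
        IsAffineOpen.fromSpec_top]
      erw [Scheme.isoSpec_Spec_inv]
      rw [← Spec.map_comp, Iso.inv_hom_id, Spec.map_id, Category.comp_id]
    exact ⟨φ ((Scheme.ΓSpecIso (CommRingCat.of A)).hom r),
      (RingHom.congr_fun (congrArg CommRingCat.Hom.hom e) r).symm⟩
  obtain ⟨f, hf, lf, hlf, hlinj, hrange⟩ := exists_away (A := A₁) χ.hom _ hft hbase
  choose τ hτ using hrange
  let τ' : Γ(U.left, W₀) →+* Localization.Away f :=
    { toFun := τ
      map_one' := hlinj (by simp [hτ])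
      map_zero' := hlinj (by simp [hτ])
      map_add' := fun a b => hlinj (by simp [hτ])
      map_mul' := fun a b => hlinj (by simp [hτ]) }
  have hτ' : lf.comp τ' = χ.hom := RingHom.ext hτ
  let str₁ : Spec (CommRingCat.of A₁) ⟶ S := Spec.map (CommRingCat.ofHom φ) ≫ str
  let TK : Over S := Over.mk (Spec.map (CommRingCat.ofHom (algebraMap A₁ L)) ≫ str₁)
  let Tf : Over S := Over.mk (Spec.map (CommRingCat.ofHom (algebraMap A₁ (Localization.Away f))) ≫ str₁)
  let jf : Tf ⟶ Over.mk str₁ := specHom (algebraMap A₁ (Localization.Away f)) str₁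
  let fA : Over.mk str₁ ⟶ T := specHom φ str
  have hk : Spec.map (CommRingCat.ofHom lf) ≫ Spec.map (CommRingCat.ofHom (algebraMap A₁ _)) =
      Spec.map (CommRingCat.ofHom (algebraMap A₁ L)) := by
    rw [← Spec.map_comp, ← CommRingCat.ofHom_comp, hlf]
  let k : TK ⟶ Tf := Over.homMk (Spec.map (CommRingCat.ofHom lf)) (by
    change Spec.map _ ≫ Spec.map _ ≫ str₁ = Spec.map _ ≫ str₁
    rw [reassoc_of% hk])
  let jκ : TK ⟶ Over.mk (Spec.map (CommRingCat.ofHom (algebraMap A K)) ≫ str) :=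
    Over.homMk (Spec.map (CommRingCat.ofHom κ)) (by
      change Spec.map _ ≫ Spec.map _ ≫ str = Spec.map _ ≫ Spec.map _ ≫ str
      rw [← Spec.map_comp_assoc, ← Spec.map_comp_assoc, ← CommRingCat.ofHom_comp,
        ← CommRingCat.ofHom_comp, hcomm])
  have hkj : k ≫ jf = specHom (algebraMap A₁ L) str₁ := by ext1; exact hk
  have huf : Spec.map (CommRingCat.ofHom lf) ≫ Spec.map (CommRingCat.ofHom τ') ≫ hW₀.fromSpec = u := by
    rw [← Category.assoc, ← Spec.map_comp, ← CommRingCat.ofHom_comp, hτ']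
    exact hχ
  have hfm : (Spec.map (CommRingCat.ofHom τ') ≫ hW₀.fromSpec) ≫ m.left =
      Spec.map (CommRingCat.ofHom (algebraMap A₁ (Localization.Away f))) ≫
        Spec.map (CommRingCat.ofHom φ) := by
    obtain ⟨ρ, hρ⟩ := Spec.map_surjective ((Spec.map (CommRingCat.ofHom τ') ≫ hW₀.fromSpec) ≫ m.left)
    rw [← hρ, ← Spec.map_comp]
    refine congrArg Spec.map (CommRingCat.hom_ext (RingHom.ext fun a => hlinj ?_))
    have e : Spec.map (CommRingCat.ofHom lf) ≫ Spec.map ρ =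
        Spec.map (CommRingCat.ofHom ((algebraMap A₁ L).comp φ)) := by
      rw [hρ, Category.assoc, reassoc_of% huf, hum]
    rw [← Spec.map_comp] at e
    exact (RingHom.congr_fun (congrArg CommRingCat.Hom.hom (Spec.map_injective e)) a).trans
      (RingHom.congr_fun hlf (φ a)).symm
  let uf : Tf ⟶ U := Over.homMk (Spec.map (CommRingCat.ofHom τ') ≫ hW₀.fromSpec) (by
    rw [← Over.w m, ← Category.assoc, hfm, Category.assoc]
    rfl)
  have hufm : uf ≫ m = jf ≫ fA := by ext1; exact hfm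
  obtain ⟨⟨mt, zf, hzf, uu, huu⟩, hgt⟩ := PtDict.exists_pt (c := c) (d := d) ((yon S).map uf ≫ π)
  obtain rfl : mt = jf ≫ fA := (yon S).map_injective (by
    rw [← PtDict.comp_fst hgt, Category.assoc, ← hm, ← Functor.map_comp, hufm])
  let wL : TK ⟶ W := Over.homMk pL (by
    rw [← Over.w q, ← Category.assoc, show pL ≫ q.left = Spec.map (CommRingCat.ofHom κ) from hκ'.symm]
    exact Over.w jκ)
  have hwL : wL ≫ q = jκ := by ext1; exact hκ'.symm
  have hwp : wL ≫ p = k ≫ uf := by ext1; exact huf.symm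
  have hgg : (yon S).map k ≫ (yon S).map uf ≫ π = (yon S).map jκ ≫ g := by
    rw [← Functor.map_comp_assoc, ← hwp, ← hwL, Functor.map_comp, Functor.map_comp, Category.assoc,
      Category.assoc, sqW.w]
  obtain ⟨P₁, v₁, hm₁, hv₁, ev₁⟩ := PtDict.exists_pull hW k (⟨jf ≫ fA, zf, hzf, uu, huu⟩ : PtDict.Pt c d Tf)
  obtain ⟨P₂, v₂, hm₂, hv₂, ev₂⟩ := PtDict.exists_pull hW jκ P
  have r₁ := PtDict.rel_comp hZ hW hgt hm₁ v₁ hv₁ ev₁
  rw [hgg] at r₁
  obtain ⟨-, v, hv, ev⟩ := PtDict.pt_unique hZ hW r₁ (PtDict.rel_comp hZ hW hg hm₂ v₂ hv₂ ev₂)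
  have ev₁' : d.map v₁ ≫ uu = P₁.h := ev₁
  have ev₂' : d.map v₂ ≫ h ≫ ε.inv = P₂.h := ev₂
  refine ⟨A₁, inferInstance, inferInstance, inferInstance, L, inferInstance, inferInstance, inferInstance,
    φ, κ, hcomm, hloc, jκ, rfl, f, hf, k, hkj, H9.Val.appTop_specMap_injective (CommRingCat.ofHom lf) hlinj,
    zf, P₂.w, uu ≫ ε.hom, v ≫ v₁, v₂, IsHomLift.comp_lift_id_right' 𝒵.p (jf ≫ fA) uu T ε.hom,
    IsHomLift.comp_lift_id_left' 𝒲.p TK v k v₁, hv₂, ?_⟩
  rw [d.toFunctor.map_comp, Category.assoc, reassoc_of% ev₁', reassoc_of% ev, ← ev₂']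
  rw [Category.assoc, Category.assoc, Iso.inv_hom_id, Category.comp_id]

end Groth.Agent.H14.IsoNat.ValRep
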