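import Groth.Agent.H14.IsoNat.ValExt
import Groth.Agent.Lib.DvrCrit.Basic

/-!
An automorphism over the fraction field of a valuation ring spreads to an open subscheme after a
dominating extension.
-/

set_option autoImplicit false
set_option linter.style.haveILetI false
set_option backward.isDefEq.respectTransparency false
set_option backward.isDefEq.respectTransparency.types false

universe u

open CategoryTheory CategoryTheory.Limits AlgebraicGeometry

namespace Groth.Agent.H14.IsoNat.ValExt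

open Groth.Agent.Lib.AlgStack
open FibCat (IsFibGrpd overCat fpFst toSelf inertiaToBase)
open AlgSt (spMapOfOver RepByAlgSpWith)
open AlgSp (Sp yon RepWith)
open Groth.Agent.Lib.Fibred.Descent

/-- Finitely many elements of the fraction field of a domain lie in the localisation at one element. -/
theorem exists_away {A B L : Type u} [CommRing A] [CommRing B] [Field L]
    [Algebra A L] [IsFractionRing A L] (g : B →+* L) {B₀ : Type u} [CommRing B₀] (ι : B₀ →+* B)
    (hft : ι.FiniteType) (hB₀ : ∀ r, g (ι r) ∈ (algebraMap A L).range) :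
    ∃ (f : A) (_ : f ≠ 0) (lf : Localization.Away f →+* L),
      lf.comp (algebraMap A (Localization.Away f)) = algebraMap A L ∧ Function.Injective lf ∧
        ∀ b, g b ∈ lf.range := by
  classical
  letI := ι.toAlgebra
  obtain ⟨t, ht⟩ := (hft : Algebra.FiniteType B₀ B).out
  choose a d hd had using fun b : B => IsFractionRing.div_surjective A (g b)
  have : IsDomain A := (IsFractionRing.injective A L).isDomain
  let f : A := ∏ b ∈ t, d b
  have hf : f ≠ 0 := Finset.prod_ne_zero_iff.2 fun b _ => nonZeroDivisors.ne_zero (hd b)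
  have hfu : IsUnit (algebraMap A L f) :=
    isUnit_iff_ne_zero.2 ((map_ne_zero_iff _ (IsFractionRing.injective A L)).2 hf)
  let lf : Localization.Away f →+* L := IsLocalization.Away.lift f hfu
  have hlf : lf.comp (algebraMap A (Localization.Away f)) = algebraMap A L := IsLocalization.Away.lift_comp _ _
  refine ⟨f, hf, lf, hlf, ?_, fun b => ?_⟩
  · intro x y e
    obtain ⟨n, p, hp⟩ := IsLocalization.Away.surj f x
    obtain ⟨m, q, hq⟩ := IsLocalization.Away.surj f y
    have hfn : ∀ k, IsUnit (algebraMap A (Localization.Away f) f ^ k) := fun k =>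
      (IsLocalization.Away.algebraMap_isUnit f).pow k
    have e1 := congrArg lf hp
    have e2 := congrArg lf hq
    have e3 : algebraMap A L (p * f ^ m) = algebraMap A L (q * f ^ n) := by
      have c := RingHom.congr_fun hlf
      simp only [RingHom.comp_apply] at c
      simp only [map_mul, map_pow, c] at e1 e2 ⊢
      rw [← e1, ← e2, e]
      ring
    have e4 := congrArg (algebraMap A (Localization.Away f)) (IsFractionRing.injective A L e3)
    simp only [map_mul, map_pow] at e4
    rw [← hp, ← hq] at e4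
    exact ((hfn n).mul (hfn m)).mul_left_inj.1 (by linear_combination e4)
  · have hb : b ∈ Algebra.adjoin B₀ (t : Set B) := ht ▸ Algebra.mem_top
    induction hb using Algebra.adjoin_induction with
    | mem y hy =>
      obtain ⟨c, hc⟩ : d y ∣ f := Finset.dvd_prod_of_mem _ hy
      refine ⟨algebraMap A _ (a y * c) * IsLocalization.Away.invSelf f, ?_⟩
      have c' := RingHom.congr_fun hlf
      simp only [RingHom.comp_apply] at c'
      have hinv : algebraMap A L f * lf (IsLocalization.Away.invSelf f) = 1 := by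
        rw [← c', ← map_mul, IsLocalization.Away.mul_invSelf, map_one]
      have hd' : algebraMap A L (d y) ≠ 0 :=
        (map_ne_zero_iff _ (IsFractionRing.injective A L)).2 (nonZeroDivisors.ne_zero (hd y))
      rw [map_mul, c', ← had y, eq_div_iff hd']
      rw [map_mul]
      have hf' : algebraMap A L f = algebraMap A L (d y) * algebraMap A L c :=
        (congrArg (algebraMap A L) hc).trans (map_mul _ _ _)
      rw [hf'] at hinv
      linear_combination (algebraMap A L (a y)) * hinv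
    | algebraMap r =>
      obtain ⟨x, hx⟩ := hB₀ r
      exact ⟨algebraMap A _ x, (RingHom.congr_fun hlf x).trans hx⟩
    | add y y' _ _ h h' => rw [map_add]; exact add_mem h h'
    | mul y y' _ _ h h' => rw [map_mul]; exact mul_mem h h'

variable {S : Scheme.{u}} {𝒳 : AlgSt.Cat S}

/-- An automorphism over the fraction field spreads out after an extension. -/
theorem exists_spread (h : IsFibGrpd 𝒳.p)
    (hi : RepByAlgSpWith (AlgSp.LocP @LocallyOfFinitePresentation) (inertiaToBase (toSelf 𝒳)))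
    {A : Type u} [CommRing A] [IsDomain A] [ValuationRing A] {K : Type u} [Field K] [Algebra A K]
    [IsFractionRing A K] (str : Spec (CommRingCat.of A) ⟶ S) (η : 𝒳.p.Fiber (Over.mk str))
    {x : 𝒳.obj} (ψ : x ⟶ η.1) (hψ : 𝒳.p.IsHomLift (specHom (algebraMap A K) str) ψ) (s : x ⟶ x)
    (hs : 𝒳.p.IsHomLift (𝟙 (Over.mk (Spec.map (CommRingCat.ofHom (algebraMap A K)) ≫ str))) s) :
    ∃ (A' : Type u) (_ : CommRing A') (_ : IsDomain A') (_ : ValuationRing A') (K' : Type u)
      (_ : Field K') (_ : Algebra A' K') (_ : IsFractionRing A' K') (φ : A →+* A') (κ : K →+* K')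
      (_ : (algebraMap A' K').comp φ = κ.comp (algebraMap A K)) (_ : IsLocalHom φ)
      (jκ : Over.mk (Spec.map (CommRingCat.ofHom (algebraMap A' K')) ≫
          Spec.map (CommRingCat.ofHom φ) ≫ str) ⟶
        Over.mk (Spec.map (CommRingCat.ofHom (algebraMap A K)) ≫ str))
      (_ : jκ.left = Spec.map (CommRingCat.ofHom κ))
      (f : A') (_ : f ≠ 0)
      (k : Over.mk (Spec.map (CommRingCat.ofHom (algebraMap A' K')) ≫
          Spec.map (CommRingCat.ofHom φ) ≫ str) ⟶
        Over.mk (Spec.map (CommRingCat.ofHom (algebraMap A' (Localization.Away f))) ≫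
          Spec.map (CommRingCat.ofHom φ) ≫ str))
      (_ : k ≫ specHom (algebraMap A' (Localization.Away f)) (Spec.map (CommRingCat.ofHom φ) ≫ str) =
        specHom (algebraMap A' K') (Spec.map (CommRingCat.ofHom φ) ≫ str))
      (_ : Function.Injective k.left.appTop)
      (z zf zK : 𝒳.obj) (r : z ⟶ η.1) (o : zf ⟶ z) (vf : zK ⟶ zf) (rK : zK ⟶ x) (sf : zf ⟶ zf),
      𝒳.p.IsHomLift (specHom φ str) r ∧
      𝒳.p.IsHomLift (specHom (algebraMap A' (Localization.Away f))
        (Spec.map (CommRingCat.ofHom φ) ≫ str)) o ∧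
      𝒳.p.IsHomLift k vf ∧ 𝒳.p.IsHomLift jκ rK ∧
      𝒳.p.IsHomLift (𝟙 (Over.mk (Spec.map (CommRingCat.ofHom (algebraMap A' (Localization.Away f))) ≫
        Spec.map (CommRingCat.ofHom φ) ≫ str))) sf ∧ vf ≫ o ≫ r = rK ≫ ψ ∧ vf ≫ sf ≫ o ≫ r = rK ≫ s ≫ ψ := by
  let T : Over S := Over.mk str
  let c : overCat T ⥤ᵇ 𝒳 := Yoneda.fromObj h η.2
  obtain ⟨ε, hε⟩ := Yoneda.exists_fromObj_iso h η.2
  have hεi : 𝒳.p.IsHomLift (𝟙 T) ε.inv := by
    rw [show ε.inv = inv ε.hom by simp]; infer_instance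
  let j := specHom (algebraMap A K) str
  let mk' : Over.mk j ⟶ Over.mk (𝟙 T) := Over.homMk j (by simp)
  have h1 : 𝒳.p.IsHomLift j (c.map mk') := Yoneda.map_isHomLift c mk'
  have h2 : 𝒳.p.IsHomLift j (c.map mk' ≫ ε.hom) := inferInstance
  obtain ⟨θ, hθ, eθ⟩ := exists_factor h ψ hψ _ h2
  have := Lib.Fibred.StackLemmas.isIso_of_vertical h θ hθ
  let q : InDict.AutTri c _ := ⟨j, θ ≫ s ≫ inv θ, inferInstance⟩
  obtain ⟨G, eG, heG, hG⟩ := hi T c
  obtain ⟨g, hg⟩ := InDict.exists_map h heG q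
  have hγ := InDict.comp_fst h hg
  -- an etale chart through the point
  obtain ⟨U, π, hπ, hπs⟩ := G.property.atlas
  obtain ⟨W, p, w, sqW⟩ := Lib.AlgSpace.exists_isPullback_yon G.property.diag π g
  have : Surjective w.left := Lib.AlgSpace.repWith_property hπs sqW
  obtain ⟨w₀, -⟩ := w.left.surjective (IsLocalRing.closedPoint K)
  obtain ⟨m, hm⟩ := (yon S).map_surjective (π ≫ spMapOfOver (BasedFunctor.comp eG
    (fpFst c (inertiaToBase (toSelf 𝒳)))))
  have hlfp : LocallyOfFinitePresentation m.left :=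
    hG π (𝟙 _) m hπ (AlgSp.repWith_id _ _) (by rw [Category.comp_id, hm])
  have hpm : p ≫ m = w ≫ j := (yon S).map_injective (by
    rw [Functor.map_comp, Functor.map_comp, hm, reassoc_of% sqW.w, hγ])
  let L : Type u := W.left.residueField w₀
  let pL : Spec (W.left.residueField w₀) ⟶ W.left := W.left.fromSpecResidueField w₀
  obtain ⟨κ', hκ'⟩ := Spec.map_surjective (pL ≫ w.left)
  let κ : K →+* L := κ'.hom
  obtain ⟨A₁, hA₁, hloc⟩ := IsLocalRing.exists_factor_valuationRing (κ.comp (algebraMap A K))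
  let φ : A →+* A₁ := (κ.comp (algebraMap A K)).codRestrict _ hA₁
  have hcomm : (algebraMap A₁ L).comp φ = κ.comp (algebraMap A K) := RingHom.ext fun _ => rfl
  let u : Spec (CommRingCat.of L) ⟶ U.left := pL ≫ p.left
  have hum : u ≫ m.left = Spec.map (CommRingCat.ofHom ((algebraMap A₁ L).comp φ)) := by
    rw [hcomm, CommRingCat.ofHom_comp, Spec.map_comp,
      show Spec.map (CommRingCat.ofHom κ) = pL ≫ w.left from hκ']
    simp only [u, Category.assoc]
    exact congrArg (fun n : W ⟶ T => pL ≫ n.left) hpm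
  obtain ⟨W₀, hW₀, hu₀, -⟩ := exists_isAffineOpen_mem_and_subset
    (x := u (IsLocalRing.closedPoint L)) (U := (⊤ : U.left.Opens)) trivial
  obtain ⟨χ, hχ⟩ := Lib.DvrCrit.exists_chart (R := CommRingCat.of L) u hW₀ hu₀
  have hTa : IsAffine T.left := inferInstanceAs (IsAffine (Spec (CommRingCat.of A)))
  have hTop : IsAffineOpen (⊤ : T.left.Opens) := isAffineOpen_top _
  have hle : W₀ ≤ m.left ⁻¹ᵁ ⊤ := le_top
  have hft := m.left.finiteType_appLE hTop hW₀ hle
  have hbase : ∀ r, χ.hom ((m.left.appLE ⊤ W₀ hle).hom r) ∈ (algebraMap A₁ L).range := by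
    intro r
    have e : m.left.appLE ⊤ W₀ hle ≫ χ =
        (Scheme.ΓSpecIso (CommRingCat.of A)).hom ≫ CommRingCat.ofHom ((algebraMap A₁ L).comp φ) := by
      refine Lib.DvrCrit.chart_ext hTop _ _ ?_
      rw [Lib.DvrCrit.chart_comp m.left hW₀ hTop hle χ, hχ, hum, Spec.map_comp, Category.assoc,
        IsAffineOpen.fromSpec_top]
      erw [Scheme.isoSpec_Spec_inv]
      rw [← Spec.map_comp, Iso.inv_hom_id, Spec.map_id, Category.comp_id]
    exact ⟨φ ((Scheme.ΓSpecIso (CommRingCat.of A)).hom r),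
      (RingHom.congr_fun (congrArg CommRingCat.Hom.hom e) r).symm⟩
  obtain ⟨f, hf, lf, hlf, hlinj, hrange⟩ := exists_away (A := A₁) χ.hom _ hft hbase
  choose τ hτ using hrange
  let τ' : Γ(U.left, W₀) →+* Localization.Away f :=
    { toFun := τ
      map_one' := hlinj (by simp [hτ])
      map_zero' := hlinj (by simp [hτ])
      map_add' := fun a b => hlinj (by simp [hτ])
      map_mul' := fun a b => hlinj (by simp [hτ]) }
  have hτ' : lf.comp τ' = χ.hom := RingHom.ext hτ
  let str₁ : Spec (CommRingCat.of A₁) ⟶ S := Spec.map (CommRingCat.ofHom φ) ≫ str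
  let TK : Over S := Over.mk (Spec.map (CommRingCat.ofHom (algebraMap A₁ L)) ≫ str₁)
  let Tf : Over S := Over.mk (Spec.map (CommRingCat.ofHom (algebraMap A₁ (Localization.Away f))) ≫ str₁)
  let jf : Tf ⟶ Over.mk str₁ := specHom (algebraMap A₁ (Localization.Away f)) str₁
  let fA : Over.mk str₁ ⟶ T := specHom φ str
  have hk : Spec.map (CommRingCat.ofHom lf) ≫ Spec.map (CommRingCat.ofHom (algebraMap A₁ _)) =
      Spec.map (CommRingCat.ofHom (algebraMap A₁ L)) := by
    rw [← Spec.map_comp, ← CommRingCat.ofHom_comp, hlf]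
  let k : TK ⟶ Tf := Over.homMk (Spec.map (CommRingCat.ofHom lf)) (by
    change Spec.map _ ≫ Spec.map _ ≫ str₁ = Spec.map _ ≫ str₁
    rw [reassoc_of% hk])
  let jκ : TK ⟶ Over.mk (Spec.map (CommRingCat.ofHom (algebraMap A K)) ≫ str) :=
    Over.homMk (Spec.map (CommRingCat.ofHom κ)) (by
      change Spec.map _ ≫ Spec.map _ ≫ str = Spec.map _ ≫ Spec.map _ ≫ str
      rw [← Spec.map_comp_assoc, ← Spec.map_comp_assoc, ← CommRingCat.ofHom_comp,
        ← CommRingCat.ofHom_comp, hcomm])
  have hkj : k ≫ jf = specHom (algebraMap A₁ L) str₁ := by ext1; exact hk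
  have huf : Spec.map (CommRingCat.ofHom lf) ≫ Spec.map (CommRingCat.ofHom τ') ≫ hW₀.fromSpec = u := by
    rw [← Category.assoc, ← Spec.map_comp, ← CommRingCat.ofHom_comp, hτ']
    exact hχ
  -- the map of the open subscheme to the chart lies over the base
  have hfm : (Spec.map (CommRingCat.ofHom τ') ≫ hW₀.fromSpec) ≫ m.left =
      Spec.map (CommRingCat.ofHom (algebraMap A₁ (Localization.Away f))) ≫
        Spec.map (CommRingCat.ofHom φ) := by
    obtain ⟨ρ, hρ⟩ := Spec.map_surjective ((Spec.map (CommRingCat.ofHom τ') ≫ hW₀.fromSpec) ≫ m.left)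
    rw [← hρ, ← Spec.map_comp]
    refine congrArg Spec.map (CommRingCat.hom_ext (RingHom.ext fun a => hlinj ?_))
    have e : Spec.map (CommRingCat.ofHom lf) ≫ Spec.map ρ =
        Spec.map (CommRingCat.ofHom ((algebraMap A₁ L).comp φ)) := by
      rw [hρ, Category.assoc, reassoc_of% huf, hum]
    rw [← Spec.map_comp] at e
    exact (RingHom.congr_fun (congrArg CommRingCat.Hom.hom (Spec.map_injective e)) a).trans
      (RingHom.congr_fun hlf (φ a)).symm
  let uf : Tf ⟶ U := Over.homMk (Spec.map (CommRingCat.ofHom τ') ≫ hW₀.fromSpec) (by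
    rw [← Over.w m, ← Category.assoc, hfm, Category.assoc]
    rfl)
  have hufm : uf ≫ m = jf ≫ fA := by ext1; exact hfm
  obtain ⟨⟨mt, a, ha⟩, hgt⟩ := InDict.exists_aut (z := c) h ((yon S).map uf ≫ π)
  obtain rfl : mt = jf ≫ fA := (yon S).map_injective (by
    rw [← InDict.comp_fst h hgt, Category.assoc, ← hm, ← Functor.map_comp, hufm])
  let wL : TK ⟶ W := Over.homMk pL (by
    rw [← Over.w w, ← Category.assoc, show pL ≫ w.left = Spec.map (CommRingCat.ofHom κ) from hκ'.symm]
    exact Over.w jκ)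
  have hwL : wL ≫ w = jκ := by ext1; exact hκ'.symm
  have hwp : wL ≫ p = k ≫ uf := by ext1; exact huf.symm
  have hgg : (yon S).map k ≫ (yon S).map uf ≫ π = (yon S).map jκ ≫ g := by
    rw [← Functor.map_comp_assoc, ← hwp, ← hwL, Functor.map_comp, Functor.map_comp, Category.assoc,
      Category.assoc, sqW.w]
  obtain ⟨p₁, hp₁⟩ := InDict.exists_pull h k (⟨jf ≫ fA, a, ha⟩ : InDict.AutTri c Tf)
  obtain ⟨p₂, hp₂⟩ := InDict.exists_pull h jκ q
  have r₁ := InDict.rel_comp h hgt hp₁
  rw [hgg] at r₁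
  obtain rfl : p₁ = p₂ := InDict.aut_unique h r₁ (InDict.rel_comp h hg hp₂)
  let mkA : Over.mk fA ⟶ Over.mk (𝟙 T) := Over.homMk fA (by simp)
  let mkf : Over.mk (jf ≫ fA) ⟶ Over.mk fA := Over.homMk jf rfl
  let μk : Over.mk p₁.m ⟶ Over.mk (jf ≫ fA) := Over.homMk k hp₁.m.symm
  let μκ : Over.mk p₁.m ⟶ Over.mk j := Over.homMk jκ hp₂.m.symm
  have hl₁ : 𝒳.p.IsHomLift fA (c.map mkA) := Yoneda.map_isHomLift c mkA
  have hl₂ : 𝒳.p.IsHomLift jf (c.map mkf) := Yoneda.map_isHomLift c mkf
  have hl₃ : 𝒳.p.IsHomLift k (c.map μk) := Yoneda.map_isHomLift c μk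
  have hl₄ : 𝒳.p.IsHomLift jκ (c.map μκ) := Yoneda.map_isHomLift c μκ
  have hμ : c.map μk ≫ c.map mkf ≫ c.map mkA = c.map μκ ≫ c.map mk' := by
    simp only [← c.toFunctor.map_comp]
    congr 1
    apply Over.OverMorphism.ext
    change k ≫ jf ≫ fA = jκ ≫ j
    rw [← Category.assoc, hkj]
    ext1
    change Spec.map _ ≫ Spec.map _ = Spec.map _ ≫ Spec.map _
    rw [← Spec.map_comp, ← Spec.map_comp, ← CommRingCat.ofHom_comp, ← CommRingCat.ofHom_comp, hcomm]
  have ea : c.map μk ≫ a = p₁.a ≫ c.map μk := hp₁.a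
  have eb : c.map μκ ≫ θ ≫ s ≫ inv θ = p₁.a ≫ c.map μκ := hp₂.a
  refine ⟨A₁, inferInstance, inferInstance, inferInstance, L, inferInstance, inferInstance, inferInstance,
    φ, κ, hcomm, hloc, jκ, rfl, f, hf, k, hkj, H9.Val.appTop_specMap_injective (CommRingCat.ofHom lf) hlinj,
    c.obj (Over.mk fA), c.obj (Over.mk (jf ≫ fA)), c.obj (Over.mk p₁.m), c.map mkA ≫ ε.hom, c.map mkf,
    c.map μk, c.map μκ ≫ θ, a, inferInstance, hl₂, hl₃,
    IsHomLift.comp_lift_id_right' 𝒳.p jκ (c.map μκ) (Over.mk (Spec.map (CommRingCat.ofHom (algebraMap A K)) ≫ str)) θ, ha, ?_, ?_⟩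
  · rw [Category.assoc, eθ, reassoc_of% hμ]
  · rw [reassoc_of% ea, reassoc_of% hμ, Category.assoc, ← eθ]
    have eb' : c.map μκ ≫ θ ≫ s = p₁.a ≫ c.map μκ ≫ θ := by
      rw [← reassoc_of% eb, IsIso.inv_hom_id, Category.comp_id]
    rw [reassoc_of% eb']

end Groth.Agent.H14.IsoNat.ValExt
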